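import Cfsg.Agent.Lib.Classical.Unitary.Structure
import Cfsg.Agent.Lib.Classical.Unitary.Isotropic

/-!
Tools for small actions of special unitary groups: elements fixing a subspace pointwise,
transitivity on vectors of given norm, isotropic spanning and index bounds from fixed points.
-/

set_option autoImplicit false

namespace CfsgLib.LocalEvenB.MinIndexSU

open CfsgLib.Classical CfsgLib.Classical.Herm

variable {F : Type*} [Field F] {V : Type*} [AddCommGroup V] [Module F V] {σ : F →+* F}
  {B : V →ₛₗ[σ] V →ₗ[F] F}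

/-- An element of the special unitary group as a linear equivalence. -/
abbrev ap (g : HSU B) : V ≃ₗ[F] V := ((g : HU B) : V ≃ₗ[F] V)

theorem ap_mul (g k : HSU B) (y : V) : ap (g * k) y = ap g (ap k y) := rfl

theorem ap_one (y : V) : ap (1 : HSU B) y = y := rfl

theorem ap_inv_apply (g : HSU B) (y : V) : ap g⁻¹ (ap g y) = y := by
  rw [← ap_mul, inv_mul_cancel, ap_one]

theorem ap_apply_inv (g : HSU B) (y : V) : ap g (ap g⁻¹ y) = y := by
  rw [← ap_mul, mul_inv_cancel, ap_one]

theorem ap_eq (g : HSU B) (u w : V) : B (ap g u) (ap g w) = B u w := HU.map_eq (g : HU B) u w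

theorem ap_ext {g k : HSU B} (e : ∀ y, ap g y = ap k y) : g = k :=
  Subtype.ext (Subtype.ext (LinearEquiv.ext e))

/-- The additive group of skew elements. -/
def skew (σ : F →+* F) : AddSubgroup F where
  carrier := {c | c + σ c = 0}
  add_mem' := fun {a b} (ha : a + σ a = 0) (hb : b + σ b = 0) => by
    show a + b + σ (a + b) = 0
    rw [map_add]; linear_combination ha + hb
  zero_mem' := by simp
  neg_mem' := fun {a} (ha : a + σ a = 0) => by
    show -a + σ (-a) = 0
    rw [map_neg]; linear_combination -ha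

theorem mem_skew {c : F} : c ∈ skew σ ↔ c + σ c = 0 := Iff.rfl

theorem finite_HSU [Finite V] : Finite (HSU B) := by
  have : Finite (V ≃ₗ[F] V) := Finite.of_injective _ DFunLike.coe_injective
  infer_instance

variable (h : IsHerm B)
include h

theorem card_skew [Finite F] : Nat.card (skew σ) = Nat.card (fixedSub σ) := by
  obtain ⟨θ, hθ0, hθ⟩ := h.invol.exists_skew
  refine (Nat.card_congr (Equiv.ofBijective
    (fun x : fixedSub σ => (⟨(x : F) * θ, by
      rw [mem_skew, map_mul, show σ (x : F) = x from x.2, hθ]; ring⟩ : skew σ)) ⟨?_, ?_⟩)).symm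
  · intro a b e
    exact Subtype.ext (mul_right_cancel₀ hθ0 (congrArg Subtype.val e))
  · intro c
    have hc : σ (c : F) = -(c : F) := eq_neg_of_add_eq_zero_right (mem_skew.1 c.2)
    refine ⟨⟨(c : F) / θ, ?_⟩, Subtype.ext (div_mul_cancel₀ _ hθ0)⟩
    rw [mem_fixedSub, map_div₀, hc, hθ, neg_div_neg_eq]

/-- The submodule spanned by the isotropic vectors is everything. -/
theorem top_of_isotropic [Finite F] [FiniteDimensional F V] (h2 : 2 ≤ Module.finrank F V)
    (M : Submodule F V) (hM : ∀ u, u ≠ 0 → B u u = 0 → u ∈ M) : M = ⊤ := by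
  obtain ⟨u, hu0, huu⟩ := h.exists_isotropic h2
  obtain ⟨g, hug, hgg⟩ := h.exists_isotropic_partner hu0 huu
  have hg0 : g ≠ 0 := by rintro rfl; simp at hug
  have hgu : B g u = 1 := by rw [← h.symm, hug, map_one]
  have hu := hM u hu0 huu
  have hg := hM g hg0 hgg
  rw [eq_top_iff]
  intro y _
  have hsub : y - B g y • u - B u y • g ∈ M := by
    set r := y - B g y • u - B u y • g with hr
    have hur : B u r = 0 := by
      simp only [hr, map_sub, smul_right, huu, hug]; ring
    have hgr : B g r = 0 := by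
      simp only [hr, map_sub, smul_right, hgg, hgu]; ring
    obtain ⟨t, ht⟩ := h.invol.exists_trace_eq (μ := -B r r) (by rw [map_neg, h.self_fixed])
    have hz : B (g + r + t • u) (g + r + t • u) = 0 := by
      simp only [map_add, LinearMap.add_apply, smul_left, smul_right, hgg, hgu, hgr,
        h.eq_zero_symm hgr, hug, hur, h.eq_zero_symm hur, huu]
      linear_combination ht
    have hne : g + r + t • u ≠ 0 := fun e => by
      have := congrArg (B u) e
      simp [map_add, hug, hur, huu] at this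
    have := M.sub_mem (M.sub_mem (hM _ hne hz) hg) (M.smul_mem t hu)
    rwa [add_sub_right_comm, add_sub_cancel_right, add_sub_cancel_left] at this
  have := M.add_mem (M.add_mem hsub (M.smul_mem (B u y) hg)) (M.smul_mem (B g y) hu)
  rwa [sub_add_cancel, sub_add_cancel] at this

/-- An element fixing a non-degenerate subspace pointwise comes from its orthogonal complement. -/
theorem exists_extend_eq [Finite F] [FiniteDimensional F V] {W : Submodule F V}
    (hW : ∀ x ∈ W, (∀ y ∈ W, B x y = 0) → x = 0) (g : HSU B) (hfix : ∀ w ∈ W, ap g w = w) :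
    ∃ b ∈ HSU (IsHerm.restrict B (h.orth W)), h.extend hW b = (g : HU B) := by
  have hgU : ∀ y, y ∈ h.orth W ↔ ap g y ∈ h.orth W := by
    intro y
    rw [h.mem_orth, h.mem_orth]
    refine forall₂_congr fun w hw => ?_
    conv_rhs => rw [← hfix w hw, ap_eq]
  let b : HU (IsHerm.restrict B (h.orth W)) :=
    ⟨restrictEquiv (ap g) _ hgU, fun y z => ap_eq g (y : V) z⟩
  have hgb : h.extend hW b = (g : HU B) := by
    ext y
    obtain ⟨w, v, rfl⟩ := CfsgLib.Classical.exists_decomp (h.isCompl_orth hW) y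
    rw [h.extend_apply]
    show _ = ap g _
    rw [map_add, hfix _ w.2]
    rfl
  refine ⟨b, ?_, hgb⟩
  rw [MonoidHom.mem_ker, ← h.det_extend hW, hgb]
  exact g.2

/-- The extension of the special unitary group of a complement. -/
noncomputable def ext' [Finite F] [FiniteDimensional F V] {W : Submodule F V}
    (hW : ∀ x ∈ W, (∀ y ∈ W, B x y = 0) → x = 0) : HSU (IsHerm.restrict B (h.orth W)) →* HSU B :=
  ((h.extend hW).comp (HSU (IsHerm.restrict B (h.orth W))).subtype).codRestrict _ fun b => by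
    rw [MonoidHom.mem_ker, MonoidHom.comp_apply]
    exact (h.det_extend hW _).trans b.2

theorem ext'_fix [Finite F] [FiniteDimensional F V] {W : Submodule F V}
    (hW : ∀ x ∈ W, (∀ y ∈ W, B x y = 0) → x = 0) (b : HSU (IsHerm.restrict B (h.orth W))) {w : V}
    (hw : w ∈ W) : ap (ext' h hW b) w = w := by
  have := h.extend_apply hW (b : HU (IsHerm.restrict B (h.orth W))) ⟨w, hw⟩ 0
  rw [map_zero, ZeroMemClass.coe_zero, add_zero] at this
  exact this

theorem ext'_apply [Finite F] [FiniteDimensional F V] {W : Submodule F V}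
    (hW : ∀ x ∈ W, (∀ y ∈ W, B x y = 0) → x = 0) (b : HSU (IsHerm.restrict B (h.orth W)))
    (u : h.orth W) : ap (ext' h hW b) (u : V) = ((ap b u : h.orth W) : V) := by
  have := h.extend_apply hW (b : HU (IsHerm.restrict B (h.orth W))) 0 u
  rw [ZeroMemClass.coe_zero, zero_add, zero_add] at this
  exact this

theorem exists_ext'_eq [Finite F] [FiniteDimensional F V] {W : Submodule F V}
    (hW : ∀ x ∈ W, (∀ y ∈ W, B x y = 0) → x = 0) (g : HSU B) (hfix : ∀ w ∈ W, ap g w = w) :
    ∃ b, ext' h hW b = g := by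
  obtain ⟨b, hb, e⟩ := exists_extend_eq h hW g hfix
  exact ⟨⟨b, hb⟩, Subtype.ext e⟩

/-- The special unitary group is transitive on non-zero vectors of a given norm. -/
theorem exists_map [Finite F] [FiniteDimensional F V] (h3 : 3 ≤ Module.finrank F V) {x y : V}
    (hx : x ≠ 0) (hy : y ≠ 0) (hxy : B x x = B y y) : ∃ g : HSU B, ap g x = y := by
  by_cases h0 : B x x = 0
  · obtain ⟨g, hg, e⟩ := h.transitive_isotropic h3 hx hy h0 (hxy ▸ h0)
    exact ⟨⟨g, h.trGroup_le hg⟩, e⟩
  · obtain ⟨g, hg, e⟩ := h.exists_det_one_map (by omega) h0 hxy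
    exact ⟨⟨g, hg⟩, e⟩

/-- The same, fixing a non-degenerate subspace pointwise. -/
theorem exists_fix_map [Finite F] [FiniteDimensional F V] {W : Submodule F V}
    (hW : ∀ x ∈ W, (∀ y ∈ W, B x y = 0) → x = 0) (h3 : 3 ≤ Module.finrank F (h.orth W)) {x y : V}
    (hxW : x ∈ h.orth W) (hyW : y ∈ h.orth W) (hx : x ≠ 0) (hy : y ≠ 0) (hxy : B x x = B y y) :
    ∃ g : HSU B, (∀ w ∈ W, ap g w = w) ∧ ap g x = y := by
  obtain ⟨b, hb⟩ := exists_map (h.restrict_herm (h.orth_nondeg hW)) h3
    (x := ⟨x, hxW⟩) (y := ⟨y, hyW⟩) (fun e => hx (congrArg Subtype.val e))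
    (fun e => hy (congrArg Subtype.val e)) hxy
  refine ⟨ext' h hW b, fun w hw => ext'_fix h hW b hw, ?_⟩
  rw [show x = ((⟨x, hxW⟩ : h.orth W) : V) from rfl, ext'_apply, hb]

/-- A transvection in the special unitary group. -/
noncomputable def T [FiniteDimensional F V] {u : V} (hu : B u u = 0) {c : F}
    (hc : c + σ c = 0) : HSU B :=
  ⟨h.tr hu hc, h.det_tr hu hc⟩

theorem T_apply [FiniteDimensional F V] {u : V} (hu : B u u = 0) {c : F} (hc : c + σ c = 0)
    (y : V) : ap (T h hu hc) y = y + (c * B u y) • u := h.tr_apply hu hc y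

/-- A subgroup containing the transvections at the isotropic vectors of a complement contains the
group they generate. -/
theorem mem_of_trGroup [Finite F] [FiniteDimensional F V] {W : Submodule F V}
    (hW : ∀ x ∈ W, (∀ y ∈ W, B x y = 0) → x = 0) (H : Subgroup (HSU B))
    (hH : ∀ u, u ≠ 0 → u ∈ h.orth W → ∀ (huu : B u u = 0) (c : F) (hc : c + σ c = 0),
      T h huu hc ∈ H)
    (b : HSU (IsHerm.restrict B (h.orth W)))
    (hb : (b : HU (IsHerm.restrict B (h.orth W))) ∈ (h.restrict_herm (h.orth_nondeg hW)).trGroup) :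
    ext' h hW b ∈ H := by
  suffices h.extend hW (b : HU (IsHerm.restrict B (h.orth W))) ∈ H.map (HSU B).subtype by
    obtain ⟨g', hg', e'⟩ := Subgroup.mem_map.1 this
    rwa [← Subtype.ext (show ((g' : HSU B) : HU B) = ext' h hW b from e')]
  generalize (b : HU (IsHerm.restrict B (h.orth W))) = b' at hb ⊢
  induction hb using Subgroup.closure_induction with
  | mem y hy =>
    obtain ⟨u, hu, c, hc, rfl⟩ := hy
    have hu' : B (u : V) (u : V) = 0 := hu
    by_cases hu0 : (u : V) = 0
    · have : (h.restrict_herm (h.orth_nondeg hW)).tr hu hc = 1 := by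
        refine Subtype.ext (LinearEquiv.ext fun y => ?_)
        rw [IsHerm.tr_apply, show u = 0 from Subtype.ext hu0, smul_zero, add_zero]
        rfl
      rw [this, map_one]
      exact one_mem _
    refine Subgroup.mem_map.2 ⟨T h hu' hc, hH _ hu0 u.2 hu' c hc, ?_⟩
    refine Subtype.ext (LinearEquiv.ext fun y => ?_)
    obtain ⟨w, v, rfl⟩ := CfsgLib.Classical.exists_decomp (h.isCompl_orth hW) y
    rw [h.extend_apply]
    show (h.tr hu' hc : V ≃ₗ[F] V) _ = _
    rw [IsHerm.tr_apply, IsHerm.tr_apply, map_add,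
      h.eq_zero_symm (h.mem_orth.1 u.2 w w.2), zero_add, IsHerm.restrict_apply]
    push_cast
    abel
  | one => simp
  | mul y z _ _ hy hz => rw [map_mul]; exact mul_mem hy hz
  | inv y _ hy => rw [map_inv]; exact inv_mem hy

/-- A subgroup containing the transvections at the isotropic vectors of a complement contains all
elements fixing the subspace. -/
theorem mem_of_fix [Finite F] [FiniteDimensional F V] {W : Submodule F V}
    (hW : ∀ x ∈ W, (∀ y ∈ W, B x y = 0) → x = 0) (h2 : 2 ≤ Module.finrank F (h.orth W))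
    (hex : Module.finrank F (h.orth W) = 3 → Nat.card (fixedSub σ) ≠ 2) (H : Subgroup (HSU B))
    (hH : ∀ u, u ≠ 0 → u ∈ h.orth W → ∀ (huu : B u u = 0) (c : F) (hc : c + σ c = 0),
      T h huu hc ∈ H)
    (g : HSU B) (hfix : ∀ w ∈ W, ap g w = w) : g ∈ H := by
  obtain ⟨b, rfl⟩ := exists_ext'_eq h hW g hfix
  refine mem_of_trGroup h hW H hH b ?_
  rw [(h.restrict_herm (h.orth_nondeg hW)).trGroup_eq h2 hex]
  exact b.2

omit h in
/-- An element fixing a line bounds the number of vectors in the orbit of that line. -/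
theorem card_le_index_mul [Finite V] (H : Subgroup (HSU B)) (c : V) (X : Set V) (R : Set F)
    (hR : R.Finite) (hc : ∀ g ∈ H, ∃ e : F, e ≠ 0 ∧ e • c = ap g c)
    (hX : ∀ x ∈ X, ∃ (g : HSU B) (a : F), x = a • ap g c)
    (hXR : ∀ x ∈ X, ∀ (g : HSU B) (a : F), x = a • ap g c → a ∈ R) :
    Nat.card X ≤ H.index * Nat.card R := by
  have := finite_HSU (B := B)
  have : Finite R := hR.to_subtype
  have key : ∀ x : X, ∃ p : (HSU B ⧸ H) × R, (x : V) = (p.2 : F) • ap p.1.out c := by
    rintro ⟨x, hx⟩
    obtain ⟨g, a, rfl⟩ := hX x hx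
    obtain ⟨⟨k, hk⟩, e⟩ := QuotientGroup.mk_out_eq_mul H g
    obtain ⟨r, hr0, hr⟩ := hc k hk
    have e2 : a • ap g c = (a / r) • ap (QuotientGroup.mk g : HSU B ⧸ H).out c := by
      rw [e, ap_mul, ← hr, LinearEquiv.map_smul, smul_smul, div_mul_cancel₀ _ hr0]
    exact ⟨(QuotientGroup.mk g, ⟨a / r, hXR _ hx _ _ e2⟩), e2⟩
  choose p hp using key
  rw [Subgroup.index, ← Nat.card_prod]
  exact Nat.card_le_card_of_injective p fun x y e => Subtype.ext (by rw [hp x, hp y, e])

end CfsgLib.LocalEvenB.MinIndexSU
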