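import Cfsg.Agent.Lib.LocalEvenB.MinIndexSU.Setting

/-!
Elements acting without fixed vectors on the quotient of the Eichler group fix a unique orbit of
the transvection group among the moved points.
-/

set_option autoImplicit false

namespace CfsgLib.LocalEvenB.MinIndexSU

open CfsgLib.Classical CfsgLib.Classical.Herm

variable {F : Type*} [Field F] {V : Type*} [AddCommGroup V] [Module F V] {σ : F →+* F}
  {B : V →ₛₗ[σ] V →ₗ[F] F} (h : IsHerm B) [Finite F] [FiniteDimensional F V]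
  {Ω : Type*} [MulAction (HSU B) Ω]

namespace HPair

variable (P : HPair B)

/-- Being moved by the transvection group. -/
def Moved (x : Ω) : Prop := ∃ (c : F) (hc : c + σ c = 0), P.Tv h hc • x ≠ x

/-- Being fixed up to the transvection group. -/
def ZFix (g : HSU B) (x : Ω) : Prop := ∃ (c : F) (hc : c + σ c = 0), g • x = P.Tv h hc • x

/-- The conclusions of `rigid`, for all moved points. -/
def Rigid (Ω : Type*) [MulAction (HSU B) Ω] : Prop :=
  ∀ x : Ω, P.Moved h x → (∀ u ∈ P.EU h, u • x = x → u = 1) ∧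
    ∀ x' : Ω, P.Moved h x' → ∃ u ∈ P.EU h, u • x = x'

variable {P h}

theorem Rigid.eq_of_smul_eq (hR : P.Rigid h Ω) {x : Ω} (hx : P.Moved h x) {a b : HSU B}
    (ha : a ∈ P.EU h) (hb : b ∈ P.EU h) (e : a • x = b • x) : a = b :=
  inv_mul_eq_one.1 ((hR x hx).1 _ ((P.EU h).mul_mem ((P.EU h).inv_mem ha) hb)
    (by rw [mul_smul, ← e, inv_smul_smul]))

theorem Levi.moved {g : HSU B} {α : F} (hg : P.Levi h g α) {x : Ω} (hx : P.Moved h x) :
    P.Moved h (g • x) := by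
  obtain ⟨c, hc, hcx⟩ := hx
  refine ⟨α * σ α * c, by rw [map_mul, map_mul, h.invol.invol]; linear_combination (α * σ α) * hc,
    fun e => hcx (smul_left_cancel g ?_)⟩
  rw [← mul_smul, hg.mul_Tv hc, mul_smul]
  exact e

theorem moved_orbit {u : HSU B} (hu : u ∈ P.EU h) {x : Ω} (hx : P.Moved h x) :
    P.Moved h (u • x) := by
  obtain ⟨c, hc, hcx⟩ := hx
  refine ⟨c, hc, fun e => hcx (smul_left_cancel u ?_)⟩
  rw [← mul_smul, P.EU_comm_Tv h hc hu, mul_smul]
  exact e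

theorem exists_centre (hR : P.Rigid h Ω) {t : HSU B} {α : F} (ht : P.Levi h t α)
    (hfpf : ∀ w, ht.map w = w → w = 0) {x₀ : Ω} (hx₀ : P.Moved h x₀) :
    ∃ u ∈ P.EU h, P.ZFix h t (u • x₀) := by
  have : Finite (P.W h) := Module.finite_of_finite F
  obtain ⟨_, ⟨w₀, a₀, rfl⟩, hu₀⟩ := (hR x₀ hx₀).2 (t • x₀) (ht.moved hx₀)
  obtain ⟨w₁, hw₁⟩ := (Finite.injective_iff_surjective.1
    (show Function.Injective fun w => w - ht.map w from fun a b e => sub_eq_zero.1 (hfpf _ (by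
      have e' : a - ht.map a = b - ht.map b := e
      rw [map_sub]
      linear_combination (norm := module) -e')))) w₀
  obtain ⟨a₁, ha₁⟩ := h.invol.exists_trace_eq (μ := -B (w₁ : V) w₁)
    (by rw [map_neg, h.self_fixed])
  refine ⟨_, ⟨w₁, ⟨a₁, ha₁⟩, rfl⟩, ?_⟩
  obtain ⟨a', e1⟩ : ∃ a',
      t • P.El h w₁ ⟨a₁, ha₁⟩ • x₀ = P.El h (ht.map w₁) a' • t • x₀ :=
    ⟨_, by rw [← mul_smul, ht.mul_El, mul_smul]⟩
  rw [← hu₀, ← mul_smul (P.El h _ a'), El_mul] at e1
  have hw : ht.map w₁ + w₀ = w₁ := by rw [← hw₁]; exact add_sub_cancel _ _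
  obtain ⟨a, ha⟩ : ∃ a : P.Par h w₁,
      t • P.El h w₁ ⟨a₁, ha₁⟩ • x₀ = P.El h w₁ a • x₀ := by
    revert e1
    generalize P.parMul h a' a₀ = b
    revert b
    rw [hw]
    exact fun a' e => ⟨a', e⟩
  have hc : (a : F) - a₁ + σ ((a : F) - a₁) = 0 := by
    rw [map_sub]; linear_combination a.2 - ha₁
  refine ⟨_, hc, ha.trans ?_⟩
  rw [← mul_smul, Tv_mul_El]
  congr 1
  exact P.El_congr h _ _ rfl (by simp)

theorem zfix_of_commute (hR : P.Rigid h Ω) {t : HSU B} {α : F} (ht : P.Levi h t α)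
    (hfpf : ∀ w, ht.map w = w → w = 0) {x : Ω} (hx : P.Moved h x) (htx : P.ZFix h t x)
    {k : HSU B} {β : F} (hk : P.Levi h k β) (hcomm : t * k = k * t) : P.ZFix h k x := by
  obtain ⟨c, hc, htx⟩ := htx
  obtain ⟨_, ⟨w', a', rfl⟩, hu'⟩ := (hR x hx).2 (k • x) (hk.moved hx)
  have e1 : t • k • x = P.Tv h (show β * σ β * c + σ (β * σ β * c) = 0 by
      rw [map_mul, map_mul, h.invol.invol]; linear_combination (β * σ β) * hc) •
      P.El h w' a' • x := by
    rw [← mul_smul, hcomm, mul_smul, htx, ← mul_smul, hk.mul_Tv hc, mul_smul, ← hu']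
  rw [← hu', ← mul_smul, ht.mul_El, mul_smul, htx, ← mul_smul, ← mul_smul] at e1
  have e2 := hR.eq_of_smul_eq hx ((P.EU h).mul_mem ⟨_, _, rfl⟩ (P.Tv_mem h hc))
    ((P.EU h).mul_mem (P.Tv_mem h _) ⟨_, _, rfl⟩) e1
  rw [El_comm_Tv, Tv_mul_El, Tv_mul_El] at e2
  have hw' : w' = 0 := hfpf _ (P.El_inj h e2).1
  subst hw'
  refine ⟨(a' : F), by simpa using a'.2, ?_⟩
  rw [← hu']
  congr 1
  refine ap_ext fun y => ?_
  rw [El_apply, MinIndexSU.T_apply]
  simp

end HPair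

end CfsgLib.LocalEvenB.MinIndexSU
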