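import Cfsg.Agent.Lib.LocalEvenB.MinIndexSU.Basic

/-!
Multiples of a proper additive subgroup of the skew elements by non-zero fixed scalars.
-/

set_option autoImplicit false

namespace CfsgLib.LocalEvenB.MinIndexSU

open CfsgLib.Classical CfsgLib.Classical.Herm

variable {F : Type*} [Field F] {σ : F →+* F}

/-- The multiples of a set by the non-zero elements of the fixed field. -/
def classes (σ : F →+* F) (A : Set F) : Set (Set F) :=
  Set.range fun μ : {μ : fixedSub σ // μ ≠ 0} => (fun c => ((μ.1 : fixedSub σ) : F) * c) '' A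

theorem classes_bound {V : Type*} [AddCommGroup V] [Module F V] {B : V →ₛₗ[σ] V →ₗ[F] F}
    (h : IsHerm B) [Finite F] (A : AddSubgroup F) (hA : A ≤ skew σ) {c₀ : F} (hc₀ : c₀ ∈ skew σ)
    (hc₀A : c₀ ∉ A) :
    Nat.card A ≤ (classes σ A).ncard ∧ (1 < Nat.card A → Nat.card A < (classes σ A).ncard) := by
  classical
  rw [← Nat.card_coe_set_eq]
  set C := Nat.card (classes σ A) with hC
  let M : AddSubgroup (fixedSub σ) :=
    { carrier := {μ | ∀ a ∈ A, (μ : F) * a ∈ A}
      add_mem' := fun {x y} hx hy a ha => by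
        show ((x + y : fixedSub σ) : F) * a ∈ A
        rw [Subfield.coe_add, add_mul]; exact A.add_mem (hx a ha) (hy a ha)
      zero_mem' := fun a _ => by simp [A.zero_mem]
      neg_mem' := fun {x} hx a ha => by
        show ((-x : fixedSub σ) : F) * a ∈ A
        rw [Subfield.coe_neg, neg_mul]; exact A.neg_mem (hx a ha) }
  have hM1 : (1 : fixedSub σ) ∈ M := fun a ha => by simpa using ha
  have hM2 : 2 ≤ Nat.card M := Finite.one_lt_card_iff_nontrivial.2
    ⟨⟨⟨1, hM1⟩, 0, fun e => one_ne_zero (congrArg Subtype.val e)⟩⟩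
  have h1 : Nat.card M * Nat.card A ≤ Nat.card (fixedSub σ) := by
    rw [← card_skew h, ← Nat.card_prod]
    refine Nat.card_le_card_of_injective (fun p => (⟨((p.1 : fixedSub σ) : F) * c₀ + p.2, by
      refine (skew σ).add_mem ?_ (hA p.2.2)
      rw [mem_skew, map_mul, (p.1 : fixedSub σ).2]
      have := mem_skew.1 hc₀
      show _ * c₀ + ((p.1 : fixedSub σ) : F) * σ c₀ = 0
      rw [← mul_add, this, mul_zero]⟩ : skew σ)) ?_
    rintro ⟨μ, a⟩ ⟨μ', a'⟩ e
    have e' : ((μ : fixedSub σ) : F) * c₀ + a = ((μ' : fixedSub σ) : F) * c₀ + a' :=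
      congrArg Subtype.val e
    by_cases hμ : μ = μ'
    · subst hμ
      exact Prod.ext rfl (Subtype.ext (add_left_cancel e'))
    exfalso
    set δ : M := μ - μ' with hδ
    have hδ0 : ((δ : fixedSub σ) : F) ≠ 0 := fun hz => hμ (sub_eq_zero.1 (Subtype.ext (Subtype.ext hz)))
    have hsurj : Function.Surjective (fun b : A => (⟨((δ : fixedSub σ) : F) * b, δ.2 b b.2⟩ : A)) :=
      Finite.surjective_of_injective fun b b' eb =>
        Subtype.ext (mul_left_cancel₀ hδ0 (congrArg Subtype.val eb))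
    obtain ⟨b, hb⟩ := hsurj (a' - a)
    have hb' : ((δ : fixedSub σ) : F) * b = a' - a := congrArg Subtype.val hb
    apply hc₀A
    rw [show c₀ = b from mul_left_cancel₀ hδ0 (by
      rw [hb', hδ, AddSubgroupClass.coe_sub, Subfield.coe_sub]
      linear_combination e')]
    exact b.2
  have h2 : Nat.card (fixedSub σ) - 1 ≤ C * (Nat.card M - 1) := by
    have e1 : ∀ (X : Type _) [Zero X] [Finite X], Nat.card {x : X // x ≠ 0} = Nat.card X - 1 := by
      intro X _ _
      have := Fintype.ofFinite X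
      rw [Nat.card_eq_fintype_card, Nat.card_eq_fintype_card, Fintype.card_subtype_compl,
        Fintype.card_subtype_eq]
    rw [hC, ← e1 (fixedSub σ), ← e1 M, ← Nat.card_prod]
    let cl : {μ : fixedSub σ // μ ≠ 0} → classes σ A := fun μ => ⟨_, μ, rfl⟩
    have hsec : ∀ k : classes σ A, ∃ μ, cl μ = k := fun k => by
      obtain ⟨μ, e⟩ := k.2
      exact ⟨μ, Subtype.ext e⟩
    choose sec hs using hsec
    have key : ∀ μ : {μ : fixedSub σ // μ ≠ 0}, μ.1 / (sec (cl μ)).1 ∈ M := by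
      intro μ a ha
      have e : (fun c => ((μ.1 : fixedSub σ) : F) * c) '' (A : Set F) =
          (fun c => (((sec (cl μ)).1 : fixedSub σ) : F) * c) '' A :=
        (congrArg Subtype.val (hs (cl μ))).symm
      obtain ⟨b, hb, eb⟩ := e ▸ (Set.mem_image_of_mem _ ha : _ ∈
        (fun c => ((μ.1 : fixedSub σ) : F) * c) '' (A : Set F))
      have hne : (((sec (cl μ)).1 : fixedSub σ) : F) ≠ 0 := fun hz =>
        (sec (cl μ)).2 (Subtype.ext hz)
      rw [Subfield.coe_div, show ((μ.1 : fixedSub σ) : F) / ((sec (cl μ)).1 : fixedSub σ) * a = b by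
        rw [div_mul_eq_mul_div, div_eq_iff hne, mul_comm b]; exact eb.symm]
      exact hb
    refine Nat.card_le_card_of_injective (fun μ => (cl μ, (⟨⟨_, key μ⟩, fun e =>
      (div_ne_zero μ.2 (sec (cl μ)).2) (congrArg Subtype.val e)⟩ : {x : M // x ≠ 0}))) ?_
    intro μ μ' e
    obtain ⟨e1, e2⟩ := Prod.ext_iff.1 e
    have e3 : μ.1 / (sec (cl μ)).1 = μ'.1 / (sec (cl μ')).1 :=
      congrArg (fun x : {x : M // x ≠ 0} => ((x.1 : M) : fixedSub σ)) e2
    rw [show cl μ' = cl μ from e1.symm] at e3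
    exact Subtype.ext ((div_left_inj' (sec (cl μ)).2).1 e3)
  have h0 : 0 < Nat.card A := Nat.card_pos
  refine ⟨?_, fun hA1 => ?_⟩
  · by_contra hlt
    push Not at hlt
    have h3 : C * (Nat.card M - 1) ≤ (Nat.card A - 1) * (Nat.card M - 1) :=
      Nat.mul_le_mul_right _ (by omega)
    obtain ⟨a, ha⟩ : ∃ a, Nat.card A = a + 1 := ⟨Nat.card A - 1, by omega⟩
    obtain ⟨m, hm⟩ : ∃ m, Nat.card M = m + 2 := ⟨Nat.card M - 2, by omega⟩
    rw [ha, hm] at h1 h3
    rw [hm] at h2
    simp only [Nat.add_sub_cancel, show m + 2 - 1 = m + 1 by omega] at h2 h3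
    ring_nf at h1 h2 h3
    omega
  · by_contra hlt
    push Not at hlt
    have h3 : C * (Nat.card M - 1) ≤ Nat.card A * (Nat.card M - 1) :=
      Nat.mul_le_mul_right _ hlt
    obtain ⟨a, ha⟩ : ∃ a, Nat.card A = a + 2 := ⟨Nat.card A - 2, by omega⟩
    obtain ⟨m, hm⟩ : ∃ m, Nat.card M = m + 2 := ⟨Nat.card M - 2, by omega⟩
    rw [ha, hm] at h1 h3
    rw [hm] at h2
    simp only [show m + 2 - 1 = m + 1 by omega] at h2 h3
    ring_nf at h1 h2 h3
    omega

end CfsgLib.LocalEvenB.MinIndexSU
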