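import Cfsg.Agent.Lib.LocalEvenB.MinIndexSU.Basic

/-!
Numbers of vectors of a given norm, and the arithmetic of the number of isotropic points.
-/

set_option autoImplicit false

namespace CfsgLib.LocalEvenB.MinIndexSU

open CfsgLib.Classical CfsgLib.Classical.Herm

theorem ordFactor_le (q i : ℕ) : ordFactor q i ≤ q ^ (i + 1) + 1 := by
  unfold ordFactor; split_ifs <;> omega

theorem le_ordFactor (q i : ℕ) : q ^ (i + 1) - 1 ≤ ordFactor q i := by
  unfold ordFactor; split_ifs <;> omega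

/-- The number of isotropic points of a unitary space of dimension `n`. -/
def Pn (q n : ℕ) : ℕ := ordFactor q (n - 1) * ordFactor q (n - 2) / (q ^ 2 - 1)

theorem Pn_mul_le (q n : ℕ) :
    Pn q n * (q ^ 2 - 1) ≤ ordFactor q (n - 1) * ordFactor q (n - 2) := Nat.div_mul_le_self _ _

theorem Pn_bound {q d : ℕ} (hq : 2 ≤ q) (hd : 3 ≤ d) :
    q * Pn q (d + 2) ≤ (q + 1) * q ^ (2 * d + 1) := by
  have h1 := Pn_mul_le q (d + 2)
  rw [show d + 2 - 1 = d + 1 by omega, show d + 2 - 2 = d by omega] at h1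
  have h2 := h1.trans (Nat.mul_le_mul (ordFactor_le q (d + 1)) (ordFactor_le q d))
  have hq2 : 4 ≤ q ^ 2 := by nlinarith
  have ha : 1 ≤ q ^ 2 := by omega
  refine Nat.le_of_mul_le_mul_right ?_ (show 0 < q ^ 2 - 1 by omega)
  calc q * Pn q (d + 2) * (q ^ 2 - 1) = q * (Pn q (d + 2) * (q ^ 2 - 1)) := by ring
    _ ≤ q * ((q ^ (d + 1 + 1) + 1) * (q ^ (d + 1) + 1)) := Nat.mul_le_mul_left q h2
    _ ≤ _ := by
      obtain ⟨e, rfl⟩ : ∃ e, d = e + 3 := ⟨d - 3, by omega⟩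
      zify [ha]
      have hq' : (2 : ℤ) ≤ q := by exact_mod_cast hq
      have hy : (1 : ℤ) ≤ (q : ℤ) ^ e := one_le_pow₀ (by linarith)
      have e1 : (q : ℤ) ^ (e + 3 + 1 + 1) = q ^ e * q ^ 5 := by ring
      have e2 : (q : ℤ) ^ (e + 3 + 1) = q ^ e * q ^ 4 := by ring
      have e3 : (q : ℤ) ^ (2 * (e + 3) + 1) = (q ^ e) ^ 2 * q ^ 7 := by ring
      rw [e1, e2, e3]
      generalize (q : ℤ) ^ e = y at hy
      have hp : ∀ k : ℕ, (0 : ℤ) ≤ (q : ℤ) ^ k := fun k => pow_nonneg (by linarith) k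
      have h7 : (2 : ℤ) * q ^ 6 ≤ q ^ 7 := by nlinarith [hp 6]
      have h6 : (2 : ℤ) * q ^ 5 ≤ q ^ 6 := by nlinarith [hp 5]
      have h5 : (q : ℤ) ≤ q ^ 5 := by nlinarith [hp 4, one_le_pow₀ (M₀ := ℤ) (a := q) (n := 4) (by linarith)]
      have hs : (1 : ℤ) ≤ (q : ℤ) ^ 2 - q - 1 := by nlinarith
      have : q * (y * q ^ 5) + q * (y * q ^ 4) + q ≤ y ^ 2 * q ^ 7 * ((q : ℤ) ^ 2 - q - 1) := by
        have a1 : q * (y * q ^ 5) + q * (y * q ^ 4) + (q : ℤ) ≤ y * q ^ 7 := by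
          nlinarith
        have a2 : y * (q : ℤ) ^ 7 ≤ y ^ 2 * q ^ 7 := mul_le_mul_of_nonneg_right (by nlinarith) (hp 7)
        have a3 : y ^ 2 * (q : ℤ) ^ 7 ≤ y ^ 2 * q ^ 7 * ((q : ℤ) ^ 2 - q - 1) :=
          le_mul_of_one_le_right (by positivity) hs
        linarith
      nlinarith

theorem Pn_bound' {q d : ℕ} (hq : 2 ≤ q) (hd : 3 ≤ d) :
    Pn q (d + 2) ≤ 2 * q ^ (2 * d + 1) := by
  refine Nat.le_of_mul_le_mul_left ?_ (show 0 < q by omega)
  refine (Pn_bound hq hd).trans ?_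
  rw [← mul_assoc]
  exact Nat.mul_le_mul_right _ (by omega)

theorem Pn_six {q : ℕ} (hq : 2 ≤ q) : Pn q 6 = (q ^ 4 + q ^ 2 + 1) * (q ^ 5 + 1) := by
  have hq2 : 4 ≤ q ^ 2 := by nlinarith
  have h6 : 1 ≤ q ^ 6 := Nat.one_le_pow _ _ (by omega)
  rw [Pn, ordFactor, ordFactor, if_neg (by decide), if_pos (by decide)]
  refine Nat.div_eq_of_eq_mul_left (by omega) ?_
  norm_num
  zify [show 1 ≤ q ^ 2 by omega, h6]
  ring

theorem two_mul_pow_le_Pn {q d : ℕ} (hq : 3 ≤ q) (hd : 5 ≤ d) : 2 * q ^ d ≤ Pn q d := by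
  have hq2 : 9 ≤ q ^ 2 := by nlinarith
  rw [Pn, Nat.le_div_iff_mul_le (by omega)]
  obtain ⟨e, rfl⟩ : ∃ e, d = e + 5 := ⟨d - 5, by omega⟩
  refine le_trans ?_ (Nat.mul_le_mul (le_ordFactor q _) (le_ordFactor q _))
  rw [show e + 5 - 1 + 1 = e + 5 by omega, show e + 5 - 2 + 1 = e + 4 by omega]
  have a1 : 1 ≤ q ^ (e + 5) := Nat.one_le_pow _ _ (by omega)
  have a2 : 1 ≤ q ^ (e + 4) := Nat.one_le_pow _ _ (by omega)
  zify [a1, a2, show 1 ≤ q ^ 2 by omega]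
  have hq' : (3 : ℤ) ≤ q := by exact_mod_cast hq
  have hy : (1 : ℤ) ≤ (q : ℤ) ^ e := one_le_pow₀ (by linarith)
  rw [show (q : ℤ) ^ (e + 5) = q ^ e * q ^ 5 by ring, show (q : ℤ) ^ (e + 4) = q ^ e * q ^ 4 by ring]
  generalize (q : ℤ) ^ e = y at hy
  have h4 : (9 : ℤ) ≤ q ^ 2 := by nlinarith
  have h5 : (0 : ℤ) ≤ q ^ 5 := by positivity
  have h6 : 4 * (q : ℤ) ^ 2 ≤ q ^ 4 := by nlinarith
  have h7 : y * q ^ 5 * (4 * (q : ℤ) ^ 2) ≤ y * q ^ 5 * (y * q ^ 4) := by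
    apply mul_le_mul_of_nonneg_left _ (by positivity)
    nlinarith
  have h8 : (q : ℤ) ^ 4 ≤ q ^ 5 := by nlinarith
  have h9 : y * (q : ℤ) ^ 4 ≤ y * q ^ 5 := mul_le_mul_of_nonneg_left h8 (by linarith)
  have h10 : (0 : ℤ) ≤ y * q ^ 7 := by positivity
  nlinarith

theorem Pn_le_nonsing {q m : ℕ} (hq : 3 ≤ q) (hm : 1 ≤ m) :
    Pn q (m + 1) * (q + 1) ≤ q ^ m * ordFactor q m := by
  have h1 := Pn_mul_le q (m + 1)
  rw [show m + 1 - 1 = m by omega, show m + 1 - 2 = m - 1 by omega,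
    show q ^ 2 - 1 = (q + 1) * (q - 1) by zify [show 1 ≤ q by omega, show 1 ≤ q ^ 2 by nlinarith]; ring]
    at h1
  have h2 : ordFactor q (m - 1) ≤ q ^ m * (q - 1) := by
    refine (ordFactor_le q _).trans ?_
    rw [show m - 1 + 1 = m by omega]
    have h3 : 1 ≤ q ^ m := Nat.one_le_pow _ _ (by omega)
    calc q ^ m + 1 ≤ q ^ m * 2 := by omega
      _ ≤ _ := Nat.mul_le_mul_left _ (by omega)
  refine Nat.le_of_mul_le_mul_right ?_ (show 0 < q - 1 by omega)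
  calc Pn q (m + 1) * (q + 1) * (q - 1) ≤ ordFactor q m * ordFactor q (m - 1) := by
        rw [mul_assoc]; exact h1
    _ ≤ ordFactor q m * (q ^ m * (q - 1)) := Nat.mul_le_mul_left _ h2
    _ = _ := by ring

variable {F : Type*} [Field F] {V : Type*} [AddCommGroup V] [Module F V] {σ : F →+* F}
  {B : V →ₛₗ[σ] V →ₗ[F] F} (h : IsHerm B)
include h

variable [Finite F] [FiniteDimensional F V]

theorem card_norm_ne_zero {m : ℕ} (hn : Module.finrank F V = m + 1) {μ : F} (hμ : μ ≠ 0)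
    (hμ' : σ μ = μ) :
    Nat.card {x : V // x ≠ 0 ∧ B x x = μ} =
      Nat.card (fixedSub σ) ^ m * ordFactor (Nat.card (fixedSub σ)) m := by
  have : Fintype F := Fintype.ofFinite F
  rw [Nat.card_congr (Equiv.subtypeEquivRight fun x => show (x ≠ 0 ∧ B x x = μ) ↔ B x x = μ from
    ⟨And.right, fun hx => ⟨fun h0 => hμ (by rw [← hx, h0, zero_left]), hx⟩⟩),
    h.card_norm_eq_count hn, normCount_scale h.invol _ hμ hμ', normCount_one h.invol, ordFactor]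
  by_cases hm : Even m
  · rw [if_pos hm, if_neg (by rw [Nat.even_add_one]; exact not_not_intro hm)]
  · rw [if_neg hm, if_pos (Nat.even_add_one.2 hm)]

/-- A lower bound for the number of non-zero vectors of a given norm. -/
theorem le_card_norm {m : ℕ} (hn : Module.finrank F V = m + 2) {μ : F} (hμ : σ μ = μ) :
    (Nat.card (fixedSub σ) ^ (m + 1) - 1) * (Nat.card (fixedSub σ) ^ (m + 2) - 1) ≤
      Nat.card {x : V // x ≠ 0 ∧ B x x = μ} := by
  by_cases h0 : μ = 0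
  · subst h0
    rw [h.card_isotropic_ne_zero hn, mul_comm]
    exact Nat.mul_le_mul (le_ordFactor _ _) (le_ordFactor _ _)
  · rw [card_norm_ne_zero h hn h0 hμ]
    exact Nat.mul_le_mul (Nat.sub_le _ _) (le_ordFactor _ _)

theorem card_norm_four (hn : Module.finrank F V = 4) {μ : F} (hμ : σ μ = μ) :
    Nat.card (fixedSub σ) ^ 3 * (Nat.card (fixedSub σ) ^ 4 - 1) ≤
      Nat.card {x : V // x ≠ 0 ∧ B x x = μ} := by
  by_cases h0 : μ = 0
  · subst h0
    rw [h.card_isotropic_ne_zero (m := 2) hn, ordFactor, ordFactor, if_neg (by decide),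
      if_pos (by decide), mul_comm]
    exact Nat.mul_le_mul (Nat.le_refl _) (Nat.le_succ _)
  · rw [card_norm_ne_zero h (m := 3) hn h0 hμ, ordFactor, if_neg (by decide)]

theorem card_norm_three (hn : Module.finrank F V = 3) {μ : F} (hμ : σ μ = μ) :
    (Nat.card (fixedSub σ) ^ 2 - 1) * (Nat.card (fixedSub σ) ^ 3 + 1) ≤
      Nat.card {x : V // x ≠ 0 ∧ B x x = μ} := by
  by_cases h0 : μ = 0
  · subst h0
    rw [h.card_isotropic_ne_zero (m := 1) hn, ordFactor, ordFactor, if_pos (by decide),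
      if_neg (by decide), mul_comm]
  · rw [card_norm_ne_zero h (m := 2) hn h0 hμ, ordFactor, if_pos (by decide)]
    exact Nat.mul_le_mul (Nat.sub_le _ _) le_rfl

end CfsgLib.LocalEvenB.MinIndexSU
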