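import Cfsg.Agent.Lib.LocalEvenB.MinIndexSU.Fix
import Cfsg.Agent.Lib.LocalEvenB.MinIndexSU.Counts

/-!
The isotropic points whose transvections lie in a subgroup of small index.
-/

set_option autoImplicit false

namespace CfsgLib.LocalEvenB.MinIndexSU

open CfsgLib.Classical CfsgLib.Classical.Herm

variable {F : Type*} [Field F] {V : Type*} [AddCommGroup V] [Module F V] {σ : F →+* F}
  {B : V →ₛₗ[σ] V →ₗ[F] F} (h : IsHerm B) [Finite F] [FiniteDimensional F V]

/-- The isotropic vectors with all transvections in a subgroup. -/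
def InS (H : Subgroup (HSU B)) (s : V) : Prop :=
  ∃ hs : B s s = 0, s ≠ 0 ∧ ∀ (c : F) (hc : c + σ c = 0), T h hs hc ∈ H

variable {h} {H : Subgroup (HSU B)}

theorem InS.iso {s : V} (hs : InS h H s) : B s s = 0 := hs.1

theorem InS.ne {s : V} (hs : InS h H s) : s ≠ 0 := hs.2.1

theorem InS.mem {s : V} (hs : InS h H s) (hss : B s s = 0) {c : F} (hc : c + σ c = 0) :
    T h hss hc ∈ H := hs.2.2 c hc

theorem InS.smul {s : V} (hs : InS h H s) {a : F} (ha : a ≠ 0) : InS h H (a • s) := by
  obtain ⟨hss, hs0, hT⟩ := hs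
  refine ⟨by rw [IsHerm.smul_self, hss, mul_zero], smul_ne_zero ha hs0, fun c hc => ?_⟩
  have hc' : c * (a * σ a) + σ (c * (a * σ a)) = 0 := by
    rw [map_mul, map_mul, h.invol.invol]; linear_combination (a * σ a) * hc
  convert hT _ hc' using 1
  refine ap_ext fun y => ?_
  rw [T_apply, T_apply, smul_left, smul_smul]
  congr 2
  ring

theorem InS.of_smul {s : V} {a : F} (hs : InS h H (a • s)) : InS h H s := by
  have ha : a ≠ 0 := fun e => hs.ne (by rw [e, zero_smul])
  have := hs.smul (inv_ne_zero ha)
  rwa [inv_smul_smul₀ ha] at this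

theorem InS.map {s : V} (hs : InS h H s) {g : HSU B} (hg : g ∈ H) : InS h H (ap g s) := by
  obtain ⟨hss, hs0, hT⟩ := hs
  refine ⟨(ap_eq g s s).trans hss, fun e => hs0 ((ap g).injective (e.trans (map_zero _).symm)),
    fun c hc => ?_⟩
  have e : g * T h hss hc * g⁻¹ = T h ((ap_eq g s s).trans hss) hc :=
    Subtype.ext (h.conj_tr hss hc (g : HU B))
  rw [← e]
  exact H.mul_mem (H.mul_mem hg (hT c hc)) (H.inv_mem hg)

theorem InS.line {s t : V} (hs : InS h H s) (ht : InS h H t) (hst : B s t ≠ 0) {b : F}
    (hx : B (s + b • t) (s + b • t) = 0) : InS h H (s + b • t) := by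
  have hts : B t s ≠ 0 := fun e => hst (h.eq_zero_symm e)
  simp only [map_add, LinearMap.add_apply, smul_left, smul_right, hs.iso, ht.iso, mul_zero,
    add_zero, zero_add] at hx
  have hc : b / B t s + σ (b / B t s) = 0 := by
    rw [map_div₀, h.symm]
    field_simp
    linear_combination hx
  have := hs.map (ht.mem ht.iso hc)
  rwa [T_apply, div_mul_cancel₀ _ hts] at this

variable (h)

theorem exists_not_inS (h3 : 3 ≤ Module.finrank F V)
    (hex : Module.finrank F V = 3 → Nat.card (fixedSub σ) ≠ 2) (hH : H ≠ ⊤) :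
    ∃ v, v ≠ 0 ∧ B v v = 0 ∧ ¬ InS h H v := by
  by_contra hc
  push Not at hc
  refine hH (eq_top_iff.2 fun g _ => ?_)
  suffices (g : HU B) ∈ H.map (HSU B).subtype by
    obtain ⟨g', hg', e⟩ := Subgroup.mem_map.1 this
    rwa [← Subtype.ext (show ((g' : HSU B) : HU B) = g from e)]
  refine (?_ : h.trGroup ≤ H.map (HSU B).subtype)
    (by rw [h.trGroup_eq (by omega) hex]; exact g.2)
  rw [IsHerm.trGroup, Subgroup.closure_le]
  rintro _ ⟨u, hu, c, hc', rfl⟩
  by_cases hu0 : u = 0
  · have : h.tr hu hc' = 1 := Subtype.ext (LinearEquiv.ext fun y => by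
      rw [IsHerm.tr_apply, hu0, smul_zero, add_zero]; rfl)
    rw [this]
    exact one_mem _
  exact Subgroup.mem_map.2 ⟨T h hu hc', (hc u hu0 hu).mem hu hc', rfl⟩

/-- No anisotropic vector has all isotropic vectors of its hyperplane marked. -/
theorem false_of_perp {m : ℕ} (hm : Module.finrank F V = m + 1) (h4 : 4 ≤ m)
    (hH : H ≠ ⊤) (hN : H.index * (Nat.card (fixedSub σ) + 1) <
      Nat.card (fixedSub σ) ^ m * ordFactor (Nat.card (fixedSub σ)) m)
    {c : V} (hc : B c c ≠ 0) (hS : ∀ x, x ≠ 0 → B x x = 0 → B c x = 0 → InS h H x) : False := by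
  classical
  have : Finite V := Module.finite_of_finite F
  have hr := h.finrank_perp hc
  have hW : ∀ p ∈ Submodule.span F ({c} : Set V),
      (∀ r ∈ Submodule.span F ({c} : Set V), B p r = 0) → p = 0 := by
    intro p hp hrad
    obtain ⟨r, rfl⟩ := Submodule.mem_span_singleton.1 hp
    have := hrad c (Submodule.mem_span_singleton_self c)
    rw [smul_left, mul_eq_zero] at this
    rw [IsInvol.apply_eq_zero_iff.1 (this.resolve_right hc), zero_smul]
  have hc0 : c ≠ 0 := fun e => hc (by rw [e, zero_left])
  have hro := h.finrank_orth hW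
  rw [finrank_span_singleton hc0] at hro
  have hmem : ∀ z, B c z = 0 → z ∈ h.orth (Submodule.span F ({c} : Set V)) := fun z hz => by
    rw [h.mem_orth]
    intro p hp
    obtain ⟨r, rfl⟩ := Submodule.mem_span_singleton.1 hp
    rw [smul_left, hz, mul_zero]
  by_cases hout : ∃ y, InS h H y ∧ B c y ≠ 0
  · obtain ⟨y, hy, hcy⟩ := hout
    obtain ⟨v, hv0, hvv, hv⟩ := exists_not_inS h (by omega) (fun _ => by omega) hH
    have hcv : B c v ≠ 0 := fun e => hv (hS v hv0 hvv e)
    set a := (B c c)⁻¹
    have key : ∀ u, B u u = 0 → B c u ≠ 0 → B c ((B c u)⁻¹ • u - a • c) = 0 ∧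
        B ((B c u)⁻¹ • u - a • c) ((B c u)⁻¹ • u - a • c) = -a := by
      intro u hu hcu
      have huc : B u c ≠ 0 := fun e => hcu (h.eq_zero_symm e)
      refine ⟨?_, ?_⟩
      · rw [map_sub, smul_right, smul_right, inv_mul_cancel₀ hcu, inv_mul_cancel₀ hc, sub_self]
      · simp only [map_sub, LinearMap.sub_apply, smul_left, smul_right, hu, map_inv₀, h.self_fixed,
          h.symm, a]
        field_simp
        ring
    obtain ⟨k1, k2⟩ := key y hy.iso hcy
    obtain ⟨k3, k4⟩ := key v hvv hcv
    have hne : ∀ z, B z z = -a → z ≠ 0 := fun z hz e => by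
      rw [e, zero_left, eq_comm, neg_eq_zero] at hz
      exact inv_ne_zero hc hz
    obtain ⟨g, hgfix, hgz⟩ := exists_fix_map h hW (by omega) (hmem _ k1) (hmem _ k3) (hne _ k2)
      (hne _ k4) (k2.trans k4.symm)
    have hgH : g ∈ H := mem_of_fix h hW (by omega) (fun _ => by omega) H
      (fun u hu0 hu huu c' hc' => (hS u hu0 huu (h.mem_orth.1 hu c
        (Submodule.mem_span_singleton_self c))).mem huu hc') g hgfix
    have h1 := (hy.smul (inv_ne_zero hcy)).map hgH
    have h2 : ap g ((B c y)⁻¹ • y) = (B c v)⁻¹ • v := by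
      rw [map_sub, LinearEquiv.map_smul (ap g) a c,
        hgfix c (Submodule.mem_span_singleton_self c)] at hgz
      exact sub_left_injective hgz
    rw [h2] at h1
    exact hv h1.of_smul
  · push Not at hout
    have hpres : ∀ g ∈ H, ∀ u, B c u = 0 → B c (ap g u) = 0 := by
      intro g hg u hu
      have htop := top_of_isotropic (h.restrict_perp hc)
        (by omega) ((h.perp c).comap ((ap g).toLinearMap.comp (h.perp c).subtype)) (fun z hz hzz => by
          rw [Submodule.mem_comap, h.mem_perp]
          exact hout _ ((hS z (fun e => hz (Subtype.ext e)) hzz (h.mem_perp.1 z.2)).map hg))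
      have : (⟨u, h.mem_perp.2 hu⟩ : h.perp c) ∈
          (h.perp c).comap ((ap g).toLinearMap.comp (h.perp c).subtype) := by
        rw [htop]; exact Submodule.mem_top
      exact h.mem_perp.1 this
    have hfix : ∀ g ∈ H, ∃ e : F, e ≠ 0 ∧ e • c = ap g c := by
      intro g hg
      obtain ⟨r, z, hr', hz, e⟩ :=
        Submodule.codisjoint_iff_exists_add_eq.1 (h.isCompl_perp hc).codisjoint (ap g c)
      obtain ⟨e', rfl⟩ := Submodule.mem_span_singleton.1 hr'
      have hz0 : z = 0 := h.perp_nondeg hc z hz fun u hu => by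
        have h1 : B (ap g c) u = 0 := by
          rw [← ap_apply_inv g u, ap_eq]
          exact hpres _ (H.inv_mem hg) u (h.mem_perp.1 hu)
        rw [← e, add_left, smul_left, h.mem_perp.1 hu, mul_zero, zero_add] at h1
        exact h1
      rw [hz0, add_zero] at e
      exact ⟨e', fun e0 => hc0 ((ap g).injective (by rw [← e, e0, zero_smul, map_zero])), e⟩
    have h1 := card_le_index_mul H c {x : V | x ≠ 0 ∧ B x x = B c c} {a | a * σ a = 1}
      (Set.toFinite _) hfix (fun x ⟨hx0, hx⟩ => by
        obtain ⟨g, hg⟩ := exists_map h (by omega) hc0 hx0 hx.symm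
        exact ⟨g, 1, by rw [hg, one_smul]⟩)
      (fun x ⟨_, hx⟩ g a e => by
        rw [e, IsHerm.smul_self, ap_eq] at hx
        exact mul_right_cancel₀ hc (hx.trans (one_mul _).symm))
    rw [Set.coe_ofPred, Set.coe_ofPred, card_norm_ne_zero h hm hc (h.self_fixed c),
      h.invol.card_norm_fibre one_ne_zero (map_one σ)] at h1
    omega

/-- No isotropic vector has all isotropic vectors of its hyperplane, apart from its line,
marked. -/
theorem false_of_radical {d : ℕ} (hd : Module.finrank F V = d + 2) (h3 : 3 ≤ d)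
    (hq : 3 ≤ Nat.card (fixedSub σ)) (hH : H ≠ ⊤)
    (hN : H.index * (Nat.card (fixedSub σ) ^ 2 - 1) <
      ordFactor (Nat.card (fixedSub σ)) (d + 1) * ordFactor (Nat.card (fixedSub σ)) d)
    {p : V} (hp0 : p ≠ 0) (hpp : B p p = 0)
    (hS : ∀ x, B x x = 0 → B p x = 0 → (∀ a : F, a • p ≠ x) → InS h H x) : False := by
  classical
  have : Finite V := Module.finite_of_finite F
  -- vectors of the form `r • p + w`
  have mk : ∀ (P : HPair B), P.v = p → ∀ (r : F) (w : P.W h), w ≠ 0 → B (w : V) w = 0 →
      InS h H (r • p + (w : V)) := by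
    intro P hP r w hw hww
    subst hP
    refine hS _ ?_ ?_ ?_
    · simp [smul_left, smul_right, P.vv, P.vw w, P.wv w, hww]
    · rw [map_add, smul_right, P.vv, P.vw w, mul_zero, add_zero]
    · intro a e
      refine hw (Subtype.ext ?_)
      have e1 : (a - r) • P.v = (w : V) := by rw [sub_smul, e, add_sub_cancel_left]
      have e2 := congrArg (B P.f) e1
      rw [smul_right, P.fv h, P.fw w, mul_one] at e2
      rw [← e1, e2, zero_smul]; rfl
  by_cases hout : ∃ y, InS h H y ∧ B p y ≠ 0
  · obtain ⟨y₀, hy₀, hpy⟩ := hout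
    let P : HPair B := ⟨p, (B p y₀)⁻¹ • y₀, hpp, by rw [IsHerm.smul_self, hy₀.iso, mul_zero],
      by rw [smul_right, inv_mul_cancel₀ hpy]⟩
    have hf : InS h H P.f := hy₀.smul (inv_ne_zero hpy)
    have hrW := P.finrank_W h hd
    have hH' := h.restrict_herm (h.orth_nondeg (P.nondeg h))
    obtain ⟨w, hw0, hww⟩ := hH'.exists_isotropic (by rw [hrW]; omega)
    obtain ⟨z, hwz, hzz⟩ := hH'.exists_isotropic_partner hw0 hww
    rw [IsHerm.restrict_apply] at hww hwz hzz
    have hzw : B (z : V) w = 1 := by rw [← h.symm, hwz, map_one]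
    obtain ⟨θ, hθ0, hθ⟩ := h.exists_skew
    have hθ' : σ θ = -θ := eq_neg_of_add_eq_zero_right hθ
    -- the point itself is marked
    have hp : InS h H p := by
      have : Fintype (fixedSub σ) := Fintype.ofFinite _
      obtain ⟨μ, hμ0, hμ1⟩ : ∃ μ : fixedSub σ, μ ≠ 0 ∧ μ ≠ -1 := by
        by_contra hc
        push Not at hc
        have hsub : (Finset.univ : Finset (fixedSub σ)) ⊆ {0, -1} := fun k _ => by
          rcases eq_or_ne k 0 with hk | hk
          · simp [hk]
          · simp [hc k hk]
        have h1 := Finset.card_le_card hsub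
        rw [Finset.card_univ, ← Nat.card_eq_fintype_card] at h1
        have h2 : ({0, -1} : Finset (fixedSub σ)).card ≤ 2 := Finset.card_le_two
        omega
      have hμ0' : (μ : F) ≠ 0 := fun e => hμ0 (Subtype.ext e)
      set l : F := -1 / (μ : F) with hl
      have hl0 : l ≠ 0 := div_ne_zero (neg_ne_zero.2 one_ne_zero) hμ0'
      have hlw : l • w ≠ 0 := smul_ne_zero hl0 hw0
      have hs1 := mk P rfl 1 w hw0 hww
      have hs2 := mk P rfl 1 (l • w) hlw (by
        rw [Submodule.coe_smul, IsHerm.smul_self, hww, mul_zero])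
      rw [one_smul] at hs1 hs2
      have hμθ : (μ : F) * θ + σ ((μ : F) * θ) = 0 := by
        rw [map_mul, show σ (μ : F) = μ from μ.2, hθ']; ring
      have h1 := hf.map (hs1.mem hs1.iso hθ)
      rw [T_apply, add_left, P.wf w, add_zero] at h1
      rw [show B p P.f = 1 from P.vf, mul_one] at h1
      have h2 := h1.map (hs2.mem hs2.iso hμθ)
      have hB : B (p + ((l • w : P.W h) : V)) (P.f + θ • (p + (w : V))) = 1 := by
        simp only [Submodule.coe_smul, map_add, LinearMap.add_apply, smul_left, smul_right,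
          show B p P.f = 1 from P.vf, show B p (w : V) = 0 from P.vw w, hpp, P.wf w,
          show B (w : V) p = 0 from P.wv w, hww]
        ring
      rw [T_apply, hB, mul_one] at h2
      set b := θ + (μ : F) * θ with hb
      have hb0 : b ≠ 0 := by
        rw [hb, ← one_add_mul]
        refine mul_ne_zero (fun e => hμ1 (Subtype.ext ?_)) hθ0
        rw [Subfield.coe_neg, Subfield.coe_one]
        linear_combination e
      have e : P.f + θ • (p + (w : V)) + ((μ : F) * θ) • (p + ((l • w : P.W h) : V)) =
          P.f + b • p := by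
        rw [Submodule.coe_smul, hb, hl]
        match_scalars <;> field_simp <;> ring
      rw [e] at h2
      have h3 := h2.line (b := -1) hf (by
          simp [add_left, smul_left, P.ff, show B p P.f = 1 from P.vf]
          exact fun e' => hb0 e')
        (by
          rw [show P.f + b • p + (-1 : F) • P.f = b • p by module, IsHerm.smul_self, hpp, mul_zero])
      rw [show P.f + b • p + (-1 : F) • P.f = b • p by module] at h3
      exact h3.of_smul
    have hall : ∀ x, x ≠ 0 → B x x = 0 → B p x = 0 → InS h H x := fun x hx hxx hpx => by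
      by_cases hax : ∀ a : F, a • p ≠ x
      · exact hS x hxx hpx hax
      · push Not at hax
        obtain ⟨a, rfl⟩ := hax
        exact hp.smul fun e => hx (by rw [e, zero_smul])
    have hK : ∀ g : HSU B, (∀ u ∈ P.plane, ap g u = u) → g ∈ H :=
      mem_of_fix h (P.nondeg h) (by rw [show Module.finrank F (h.orth P.plane) = d from hrW]; omega)
        (fun _ => by omega) H fun u hu0 hu huu c hc =>
          (hall u hu0 huu (h.mem_orth.1 hu _ P.v_mem)).mem huu hc
    -- every partner is marked
    have hpart : ∀ y, B y y = 0 → B p y = 1 → InS h H y := by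
      intro y hyy hpy'
      obtain ⟨u, hu⟩ := P.decomp h y
      rw [show B P.v y = 1 from hpy', one_smul] at hu
      set α := B P.f y
      have hu' : y = α • p + P.f + (u : V) := hu
      have hfp : B P.f p = 1 := P.fv h
      have hnorm : α + σ α + B (u : V) u = 0 := by
        have := hyy
        rw [hu'] at this
        simp only [map_add, LinearMap.add_apply, smul_left, smul_right, hpp,
          show B p P.f = 1 from P.vf, show B p (u : V) = 0 from P.vw u, hfp, P.ff, P.fw u,
          show B (u : V) p = 0 from P.wv u, P.wf u] at this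
        linear_combination this
      have adjust : ∀ r : F, InS h H (r • p + P.f + (u : V)) → InS h H y := by
        intro r hr
        have hrr : r + σ r + B (u : V) u = 0 := by
          have := hr.iso
          simp only [map_add, LinearMap.add_apply, smul_left, smul_right, hpp,
            show B p P.f = 1 from P.vf, show B p (u : V) = 0 from P.vw u, hfp, P.ff, P.fw u,
            show B (u : V) p = 0 from P.wv u, P.wf u] at this
          linear_combination this
        have hc : α - r + σ (α - r) = 0 := by rw [map_sub]; linear_combination hnorm - hrr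
        have h1 := hr.map (hp.mem hpp hc)
        rw [T_apply] at h1
        simp only [map_add, smul_right, hpp, show B p P.f = 1 from P.vf,
          show B p (u : V) = 0 from P.vw u, mul_zero, zero_add, add_zero, mul_one] at h1
        rw [hu']
        convert h1 using 1
        module
      by_cases hu0 : u = 0
      · refine adjust 0 ?_
        rw [hu0]
        simpa using hf
      obtain ⟨t, ht⟩ := h.invol.exists_trace_eq (μ := B (u : V) u) (h.self_fixed _)
      set s : F := t / (θ * σ θ * 1) with hs
      have hs1 := mk P rfl 1 w hw0 hww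
      rw [one_smul] at hs1
      have h1 := hf.map (hs1.mem hs1.iso hθ)
      rw [T_apply, add_left, P.wf w, add_zero, show B p P.f = 1 from P.vf, mul_one] at h1
      by_cases hs0 : s = 0
      · -- isotropic
        have huu : B (u : V) u = 0 := by
          have h0 : t = 0 := by
            rw [hs, div_eq_zero_iff, mul_one] at hs0
            exact hs0.resolve_right (mul_ne_zero hθ0 fun e => hθ0 (IsInvol.apply_eq_zero_iff.1 e))
          rw [← ht, h0]; simp
        obtain ⟨g, hgfix, hgw⟩ := exists_fix_map h (P.nondeg h)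
          (by rw [show Module.finrank F (h.orth P.plane) = d from hrW]; omega)
          (x := θ • (w : V)) (y := (u : V)) (Submodule.smul_mem _ _ w.2) u.2
          (smul_ne_zero hθ0 fun e => hw0 (Subtype.ext e)) (fun e => hu0 (Subtype.ext e))
          (by rw [IsHerm.smul_self, hww, huu, mul_zero])
        have h2 := h1.map (hK g hgfix)
        refine adjust θ ?_
        rw [smul_add, map_add, map_add, LinearEquiv.map_smul _ θ p, hgfix p P.v_mem,
          hgfix P.f P.f_mem, hgw] at h2
        convert h2 using 1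
        abel
      have hs2 := mk P rfl 1 (s • z) (smul_ne_zero hs0 fun e => by
          rw [e, Submodule.coe_zero, map_zero] at hwz; exact zero_ne_one hwz)
        (by rw [Submodule.coe_smul, IsHerm.smul_self, hzz, mul_zero])
      rw [one_smul] at hs2
      have h2 := h1.map (hs2.mem hs2.iso hθ)
      have hB : B (p + ((s • z : P.W h) : V)) (P.f + θ • (p + (w : V))) = 1 + σ s * θ := by
        simp only [Submodule.coe_smul, map_add, LinearMap.add_apply, smul_left, smul_right,
          show B p P.f = 1 from P.vf, show B p (w : V) = 0 from P.vw w, hpp, P.wf z,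
          show B (z : V) p = 0 from P.wv z, hzw]
        ring
      rw [T_apply, hB] at h2
      set γ := θ * (1 + σ s * θ)
      let u₁ : P.W h := θ • w + (γ * s) • z
      have hu₁ : B (u₁ : V) u₁ = B (u : V) u := by
        simp only [u₁, Submodule.coe_add, Submodule.coe_smul, map_add, LinearMap.add_apply,
          smul_left, smul_right, hww, hzz, hwz, hzw, γ, map_mul, map_one, h.invol.invol]
        rw [← ht, hs, map_div₀, map_mul, map_mul, map_one, h.invol.invol, hθ']
        field_simp
        ring
      have hu₁0 : (u₁ : V) ≠ 0 := fun e => by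
        have := congrArg (B (z : V)) e
        simp [u₁, smul_right, hzw, hzz, hθ0] at this
      obtain ⟨g, hgfix, hgw⟩ := exists_fix_map h (P.nondeg h)
        (by rw [show Module.finrank F (h.orth P.plane) = d from hrW]; omega)
        (x := (u₁ : V)) (y := (u : V)) u₁.2 u.2 hu₁0 (fun e => hu0 (Subtype.ext e)) hu₁
      have e : P.f + θ • (p + (w : V)) + γ • (p + ((s • z : P.W h) : V)) =
          (θ + γ) • p + P.f + (u₁ : V) := by
        simp only [u₁, Submodule.coe_add, Submodule.coe_smul]; module
      rw [e] at h2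
      have h3 := h2.map (hK g hgfix)
      refine adjust (θ + γ) ?_
      rwa [map_add, map_add, LinearEquiv.map_smul, hgfix p P.v_mem, hgfix P.f P.f_mem, hgw] at h3
    obtain ⟨v, hv0, hvv, hv⟩ := exists_not_inS h (by omega) (fun _ => by omega) hH
    have hpv : B p v ≠ 0 := fun e => hv (hall v hv0 hvv e)
    exact hv (hpart _ (by rw [IsHerm.smul_self, hvv, mul_zero])
      (by rw [smul_right, inv_mul_cancel₀ hpv]) : InS h H ((B p v)⁻¹ • v)).of_smul
  · push Not at hout
    obtain ⟨f, hpf, hff⟩ := h.exists_isotropic_partner hp0 hpp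
    let P : HPair B := ⟨p, f, hpp, hff, hpf⟩
    have hrW := P.finrank_W h hd
    have hH' := h.restrict_herm (h.orth_nondeg (P.nondeg h))
    obtain ⟨w, hw0, hww⟩ := hH'.exists_isotropic (by rw [hrW]; omega)
    rw [IsHerm.restrict_apply] at hww
    have hpres : ∀ g ∈ H, ∀ u, B p u = 0 → B p (ap g u) = 0 := by
      intro g hg
      have hW' : ∀ u : P.W h, B p (ap g (u : V)) = 0 := by
        have htop := top_of_isotropic hH' (by rw [hrW]; omega)
          ((h.perp p).comap ((ap g).toLinearMap.comp (P.W h).subtype)) (fun z hz hzz => by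
            rw [Submodule.mem_comap, h.mem_perp]
            have hz' := (mk P rfl 0 z hz hzz).map hg
            rw [zero_smul, zero_add] at hz'
            exact hout _ hz')
        intro u
        have : u ∈ (h.perp p).comap ((ap g).toLinearMap.comp (P.W h).subtype) := by
          rw [htop]; exact Submodule.mem_top
        exact h.mem_perp.1 this
      have hgp : B p (ap g p) = 0 := by
        have h1 := hout _ ((mk P rfl 1 w hw0 hww).map hg)
        rwa [map_add, map_add, one_smul, hW' w, add_zero] at h1
      intro u hu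
      obtain ⟨u', hu'⟩ := P.decomp h u
      rw [show B P.v u = 0 from hu, zero_smul, add_zero] at hu'
      rw [hu', map_add, map_add, LinearEquiv.map_smul, smul_right, hW', add_zero,
        show P.v = p from rfl, hgp, mul_zero]
    have hfix : ∀ g ∈ H, ∃ e : F, e ≠ 0 ∧ e • p = ap g p := by
      intro g hg
      have h1 : ∀ u, B p u = 0 → B (ap g p) u = 0 := fun u hu => by
        rw [← ap_apply_inv g u, ap_eq]
        exact hpres _ (H.inv_mem hg) u hu
      obtain ⟨w', e⟩ := P.decomp h (ap g p)
      have hβ : B P.v (ap g p) = 0 := h.eq_zero_symm (h1 p hpp)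
      rw [hβ, zero_smul, add_zero] at e
      have hw' : w' = 0 := Subtype.ext (h.orth_nondeg (P.nondeg h) _ w'.2 fun y hy => by
        have h2 := h1 y (P.vw ⟨y, hy⟩)
        rw [e, add_left, smul_left, P.vw ⟨y, hy⟩, mul_zero, zero_add] at h2
        exact h2)
      rw [hw', ZeroMemClass.coe_zero, add_zero] at e
      exact ⟨_, fun e0 => hp0 ((ap g).injective (by rw [e, e0, zero_smul, map_zero])), e.symm⟩
    have h1 := card_le_index_mul H p {x : V | x ≠ 0 ∧ B x x = 0} {a | a ≠ 0} (Set.toFinite _)
      hfix (fun x ⟨hx0, hx⟩ => by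
        obtain ⟨g, hg⟩ := exists_map h (by omega) hp0 hx0 (hpp.trans hx.symm)
        exact ⟨g, 1, by rw [hg, one_smul]⟩)
      (fun x ⟨hx0, _⟩ g a e e0 => hx0 (by rw [e, e0, zero_smul]))
    have hR : Nat.card {a : F // a ≠ 0} = Nat.card (fixedSub σ) ^ 2 - 1 := by
      have := Fintype.ofFinite F
      rw [← h.invol.card_sq, Nat.card_eq_fintype_card, Nat.card_eq_fintype_card,
        Fintype.card_subtype_compl, Fintype.card_subtype_eq]
    rw [Set.coe_ofPred, Set.coe_ofPred, h.card_isotropic_ne_zero hd, hR] at h1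
    omega

theorem le_index {d : ℕ} (hd : Module.finrank F V = d + 2) (h3 : 3 ≤ d)
    (hq : 3 ≤ Nat.card (fixedSub σ))
    (hamp : ∀ P : HPair B, Amp (IsHerm.restrict B (P.W h)) d (Pn (Nat.card (fixedSub σ)) (d + 2)))
    (hH : H ≠ ⊤) : Pn (Nat.card (fixedSub σ)) (d + 2) ≤ H.index := by
  classical
  by_contra hlt
  push Not at hlt
  set q := Nat.card (fixedSub σ) with hqdef
  have hM := Pn_bound (q := q) (d := d) (by omega) h3
  have hN1 : H.index * (q + 1) < q ^ (d + 1) * ordFactor q (d + 1) :=
    lt_of_lt_of_le (Nat.mul_lt_mul_of_pos_right hlt (by omega))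
      (Pn_le_nonsing (m := d + 1) hq (by omega))
  have hN2 : H.index * (q ^ 2 - 1) < ordFactor q (d + 1) * ordFactor q d :=
    lt_of_lt_of_le (Nat.mul_lt_mul_of_pos_right hlt (by
      have : 3 ^ 2 ≤ q ^ 2 := Nat.pow_le_pow_left hq 2
      omega)) (Pn_mul_le q (d + 2))
  obtain ⟨v, hv0, hvv, hv⟩ := exists_not_inS h (by omega) (fun _ => by omega) hH
  -- a hyperbolic pair at an unmarked vector whose fixer lies in the subgroup
  have fixer : ∀ u, u ≠ 0 → B u u = 0 → ¬ InS h H u →
      ∃ P : HPair B, P.v = u ∧ ∀ g : HSU B, ap g P.v = P.v → ap g P.f = P.f → g ∈ H := by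
    intro u hu0 huu hu
    obtain ⟨f, huf, hff⟩ := h.exists_isotropic_partner hu0 huu
    obtain ⟨c, hc, hm⟩ : ∃ (c : F) (hc : c + σ c = 0), T h huu hc ∉ H := by
      by_contra hcon
      push Not at hcon
      exact hu ⟨huu, hu0, hcon⟩
    let P : HPair B := ⟨u, f, huu, hff, huf⟩
    obtain ⟨f', h1, h2, h3'⟩ := P.exists_fixer h hd h3 hq (hamp P) hM H hlt hc hm
    exact ⟨⟨u, f', huu, h2, h1⟩, rfl, h3'⟩
  have hWS : ∀ P : HPair B, (∀ g : HSU B, ap g P.v = P.v → ap g P.f = P.f → g ∈ H) →
      ∀ w : P.W h, w ≠ 0 → B (w : V) w = 0 → InS h H (w : V) := fun P hP w hw hww =>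
    ⟨hww, fun e => hw (Subtype.ext e), fun c hc => hP _
      (by rw [T_apply, P.wv w, mul_zero, zero_smul, add_zero])
      (by rw [T_apply, P.wf w, mul_zero, zero_smul, add_zero])⟩
  obtain ⟨P, rfl, hP⟩ := fixer v hv0 hvv hv
  have hrW := P.finrank_W h hd
  have hH' := h.restrict_herm (h.orth_nondeg (P.nondeg h))
  have hplane : ∀ g : HSU B, (∀ u ∈ P.plane, ap g u = u) → g ∈ H := fun g hg =>
    hP g (hg _ P.v_mem) (hg _ P.f_mem)
  -- a marked vector outside the plane and its complement
  obtain ⟨x, hx, α, β, w, hxe, hp, hw⟩ : ∃ x, InS h H x ∧ ∃ (α β : F) (w : P.W h),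
      x = α • P.v + β • P.f + (w : V) ∧ ¬ (α = 0 ∧ β = 0) ∧ w ≠ 0 := by
    obtain ⟨w₀, hw₀, hw₀w⟩ := hH'.exists_isotropic (by rw [hrW]; omega)
    rw [IsHerm.restrict_apply] at hw₀w
    by_cases hv' : InS h H (P.v + (w₀ : V))
    · exact ⟨_, hv', 1, 0, w₀, by simp, by simp, hw₀⟩
    by_contra hcon
    have hv'0 : P.v + (w₀ : V) ≠ 0 := fun e => by
      have := congrArg (B P.f) e
      simp [P.fv h, P.fw w₀] at this
    have hv'v : B (P.v + (w₀ : V)) (P.v + (w₀ : V)) = 0 := by
      simp [P.vv, P.vw w₀, P.wv w₀, hw₀w]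
    obtain ⟨P₁, hP₁, hP₁H⟩ := fixer _ hv'0 hv'v hv'
    have hrW₁ := P₁.finrank_W h hd
    have hsub : P₁.W h ≤ P.W h := by
      have htop := top_of_isotropic (h.restrict_herm (h.orth_nondeg (P₁.nondeg h)))
        (by rw [hrW₁]; omega) ((P.W h).comap (P₁.W h).subtype) (fun z hz hzz => by
          rw [Submodule.mem_comap]
          show (z : V) ∈ P.W h
          have hzS := hWS P₁ hP₁H z hz hzz
          obtain ⟨w', e⟩ := P.decomp h (z : V)
          by_cases hw' : w' = 0
          · exfalso
            rw [hw', ZeroMemClass.coe_zero, add_zero] at e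
            have h1 := P₁.vw z
            rw [hP₁, e] at h1
            simp [smul_right, P.vv, P.vf, P.wv w₀, P.wf w₀] at h1
            rw [h1, zero_smul, add_zero] at e
            rw [e] at hzS
            exact hv hzS.of_smul
          · by_cases hp' : B P.f (z : V) = 0 ∧ B P.v (z : V) = 0
            · rw [e, hp'.1, hp'.2, zero_smul, zero_smul, zero_add, zero_add]
              exact w'.2
            · exact absurd ⟨_, hzS, _, _, w', e, hp', hw'⟩ hcon)
      intro y hy
      have : (⟨y, hy⟩ : P₁.W h) ∈ (P.W h).comap (P₁.W h).subtype := by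
        rw [htop]; exact Submodule.mem_top
      exact this
    have heq : P₁.W h = P.W h := Submodule.eq_of_le_of_finrank_eq hsub (hrW₁.trans hrW.symm)
    obtain ⟨y, hy⟩ := hH'.exists_apply_eq_one hw₀
    rw [IsHerm.restrict_apply] at hy
    have h1 := P₁.vw (h := h) ⟨(y : V), by rw [heq]; exact y.2⟩
    rw [hP₁, add_left, P.vw y, hy, zero_add] at h1
    exact one_ne_zero h1
  set p := α • P.v + β • P.f with hpdef
  have hpw : ∀ u : P.W h, B p (u : V) = 0 := fun u => by
    simp [hpdef, smul_left, P.vw u, P.fw u]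
  have hwp : ∀ u : P.W h, B (u : V) p = 0 := fun u => h.eq_zero_symm (hpw u)
  have hp0 : p ≠ 0 := fun e => hp ⟨by
    have := congrArg (B P.f) e
    simpa [hpdef, smul_right, P.ff, P.fv h] using this, by
    have := congrArg (B P.v) e
    simpa [hpdef, smul_right, P.vv, P.vf] using this⟩
  have hxx : B p p + B (w : V) w = 0 := by
    have := hx.iso
    rw [hxe] at this
    simp only [map_add, LinearMap.add_apply, hpw, hwp] at this
    linear_combination this
  have hwne : (w : V) ≠ 0 := fun e => hw (Subtype.ext e)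
  have moves : ∀ (k : F) (u : P.W h), k ≠ 0 → u ≠ 0 →
      B (k • p + (u : V)) (k • p + (u : V)) = 0 → InS h H (k • p + (u : V)) := by
    intro k u hk hu he
    have he' : B (k⁻¹ • (u : V)) (k⁻¹ • (u : V)) = B (w : V) w := by
      simp only [map_add, LinearMap.add_apply, smul_left, smul_right, hpw, hwp] at he
      rw [IsHerm.smul_self, map_inv₀]
      have hsk : σ k ≠ 0 := fun e => hk (IsInvol.apply_eq_zero_iff.1 e)
      field_simp
      linear_combination he - (k * σ k) * hxx
    obtain ⟨g, hgfix, hg⟩ := exists_fix_map h (P.nondeg h)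
      (by rw [show Module.finrank F (h.orth P.plane) = d from hrW]; omega)
      (x := (w : V)) (y := k⁻¹ • (u : V)) w.2 (Submodule.smul_mem _ _ u.2) hwne
      (smul_ne_zero (inv_ne_zero hk) fun e => hu (Subtype.ext e)) he'.symm
    have h1 := (hx.map (hplane g hgfix)).smul hk
    rw [hxe, map_add, hg, hgfix p (Submodule.add_mem _
      (Submodule.smul_mem _ _ P.v_mem) (Submodule.smul_mem _ _ P.f_mem)), smul_add,
      smul_inv_smul₀ hk] at h1
    exact h1
  by_cases hpp : B p p = 0
  · refine false_of_radical h hd h3 hq hH hN2 hp0 hpp fun y hyy hpy hya => ?_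
    obtain ⟨u, hy⟩ := P.decomp h y
    set γ := B P.f y
    set δ := B P.v y
    -- the plane part is orthogonal to the isotropic point
    have hpp' : σ α * β + σ β * α = 0 := by
      have := hpp
      simp only [hpdef, map_add, LinearMap.add_apply, smul_left, smul_right, P.vv, P.vf, P.fv h,
        P.ff] at this
      linear_combination this
    have hpy' : σ α * δ + σ β * γ = 0 := by
      have := hpy
      rw [hy, map_add, hpw] at this
      simp only [hpdef, map_add, LinearMap.add_apply, smul_left, smul_right, P.vv, P.vf, P.fv h,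
        P.ff] at this
      linear_combination this
    obtain ⟨k, hk⟩ : ∃ k, γ • P.v + δ • P.f = k • p := by
      by_cases hβ : β = 0
      · have hα : α ≠ 0 := fun e => hp ⟨e, hβ⟩
        have hδ : δ = 0 := by
          rw [hβ, map_zero, zero_mul, add_zero, mul_eq_zero] at hpy'
          exact hpy'.resolve_left fun e => hα (IsInvol.apply_eq_zero_iff.1 e)
        exact ⟨γ / α, by simp [hpdef, hδ, hβ, smul_smul, div_mul_cancel₀ _ hα]⟩
      · have hsβ : σ β ≠ 0 := fun e => hβ (IsInvol.apply_eq_zero_iff.1 e)
        refine ⟨δ / β, ?_⟩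
        rw [hpdef]
        have hγ : γ = δ / β * α := by
          apply mul_left_cancel₀ hsβ
          rw [div_mul_eq_mul_div, mul_div_assoc', eq_div_iff hβ]
          linear_combination β * hpy' - δ * hpp'
        rw [hγ]
        match_scalars <;> field_simp
    rw [hy, hk]
    by_cases hu : u = 0
    · exfalso
      exact hya k (by rw [hy, hk, hu, ZeroMemClass.coe_zero, add_zero])
    by_cases hk0 : k = 0
    · rw [hk0, zero_smul, zero_add]
      refine hWS P hP u hu ?_
      rwa [hy, hk, hk0, zero_smul, zero_add] at hyy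
    exact moves k u hk0 hu (by rwa [hy, hk] at hyy)
  · -- the anisotropic case
    have hβ : β ≠ 0 := by
      intro e
      apply hpp
      simp [hpdef, e, smul_left, P.vv]
    have hσβ : σ β ≠ 0 := fun e => hβ (IsInvol.apply_eq_zero_iff.1 e)
    set t := B p p / σ β with htdef
    set c := p - t • P.v with hcdef
    have hpv : B p P.v = σ β := by
      simp [hpdef, smul_left, P.vv, P.fv h]
    have hvp : B P.v p = β := by rw [← h.symm, hpv, h.invol.invol]
    have hpc : B p c = 0 := by
      rw [hcdef, map_sub, smul_right, hpv, htdef, div_mul_cancel₀ _ hσβ, sub_self]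
    have hcc : B c c ≠ 0 := by
      have : B c c = -B p p := by
        rw [hcdef]
        simp only [map_sub, LinearMap.sub_apply, smul_left, smul_right, hpv, hvp, P.vv, htdef,
          map_div₀, h.invol.invol, h.self_fixed]
        field_simp
        ring
      rw [this]; exact neg_ne_zero.2 hpp
    refine false_of_perp h (m := d + 1) hd (by omega) hH hN1 hcc fun y hy0 hyy hcy => ?_
    obtain ⟨u, hy⟩ := P.decomp h y
    set γ := B P.f y
    set δ := B P.v y
    have hpp' : B p p = σ α * β + σ β * α := by
      simp only [hpdef, map_add, LinearMap.add_apply, smul_left, smul_right, P.vv, P.vf, P.fv h,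
        P.ff]
      ring
    have hcy' : σ (α - t) * δ + σ β * γ = 0 := by
      have := hcy
      rw [hy, hcdef] at this
      simp only [hpdef, map_add, map_sub, LinearMap.sub_apply, LinearMap.add_apply, smul_left,
        smul_right, P.vv, P.vf, P.fv h, P.ff, P.vw u, P.fw u] at this
      rw [map_sub]
      linear_combination this
    have hst : σ t = B p p / β := by rw [htdef, map_div₀, h.invol.invol, h.self_fixed]
    have hk : γ • P.v + δ • P.f = (δ / β) • p := by
      have hγ : γ = δ / β * α := by
        apply mul_left_cancel₀ hσβ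
        rw [map_sub, hst, hpp'] at hcy'
        rw [div_mul_eq_mul_div, mul_div_assoc', eq_div_iff hβ]
        linear_combination β * hcy' + δ * div_mul_cancel₀ (σ α * β + σ β * α) hβ
      rw [hγ, hpdef]
      match_scalars <;> field_simp
    rw [hy, hk]
    rw [hy, hk] at hyy hy0
    by_cases hδ : δ / β = 0
    · rw [hδ, zero_smul, zero_add] at hyy hy0 ⊢
      exact hWS P hP u (fun e => hy0 (by rw [e]; rfl)) hyy
    refine moves _ u hδ (fun e => ?_) hyy
    rw [e, ZeroMemClass.coe_zero, add_zero, IsHerm.smul_self] at hyy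
    exact hpp ((mul_eq_zero.1 hyy).resolve_left
      (mul_ne_zero hδ fun e' => hδ (IsInvol.apply_eq_zero_iff.1 e')))

end CfsgLib.LocalEvenB.MinIndexSU
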