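import Cfsg.Agent.Lib.LocalEvenB.MinIndexSU.Basic

/-!
Two fixers of orthogonal pairs generate the special unitary group.
-/

set_option autoImplicit false

namespace CfsgLib.LocalEvenB.MinIndexSU

open CfsgLib.Classical CfsgLib.Classical.Herm

variable {F : Type*} [Field F] {V : Type*} [AddCommGroup V] [Module F V] {σ : F →+* F}
  {B : V →ₛₗ[σ] V →ₗ[F] F} (h : IsHerm B) [Finite F] [FiniteDimensional F V]
include h

theorem pair_data {e e' : V} (he : B e e = 1) (he' : B e' e' = 1) (hee : B e e' = 0) :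
    (∀ z ∈ Submodule.span F ({e, e'} : Set V),
      (∀ w ∈ Submodule.span F ({e, e'} : Set V), B z w = 0) → z = 0) ∧
    Module.finrank F (h.orth (Submodule.span F ({e, e'} : Set V))) + 2 = Module.finrank F V := by
  have hd : B e e * B e' e' - B e e' * σ (B e e') ≠ 0 := by
    rw [he, he', hee]; simp
  refine ⟨h.pair_nondeg hd, ?_⟩
  have := h.finrank_orth (h.pair_nondeg hd)
  rw [h.pair_finrank hd] at this
  omega

theorem eq_top_of_pairs {n : ℕ} (hn : Module.finrank F V = n) (h6 : 6 ≤ n)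
    {b : Module.Basis (Fin n) F V} (hb : ∀ i j, B (b i) (b j) = if i = j then 1 else 0)
    (G : Subgroup (HSU B))
    (h01 : ∀ g, ap g (b ⟨0, by omega⟩) = b ⟨0, by omega⟩ →
      ap g (b ⟨1, by omega⟩) = b ⟨1, by omega⟩ → g ∈ G)
    (h23 : ∀ g, ap g (b ⟨2, by omega⟩) = b ⟨2, by omega⟩ →
      ap g (b ⟨3, by omega⟩) = b ⟨3, by omega⟩ → g ∈ G) : G = ⊤ := by
  classical
  have hsym : ∀ i j, B (b i) (b j) = 0 → B (b j) (b i) = 0 := fun i j e => h.eq_zero_symm e
  set e0 := b ⟨0, by omega⟩ with he0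
  set e1 := b ⟨1, by omega⟩ with he1
  set e2 := b ⟨2, by omega⟩ with he2
  set e3 := b ⟨3, by omega⟩ with he3
  set e4 := b ⟨4, by omega⟩ with he4
  set e5 := b ⟨5, by omega⟩ with he5
  have d22 : B e2 e2 = 1 := by simp [he2, hb]
  have d33 : B e3 e3 = 1 := by simp [he3, hb]
  have d23 : B e2 e3 = 0 := by simp [he2, he3, hb]
  obtain ⟨hnd, hrk⟩ := pair_data h d22 d33 d23
  have key : ∀ (x : V) (hxx : B x x = 0) (c : F) (hc : c + σ c = 0), x ≠ 0 → T h hxx hc ∈ G := by
    intro x hxx c hc hx0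
    set z := x - (B e2 x • e2 + B e3 x • e3) with hz
    have hz2 : B e2 z = 0 := by
      simp [hz, smul_right, d22, d23]
    have hz3 : B e3 z = 0 := by
      simp [hz, smul_right, d33, h.eq_zero_symm d23]
    by_cases hz0 : z = 0
    · refine h01 _ ?_ ?_
      · have hx : B x e0 = 0 := h.eq_zero_symm (by
          rw [sub_eq_zero.1 hz0]
          simp [he0, he2, he3, hb])
        rw [T_apply, hx, mul_zero, zero_smul, add_zero]
      · have hx : B x e1 = 0 := h.eq_zero_symm (by
          rw [sub_eq_zero.1 hz0]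
          simp [he1, he2, he3, hb])
        rw [T_apply, hx, mul_zero, zero_smul, add_zero]
    obtain ⟨r, hr0, hrr, hr⟩ : ∃ r, r ≠ 0 ∧ B r r = B z z ∧
        B e0 r = 0 ∧ B e1 r = 0 ∧ B e2 r = 0 ∧ B e3 r = 0 := by
      by_cases hμ : B z z = 0
      · obtain ⟨a, ha⟩ := h.invol.exists_norm_eq (μ := -1) (by rw [map_neg, map_one])
        refine ⟨e4 + a • e5, fun e => ?_, ?_, ?_⟩
        · have := congrArg (B e4) e
          simp [he4, he5, hb] at this
        · rw [hμ]
          simp only [map_add, LinearMap.add_apply, smul_left, smul_right, he4, he5, hb,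
            Fin.mk.injEq, Nat.reduceEqDiff, ↓reduceIte]
          linear_combination ha
        · simp [he0, he1, he2, he3, he4, he5, hb]
      · obtain ⟨a, ha⟩ := h.invol.exists_norm_eq (μ := B z z) (h.self_fixed z)
        have ha0 : a ≠ 0 := fun e => hμ (by rw [← ha, e, zero_mul])
        refine ⟨a • e4, smul_ne_zero ha0 (b.ne_zero _), ?_, ?_⟩
        · rw [IsHerm.smul_self, ha]; simp [he4, hb]
        · simp [he0, he1, he2, he3, he4, hb]
    have hmem : ∀ w, B e2 w = 0 → B e3 w = 0 →
        w ∈ h.orth (Submodule.span F ({e2, e3} : Set V)) := fun w h2 h3 => by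
      rw [h.mem_orth]
      intro p hp
      obtain ⟨s, t, rfl⟩ := Submodule.mem_span_pair.1 hp
      rw [add_left, smul_left, smul_left, h2, h3, mul_zero, mul_zero, add_zero]
    obtain ⟨g, hgfix, hgz⟩ := exists_fix_map h hnd (by omega) (hmem z hz2 hz3)
      (hmem r hr.2.2.1 hr.2.2.2) hz0 hr0 hrr.symm
    have hg2 := hgfix e2 (Submodule.subset_span (by simp))
    have hg3 := hgfix e3 (Submodule.subset_span (by simp))
    have hgx : ap g x = B e2 x • e2 + B e3 x • e3 + r := by
      rw [show x = B e2 x • e2 + B e3 x • e3 + z by rw [hz]; abel, map_add, map_add,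
        LinearEquiv.map_smul, LinearEquiv.map_smul, hg2, hg3, hgz]
      simp [smul_right, d22, d33, d23, h.eq_zero_symm d23, hz2, hz3]
    have hgG : g ∈ G := h23 g hg2 hg3
    have hT : T h ((ap_eq g x x).trans hxx) hc ∈ G := by
      refine h01 _ ?_ ?_
      · have hx : B (ap g x) e0 = 0 := h.eq_zero_symm (by
          rw [hgx, map_add, hr.1, add_zero]
          simp [he0, he2, he3, hb])
        rw [T_apply, hx, mul_zero, zero_smul, add_zero]
      · have hx : B (ap g x) e1 = 0 := h.eq_zero_symm (by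
          rw [hgx, map_add, hr.2.1, add_zero]
          simp [he1, he2, he3, hb])
        rw [T_apply, hx, mul_zero, zero_smul, add_zero]
    have e : g * T h hxx hc * g⁻¹ = T h ((ap_eq g x x).trans hxx) hc :=
      Subtype.ext (h.conj_tr hxx hc (g : HU B))
    rw [← e] at hT
    have := G.mul_mem (G.mul_mem (G.inv_mem hgG) hT) hgG
    simpa [mul_assoc] using this
  rw [eq_top_iff]
  intro g _
  suffices (g : HU B) ∈ G.map (HSU B).subtype by
    obtain ⟨g', hg', e⟩ := Subgroup.mem_map.1 this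
    rwa [← Subtype.ext (show ((g' : HSU B) : HU B) = g from e)]
  refine (?_ : h.trGroup ≤ G.map (HSU B).subtype)
    (by rw [h.trGroup_eq (by omega) (fun _ => by omega)]; exact g.2)
  rw [IsHerm.trGroup, Subgroup.closure_le]
  rintro _ ⟨u, hu, c, hc, rfl⟩
  by_cases hu0 : u = 0
  · have : h.tr hu hc = 1 := Subtype.ext (LinearEquiv.ext fun y => by
      rw [IsHerm.tr_apply, hu0, smul_zero, add_zero]; rfl)
    rw [this]
    exact one_mem _
  exact Subgroup.mem_map.2 ⟨T h hu hc, key u hu c hc hu0, rfl⟩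

end CfsgLib.LocalEvenB.MinIndexSU
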