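import Cfsg.Agent.Lib.LocalEvenB.MinIndexSU.Centre
import Cfsg.Agent.Lib.LocalEvenB.MinIndexSU.Generate

/-!
A moved point is fixed by the transvections of a complement, over the field with four elements.
-/

set_option autoImplicit false

namespace CfsgLib.LocalEvenB.MinIndexSU

open CfsgLib.Classical CfsgLib.Classical.Herm
open scoped commutatorElement

variable {F : Type*} [Field F] {V : Type*} [AddCommGroup V] [Module F V] {σ : F →+* F}
  {B : V →ₛₗ[σ] V →ₗ[F] F} (h : IsHerm B) [Finite F]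

include h in
theorem two_eq_zero (hq : Nat.card (fixedSub σ) = 2) : (2 : F) = 0 := by
  have hc := h.invol.card_sq (F := F)
  rw [hq] at hc
  have h1 : (4 : ℕ) • (1 : F) = 0 := by
    rw [show (4 : ℕ) = Nat.card F by rw [hc]; norm_num]
    exact card_nsmul_eq_zero'
  rw [nsmul_eq_mul, mul_one] at h1
  have h2 : (2 : F) * 2 = 0 := by rw [← h1]; norm_num
  exact (mul_eq_zero.1 h2).elim id id

include h in
theorem pow_three (hq : Nat.card (fixedSub σ) = 2) {a : F} (ha : a * σ a = 1) : a ^ 3 = 1 := by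
  rw [h.invol.apply_eq_pow, hq] at ha
  rw [← ha]; ring

variable [FiniteDimensional F V]

namespace HPair

variable (P : HPair B)

/-- A scalar map on the plane of the pair, as a linear map. -/
noncomputable def plMap (g : F) : V →ₗ[F] V :=
  LinearMap.transvection ((g - 1) • B P.f) P.v ∘ₗ LinearMap.transvection ((g - 1) • B P.v) P.f

theorem plMap_apply (g : F) (y : V) :
    P.plMap g y = y + ((g - 1) * B P.f y) • P.v + ((g - 1) * B P.v y) • P.f := by
  simp only [plMap, LinearMap.comp_apply, LinearMap.transvection.apply, LinearMap.smul_apply,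
    smul_eq_mul, map_add, map_smul, P.ff]
  match_scalars <;> ring

include h in
theorem plMap_preserves {g : F} (hg : g * σ g = 1) (y z : V) :
    B (P.plMap g y) (P.plMap g z) = B y z := by
  simp only [plMap_apply, map_add, LinearMap.add_apply, smul_left, smul_right, P.vv, P.ff, P.vf,
    P.fv h, map_sub, map_mul, map_one, h.symm]
  linear_combination (B y P.v * B P.f z + B y P.f * B P.v z) * hg

/-- A scalar map on the plane of the pair. -/
noncomputable def plScal {g : F} (hg : g * σ g = 1) : HU B :=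
  h.ofPreserves (P.plMap g) (P.plMap_preserves h hg)

theorem plScal_apply {g : F} (hg : g * σ g = 1) (y : V) :
    (P.plScal h hg : V ≃ₗ[F] V) y =
      y + ((g - 1) * B P.f y) • P.v + ((g - 1) * B P.v y) • P.f := by
  rw [plScal, IsHerm.ofPreserves_apply, plMap_apply]

theorem det_plScal {g : F} (hg : g * σ g = 1) :
    ((HU.det B (P.plScal h hg) : Fˣ) : F) = g * g := by
  show ((LinearEquiv.det (h.ofPreserves (P.plMap g) (P.plMap_preserves h hg) : V ≃ₗ[F] V) : Fˣ) : F)
    = _
  rw [LinearEquiv.coe_det, IsHerm.coe_ofPreserves, plMap, LinearMap.det_comp,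
    LinearMap.transvection.det, LinearMap.transvection.det, LinearMap.smul_apply,
    LinearMap.smul_apply, smul_eq_mul, smul_eq_mul, P.fv h, P.vf]
  ring

include h in
theorem plScal_comm {g : F} (hg : g * σ g = 1) {k : HSU B} {β γ : F} (hv : ap k P.v = β • P.v)
    (hf : ap k P.f = γ • P.f) (y : V) :
    (P.plScal h hg : V ≃ₗ[F] V) (ap k y) = ap k ((P.plScal h hg : V ≃ₗ[F] V) y) := by
  have e1 : B P.v y = σ β * B P.v (ap k y) := by
    conv_lhs => rw [← ap_eq k, hv, smul_left]
  have e2 : B P.f y = σ γ * B P.f (ap k y) := by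
    conv_lhs => rw [← ap_eq k, hf, smul_left]
  have e3 : σ β * γ = 1 := by
    have := ap_eq k P.v P.f
    rwa [hv, hf, smul_left, smul_right, P.vf, mul_one] at this
  have e4 : σ γ * β = 1 := by
    have := ap_eq k P.f P.v
    rwa [hv, hf, smul_left, smul_right, P.fv h, mul_one] at this
  rw [plScal_apply, plScal_apply, map_add, map_add, LinearEquiv.map_smul, LinearEquiv.map_smul, hv,
    hf, smul_smul, smul_smul, e1, e2]
  match_scalars
  · ring
  · linear_combination -((g - 1) * B P.f (ap k y)) * e4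
  · linear_combination -((g - 1) * B P.v (ap k y)) * e3

/-- A global scalar. -/
noncomputable def scal {d : F} (hd : d * σ d = 1) : HU B :=
  h.ofPreserves (d • LinearMap.id) fun y z => by
    simp only [LinearMap.smul_apply, LinearMap.id_apply, smul_left, smul_right]
    linear_combination B y z * hd

theorem scal_apply {d : F} (hd : d * σ d = 1) (y : V) :
    (scal h hd : V ≃ₗ[F] V) y = d • y := by
  rw [scal, IsHerm.ofPreserves_apply]; rfl

theorem det_scal {d : F} (hd : d * σ d = 1) :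
    ((HU.det B (scal h hd) : Fˣ) : F) = d ^ Module.finrank F V := by
  show ((LinearEquiv.det (scal h hd : V ≃ₗ[F] V) : Fˣ) : F) = _
  rw [LinearEquiv.coe_det, scal, IsHerm.coe_ofPreserves, LinearMap.det_smul, LinearMap.det_id,
    mul_one]

/-- An element acting without fixed vectors, commuting with the whole Levi complement, or with
the part fixing a pair of orthogonal vectors. -/
structure Torus (t : HSU B) (α : F) (E : Set V) : Prop where
  levi : P.Levi h t α
  fpf : ∀ w, levi.map w = w → w = 0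
  comm : ∀ (k : HSU B) (β γ : F), ap k P.v = β • P.v → ap k P.f = γ • P.f →
    (∀ e ∈ E, ap k e = e) → t * k = k * t

include h in
theorem exists_scalar_torus (hq : Nat.card (fixedSub σ) = 2) {d : ℕ}
    (hd : Module.finrank F V = d + 2) (h1 : d % 3 ≠ 1) : ∃ t α, P.Torus h t α ∅ := by
  obtain ⟨w, hw1, hw⟩ := h.exists_norm_one_ne_one
  set ω : F := (w : F) with hω
  have h3 : ω ^ 3 = 1 := pow_three h hq hw
  have hω0 : ω ≠ 0 := w.ne_zero
  set a := ω ^ d with ha
  have hN : ∀ k : ℕ, ω ^ k * σ (ω ^ k) = 1 := fun k => by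
    rw [map_pow, ← mul_pow, hw, one_pow]
  have hg : ω ^ d * ω ^ 2 * σ (ω ^ d * ω ^ 2) = 1 := by rw [← pow_add]; exact hN _
  have hmem : scal h hw * P.plScal h hg ∈ HSU B := by
    rw [MonoidHom.mem_ker, map_mul]
    refine Units.ext ?_
    rw [Units.val_mul, det_scal, det_plScal, hd, Units.val_one,
      show ω ^ (d + 2) * (ω ^ d * ω ^ 2 * (ω ^ d * ω ^ 2)) = (ω ^ 3) ^ (d + 2) by ring, h3, one_pow]
  set t : HSU B := ⟨scal h hw * P.plScal h hg, hmem⟩
  have happ : ∀ y, ap t y = ω • (y + ((ω ^ d * ω ^ 2 - 1) * B P.f y) • P.v +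
      ((ω ^ d * ω ^ 2 - 1) * B P.v y) • P.f) := fun y => by
    show (scal h hw : V ≃ₗ[F] V) ((P.plScal h hg : V ≃ₗ[F] V) y) = _
    rw [scal_apply, plScal_apply]
  have hlevi : P.Levi h t a := by
    refine ⟨?_, fun w => ?_⟩
    · rw [happ, P.fv h, P.vv, mul_one, mul_zero, zero_smul, add_zero, ha]
      match_scalars
      linear_combination ω ^ d * h3
    · rw [happ, P.fw w, P.vw w]
      simpa using (P.W h).smul_mem ω w.2
  refine ⟨t, a, hlevi, fun x hx => ?_, fun k β γ hv hf _ => ap_ext fun y => ?_⟩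
  · have hσa : σ a * ω = ω ^ (2 * d + 1) := by
      rw [ha, map_pow, h.invol.apply_eq_pow, hq]
      ring
    have e1 : (σ a * ω) • (x : V) = (x : V) := by
      conv_rhs => rw [← hx]
      rw [Levi.map_coe, happ, P.fw x, P.vw x]
      simp [smul_smul]
    have hne : σ a * ω ≠ 1 := by
      rw [hσa, pow_eq_pow_mod (2 * d + 1) h3]
      have hne2 : ω ^ 2 ≠ 1 := fun e => hw1 (by
        calc ω = ω ^ 2 * ω := by rw [e, one_mul]
          _ = 1 := by rw [← pow_succ, h3])
      rcases (show (2 * d + 1) % 3 = 1 ∨ (2 * d + 1) % 3 = 2 by omega) with e | e <;> rw [e]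
      · rw [pow_one]; exact hw1
      · exact hne2
    refine Subtype.ext ?_
    rw [ZeroMemClass.coe_zero]
    have h4 : (σ a * ω - 1) • (x : V) = 0 := by rw [sub_smul, e1, one_smul, sub_self]
    exact (smul_eq_zero.1 h4).resolve_left (sub_ne_zero.2 hne)
  · show (scal h hw : V ≃ₗ[F] V) ((P.plScal h hg : V ≃ₗ[F] V) (ap k y)) =
      ap k ((scal h hw : V ≃ₗ[F] V) ((P.plScal h hg : V ≃ₗ[F] V) y))
    rw [P.plScal_comm h hg hv hf, scal_apply, scal_apply, LinearEquiv.map_smul]

include h in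
theorem exists_pair_torus (hq : Nat.card (fixedSub σ) = 2) {ω : Fˣ} (hω1 : (ω : F) ≠ 1)
    (hω : (ω : F) * σ ω = 1) {y₁ y₂ : V} (hy₁ : y₁ ∈ P.W h) (hy₂ : y₂ ∈ P.W h)
    (h11 : B y₁ y₁ = 1) (h22 : B y₂ y₂ = 1) (h12 : B y₁ y₂ = 0) :
    ∃ t, P.Torus h t (ω : F) {y₁, y₂} ∧
      ∀ x, B y₁ x = 0 → B y₂ x = 0 → ap t x = (P.plScal h hω : V ≃ₗ[F] V) x := by
  have h3 : (ω : F) ^ 3 = 1 := pow_three h hq hω
  have h21 : B y₂ y₁ = 0 := h.eq_zero_symm h12
  have hne₁ : B y₁ y₁ ≠ 0 := by rw [h11]; exact one_ne_zero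
  have hne₂ : B y₂ y₂ ≠ 0 := by rw [h22]; exact one_ne_zero
  have hω2 : ((ω * ω : Fˣ) : F) * σ ((ω * ω : Fˣ) : F) = 1 := by
    rw [Units.val_mul, map_mul]; linear_combination ((ω : F) * σ ω + 1) * hω
  set q₁ := h.quasiIso y₁ hne₁ (ω * ω) hω2
  set q₂ := h.quasiIso y₂ hne₂ (ω * ω) hω2
  have hmem : P.plScal h hω * q₁ * q₂ ∈ HSU B := by
    rw [MonoidHom.mem_ker, map_mul, map_mul, show HU.det B q₁ = ω * ω from h.det_quasiIso _ _ _ _,
      show HU.det B q₂ = ω * ω from h.det_quasiIso _ _ _ _]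
    refine Units.ext ?_
    rw [Units.val_mul, Units.val_mul, det_plScal, Units.val_mul, Units.val_one]
    linear_combination ((ω : F) ^ 3 + 1) * h3
  set t : HSU B := ⟨P.plScal h hω * q₁ * q₂, hmem⟩
  set c : F := (ω : F) * ω - 1
  have hq₂ : ∀ y, (q₂ : V ≃ₗ[F] V) y = y + (c * B y₂ y) • y₂ := fun y => by
    show quasi B y₂ hne₂ (ω * ω) y = _
    rw [quasi_apply, h22, div_one, Units.val_mul]
  have hq₁ : ∀ y, (q₁ : V ≃ₗ[F] V) y = y + (c * B y₁ y) • y₁ := fun y => by
    show quasi B y₁ hne₁ (ω * ω) y = _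
    rw [quasi_apply, h11, div_one, Units.val_mul]
  have happ : ∀ y, ap t y = (P.plScal h hω : V ≃ₗ[F] V)
      (y + (c * B y₂ y) • y₂ + (c * B y₁ y) • y₁) := fun y => by
    show (P.plScal h hω : V ≃ₗ[F] V) ((q₁ : V ≃ₗ[F] V) ((q₂ : V ≃ₗ[F] V) y)) = _
    rw [hq₂, hq₁, map_add (B y₁), smul_right, h12, mul_zero, add_zero]
  have hplW : ∀ z : P.W h, (P.plScal h hω : V ≃ₗ[F] V) (z : V) = z := fun z => by
    rw [plScal_apply, P.fw z, P.vw z]; simp
  have hW' : ∀ z : P.W h, ap t z = (z : V) + (c * B y₂ z) • y₂ + (c * B y₁ z) • y₁ := fun z => by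
    rw [happ]
    exact hplW ⟨_, (P.W h).add_mem ((P.W h).add_mem z.2 ((P.W h).smul_mem _ hy₂))
      ((P.W h).smul_mem _ hy₁)⟩
  have hlevi : P.Levi h t (ω : F) := by
    refine ⟨?_, fun z => ?_⟩
    · rw [happ, P.wv ⟨y₁, hy₁⟩, P.wv ⟨y₂, hy₂⟩]
      simp only [mul_zero, zero_smul, add_zero]
      rw [plScal_apply, P.fv h, P.vv]
      simp [sub_smul]
    · rw [hW']
      exact (P.W h).add_mem ((P.W h).add_mem z.2 ((P.W h).smul_mem _ hy₂))
        ((P.W h).smul_mem _ hy₁)
  refine ⟨t, ⟨hlevi, fun x hx => ?_, fun k β γ hv hf hE => ap_ext fun y => ?_⟩, fun x h1 h2 => ?_⟩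
  · have e : σ (ω : F) • ((x : V) + (c * B y₂ x) • y₂ + (c * B y₁ x) • y₁) = (x : V) := by
      rw [← hW']
      exact congrArg Subtype.val hx
    have hk : σ (ω : F) * ((ω : F) * ω) ≠ 1 := fun e' => hω1 (by
      linear_combination e' - (ω : F) * hω)
    have hb : ∀ b : F, σ (ω : F) * (b + c * b) = b → b = 0 := fun b e' =>
      (mul_eq_zero.1 (show (σ (ω : F) * ((ω : F) * ω) - 1) * b = 0 by
        linear_combination e')).resolve_left (sub_ne_zero.2 hk)
    have hb1 : B y₁ (x : V) = 0 := by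
      have := congrArg (B y₁) e
      simp only [map_add, smul_right, h11, h12] at this
      exact hb _ (by linear_combination this)
    have hb2 : B y₂ (x : V) = 0 := by
      have := congrArg (B y₂) e
      simp only [map_add, smul_right, h22, h21] at this
      exact hb _ (by linear_combination this)
    rw [hb1, hb2] at e
    simp only [mul_zero, zero_smul, add_zero] at e
    refine Subtype.ext ?_
    rw [ZeroMemClass.coe_zero]
    have hσ1 : σ (ω : F) ≠ 1 := fun e' => hω1 (by rw [← hω, e', mul_one])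
    have h4 : (σ (ω : F) - 1) • (x : V) = 0 := by rw [sub_smul, e, one_smul, sub_self]
    exact (smul_eq_zero.1 h4).resolve_left (sub_ne_zero.2 hσ1)
  · have hk1 : ap k y₁ = y₁ := hE y₁ (by simp)
    have hk2 : ap k y₂ = y₂ := hE y₂ (by simp)
    have e1 : B y₁ (ap k y) = B y₁ y := by
      conv_lhs => arg 1; rw [show y₁ = ap k y₁ from hk1.symm]
      exact ap_eq k _ _
    have e2 : B y₂ (ap k y) = B y₂ y := by
      conv_lhs => arg 1; rw [show y₂ = ap k y₂ from hk2.symm]
      exact ap_eq k _ _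
    rw [ap_mul, ap_mul, happ, happ, ← P.plScal_comm h hω hv hf, e1, e2, map_add (ap k),
      map_add (ap k), LinearEquiv.map_smul, LinearEquiv.map_smul, hk1, hk2]
  · rw [happ, h1, h2]
    simp

variable {Ω : Type*} [MulAction (HSU B) Ω]

/-- The Levi elements of the complement fixing a point up to the transvection group. -/
def zStab (x : Ω) : Subgroup (HSU (IsHerm.restrict B (P.W h))) where
  carrier := {b | P.ZFix h (ext' h (P.nondeg h) b) x}
  one_mem' := ⟨0, by simp, by
    rw [map_one]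
    congr 1
    exact ap_ext fun y => by simp [MinIndexSU.T_apply, ap_one]⟩
  mul_mem' := by
    rintro a b ⟨c, hc, ea⟩ ⟨c', hc', eb⟩
    refine ⟨c' + c, by rw [map_add]; linear_combination hc' + hc, ?_⟩
    rw [map_mul, mul_smul, eb, ← mul_smul, (P.levi_ext' h a).mul_Tv hc', mul_smul, ea, ← mul_smul]
    congr 1
    refine ap_ext fun y => ?_
    rw [ap_mul, MinIndexSU.T_apply, MinIndexSU.T_apply, MinIndexSU.T_apply, map_add, smul_right,
      P.vv]
    simp [add_mul, add_smul, add_assoc, add_comm]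
  inv_mem' := by
    rintro a ⟨c, hc, ea⟩
    refine ⟨-c, by rw [map_neg]; linear_combination -hc, ?_⟩
    rw [map_inv, inv_smul_eq_iff, ← mul_smul, (P.levi_ext' h a).mul_Tv, mul_smul, ea, ← mul_smul]
    conv_lhs => rw [← one_smul (HSU B) x]
    congr 1
    refine ap_ext fun y => ?_
    rw [ap_mul, ap_one, MinIndexSU.T_apply, MinIndexSU.T_apply, map_add, smul_right, P.vv]
    simp

include h in
theorem commute_of_zfix {x : Ω} {g k : HSU B} (hg : P.Levi h g 1) (hk : P.Levi h k 1)
    (hgx : P.ZFix h g x) (hkx : P.ZFix h k x) : g • k • x = k • g • x := by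
  obtain ⟨a, ha, ea⟩ := hgx
  obtain ⟨b, hb, eb⟩ := hkx
  rw [ea, eb, ← mul_smul, ← mul_smul, hg.mul_Tv hb, hk.mul_Tv ha, mul_smul, mul_smul, ea, eb,
    ← mul_smul, ← mul_smul]
  congr 1
  refine ap_ext fun y => ?_
  rw [ap_mul, ap_mul, MinIndexSU.T_apply, MinIndexSU.T_apply, MinIndexSU.T_apply,
    MinIndexSU.T_apply, map_add, map_add, smul_right, smul_right, P.vv]
  simp only [map_one, one_mul, mul_zero, add_zero]
  module

/-- The special unitary group of the complement fixes a suitable point up to transvections, and so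
do its transvections exactly. -/
theorem exists_fixed_point (hR : P.Rigid h Ω) (hq : Nat.card (fixedSub σ) = 2) {d : ℕ}
    (hd : Module.finrank F V = d + 2) (hd3 : 3 ≤ d) (hd4 : d ≠ 4) {x₀ : Ω}
    (hx₀ : P.Moved h x₀) :
    ∃ u ∈ P.EU h, (∀ w, w ∈ P.W h → ∀ (hww : B w w = 0) (c : F) (hc : c + σ c = 0),
        MinIndexSU.T h hww hc • u • x₀ = u • x₀) ∧
      (d = 3 → ∀ (g : HSU B) (β γ : F), ap g P.v = β • P.v → ap g P.f = γ • P.f → g ^ 3 = 1 →
        g • u • x₀ = u • x₀) := by
  have hWn := h.orth_nondeg (P.nondeg h)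
  have hH' := h.restrict_herm hWn
  have hrW := P.finrank_W h hd
  have hlevi : ∀ (k : HSU B) (β γ : F), ap k P.v = β • P.v → ap k P.f = γ • P.f →
      P.Levi h k β := by
    intro k β γ hv hf
    refine ⟨hv, fun w => P.mem_W h ?_ ?_⟩
    · have := ap_eq k P.v (w : V)
      rw [hv, smul_left, P.vw w] at this
      have hβ : σ β ≠ 0 := fun e => P.v_ne ((ap k).injective (by
        rw [hv, IsInvol.apply_eq_zero_iff.1 e, zero_smul, map_zero]))
      exact (mul_eq_zero.1 this).resolve_left hβ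
    · have := ap_eq k P.f (w : V)
      rw [hf, smul_left, P.fw w] at this
      have hγ : σ γ ≠ 0 := fun e => by
        have h2 := ap_eq k P.v P.f
        rw [hv, hf, smul_left, smul_right, P.vf, IsInvol.apply_eq_zero_iff.1 e, zero_mul,
          mul_zero] at h2
        exact zero_ne_one h2
      exact (mul_eq_zero.1 this).resolve_left hγ
  have hext : ∀ b, ap (ext' h (P.nondeg h) b) P.v = (1 : F) • P.v ∧
      ap (ext' h (P.nondeg h) b) P.f = (1 : F) • P.f := fun b => by
    rw [one_smul, one_smul]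
    exact ⟨ext'_fix h _ b P.v_mem, ext'_fix h _ b P.f_mem⟩
  suffices ∃ u ∈ P.EU h, (∀ b, P.ZFix h (ext' h (P.nondeg h) b) (u • x₀)) ∧
      (d = 3 → ∀ (g : HSU B) (β γ : F), ap g P.v = β • P.v → ap g P.f = γ • P.f →
        P.ZFix h g (u • x₀)) by
    obtain ⟨u, hu, hb, hg3⟩ := this
    refine ⟨u, hu, fun w hw hww c hc => ?_, fun hd' g β γ hv hf hcube => ?_⟩
    · have hww' : IsHerm.restrict B (P.W h) ⟨w, hw⟩ ⟨w, hw⟩ = 0 := hww
      obtain ⟨g₁, h₁, g₂, h₂, e⟩ := hH'.tr_eq_commutator (by rw [hrW]; omega) hww' hc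
      set b₁ : HSU (IsHerm.restrict B (P.W h)) := ⟨g₁, h₁⟩
      set b₂ : HSU (IsHerm.restrict B (P.W h)) := ⟨g₂, h₂⟩
      have eT : MinIndexSU.T h hww hc = ext' h (P.nondeg h) ⁅b₁, b₂⁆ := by
        have eb : ⁅b₁, b₂⁆ = MinIndexSU.T hH' hww' hc := Subtype.ext e
        rw [eb]
        refine ap_ext fun y => ?_
        obtain ⟨p, v, rfl⟩ := CfsgLib.Classical.exists_decomp (h.isCompl_orth (P.nondeg h)) y
        rw [MinIndexSU.T_apply, map_add (ap _), ext'_fix h _ _ p.2, ext'_apply,
          MinIndexSU.T_apply, map_add, h.eq_zero_symm (h.mem_orth.1 hw p p.2), zero_add,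
          IsHerm.restrict_apply]
        push_cast
        rw [add_assoc]
      rw [eT, commutatorElement_def, map_mul, map_mul, map_mul]
      have hcom := P.commute_of_zfix h (P.levi_ext' h b₁⁻¹) (P.levi_ext' h b₂⁻¹) (hb _) (hb _)
      rw [mul_smul, mul_smul, mul_smul, hcom, map_inv, map_inv]
      simp only [smul_inv_smul]
    · obtain ⟨c, hc, e⟩ := hg3 hd' g β γ hv hf
      have hβ : β * σ β = 1 := by
        have hβ0 : β ≠ 0 := (hlevi g β γ hv hf).scalar_ne
        have := Fintype.ofFinite F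
        have hcard : Fintype.card F = 4 := by
          rw [← Nat.card_eq_fintype_card, h.invol.card_sq, hq]
          norm_num
        have h1 := FiniteField.pow_card_sub_one_eq_one β hβ0
        rw [hcard] at h1
        rw [h.invol.apply_eq_pow, hq, ← h1]
        ring
      have hgT : g * P.Tv h hc = P.Tv h hc * g := by
        rw [(hlevi g β γ hv hf).mul_Tv hc]
        congr 1
        exact ap_ext fun y => by rw [MinIndexSU.T_apply, MinIndexSU.T_apply, hβ, one_mul]
      have h0 : c = 0 := by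
        have e3 : (g ^ 3) • u • x₀ = (P.Tv h hc * (P.Tv h hc * P.Tv h hc)) • u • x₀ := by
          have sw : ∀ z : Ω, g • P.Tv h hc • z = P.Tv h hc • g • z := fun z => by
            rw [← mul_smul, hgT, mul_smul]
          rw [show g ^ 3 = g * (g * g) by rw [pow_succ, pow_two, mul_assoc], mul_smul, mul_smul, e,
            sw, e, sw, sw, e, ← mul_smul, ← mul_smul, mul_assoc]
        rw [hcube, one_smul] at e3
        have h1 := (hR _ (moved_orbit hu hx₀)).1 _
          ((P.EU h).mul_mem (P.Tv_mem h hc) ((P.EU h).mul_mem (P.Tv_mem h hc) (P.Tv_mem h hc)))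
          e3.symm
        have h2 := congrArg (fun z => ap z P.f) h1
        simp only [ap_mul, MinIndexSU.T_apply, ap_one, map_add, smul_right, P.vf, P.vv, mul_one,
          mul_zero, add_zero] at h2
        have h3 : c + c + c = 0 := by
          have : (c + c + c) • P.v = 0 := by linear_combination (norm := module) h2
          exact (smul_eq_zero.1 this).resolve_right P.v_ne
        linear_combination h3 - c * two_eq_zero h hq
      rw [e]
      conv_rhs => rw [← one_smul (HSU B) (u • x₀)]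
      congr 1
      exact ap_ext fun y => by rw [MinIndexSU.T_apply, h0]; simp [ap_one]
  by_cases h1 : d % 3 = 1
  · -- two commuting elements
    obtain ⟨ω, hω1, hω⟩ := h.exists_norm_one_ne_one
    obtain ⟨b, hb⟩ := hH'.exists_orthonormal_basis hrW
    have h7 : 7 ≤ d := by omega
    have hbV : ∀ i j, B (b i : V) (b j : V) = if i = j then 1 else 0 := fun i j => hb i j
    obtain ⟨t, ht, -⟩ := P.exists_pair_torus h hq hω1 hω (b ⟨0, by omega⟩).2 (b ⟨1, by omega⟩).2
      (by simp [hbV]) (by simp [hbV]) (by simp [hbV])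
    obtain ⟨t', ht', ht'e⟩ := P.exists_pair_torus h hq hω1 hω (b ⟨2, by omega⟩).2
      (b ⟨3, by omega⟩).2 (by simp [hbV]) (by simp [hbV]) (by simp [hbV])
    obtain ⟨u, hu, hux⟩ := exists_centre hR ht.levi ht.fpf hx₀
    have hmx := moved_orbit hu hx₀
    have htt' : t * t' = t' * t := by
      obtain ⟨γ, hγ⟩ : ∃ γ, ap t' P.f = γ • P.f := ⟨(ω : F), by
        rw [ht'e _ (P.wf (b ⟨2, by omega⟩)) (P.wf (b ⟨3, by omega⟩)), plScal_apply, P.vf, P.ff]
        simp [sub_smul]⟩
      refine ht.comm t' _ γ ht'.levi.v hγ ?_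
      have hfix : ∀ i : Fin d, i ≠ ⟨2, by omega⟩ → i ≠ ⟨3, by omega⟩ →
          ap t' (b i : V) = (b i : V) := fun i hi2 hi3 => by
        rw [ht'e _ (by rw [hbV, if_neg (Ne.symm hi2)]) (by rw [hbV, if_neg (Ne.symm hi3)]),
          plScal_apply, P.fw, P.vw]
        simp
      intro e he
      rcases he with rfl | rfl
      · exact hfix _ (by simp [Fin.ext_iff]) (by simp [Fin.ext_iff])
      · exact hfix _ (by simp [Fin.ext_iff]) (by simp [Fin.ext_iff])
    have hux' : P.ZFix h t' (u • x₀) :=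
      zfix_of_commute hR ht.levi ht.fpf hmx hux ht'.levi htt'
    refine ⟨u, hu, ?_, fun hd' => absurd hd' (by omega)⟩
    have hpair : ∀ {s : HSU B} {α : F} {i j : Fin d}, P.Torus h s α {(b i : V), (b j : V)} →
        P.ZFix h s (u • x₀) → ∀ g, ap g (b i) = b i → ap g (b j) = b j →
        g ∈ P.zStab h (u • x₀) := by
      intro s α i j hs hsx g hi hj
      refine zfix_of_commute hR hs.levi hs.fpf hmx hsx (P.levi_ext' h g)
        (hs.comm _ 1 1 (hext g).1 (hext g).2 ?_)
      rintro e (rfl | rfl)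
      · rw [ext'_apply, hi]
      · rw [ext'_apply, hj]
    have htop := eq_top_of_pairs hH' hrW (by omega) hb (P.zStab h (u • x₀))
      (fun g => hpair ht hux g) (fun g => hpair ht' hux' g)
    intro g
    exact show g ∈ P.zStab h (u • x₀) by rw [htop]; trivial
  · obtain ⟨t, α, ht⟩ := P.exists_scalar_torus h hq hd h1
    obtain ⟨u, hu, hux⟩ := exists_centre hR ht.levi ht.fpf hx₀
    have hmx := moved_orbit hu hx₀
    exact ⟨u, hu, fun b => zfix_of_commute hR ht.levi ht.fpf hmx hux (P.levi_ext' h b)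
      (ht.comm _ 1 1 (hext b).1 (hext b).2 (by simp)),
      fun _ g β γ hv hf => zfix_of_commute hR ht.levi ht.fpf hmx hux (hlevi g β γ hv hf)
        (ht.comm g β γ hv hf (by simp))⟩

end HPair

end CfsgLib.LocalEvenB.MinIndexSU
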