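import Cfsg.Agent.Lib.LocalEvenB.MinIndexSU.Endgame
import Cfsg.Agent.Lib.LocalEvenB.MinIndexSU.FixTwo

/-!
The isotropic vectors marked by a subgroup of small index, over the field with four elements and in
odd dimension.
-/

set_option autoImplicit false

namespace CfsgLib.LocalEvenB.MinIndexSU

open CfsgLib.Classical CfsgLib.Classical.Herm

theorem two_count_false {d N k I : ℕ} (hd : 3 ≤ d) (hI : I + 2 ^ (d + 1) + 1 = 4 * 2 ^ (2 * d + 1))
    (hk : k ≤ 3 * 2 ^ (2 * d + 1) + 3) (hN : 3 * N + 3 ≤ I) (e : N * k = I * 2 ^ (2 * d + 1)) :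
    False := by
  have hP : 16 ≤ 2 ^ (d + 1) := Nat.pow_le_pow_right two_pos (show 4 ≤ d + 1 by omega)
  have hQ : 2 ^ (2 * d + 1) = 2 ^ d * 2 ^ (d + 1) := by rw [← pow_add]; congr 1; omega
  have hd8 : 8 ≤ 2 ^ d := Nat.pow_le_pow_right two_pos (show 3 ≤ d from hd)
  have hQP : 8 * 2 ^ (d + 1) ≤ 2 ^ (2 * d + 1) := by rw [hQ]; exact Nat.mul_le_mul_right _ hd8
  generalize 2 ^ (2 * d + 1) = Q at *
  generalize 2 ^ (d + 1) = P at *
  by_cases hk3 : k ≤ 3 * Q
  · have h1 : N * k ≤ N * (3 * Q) := Nat.mul_le_mul_left _ hk3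
    have h2 : 3 * N * Q < I * Q := Nat.mul_lt_mul_of_pos_right (by omega) (by omega)
    rw [e] at h1
    nlinarith
  obtain ⟨r, rfl⟩ : ∃ r, k = 3 * Q + r := ⟨k - 3 * Q, by omega⟩
  have hr : r ≤ 3 := by omega
  have hI3 : I = 3 * N + 3 := by
    by_contra hne
    have h1 : (3 * N + 4) * Q ≤ I * Q := Nat.mul_le_mul_right _ (by omega)
    have h2 : N * r ≤ N * 3 := Nat.mul_le_mul_left _ hr
    nlinarith
  subst hI3
  have e' : N * r = 3 * Q := by nlinarith
  interval_cases r <;> omega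

variable {F : Type*} [Field F] {V : Type*} [AddCommGroup V] [Module F V] {σ : F →+* F}
  {B : V →ₛₗ[σ] V →ₗ[F] F} (h : IsHerm B) [Finite F] [FiniteDimensional F V]

include h in
theorem norm_zero_or_one (hq : Nat.card (fixedSub σ) = 2) {a : F} (ha : σ a = a) : a = 0 ∨ a = 1 := by
  rw [h.invol.apply_eq_pow, hq] at ha
  have h1 : a * (a - 1) = 0 := by linear_combination ha
  exact (mul_eq_zero.1 h1).imp_right sub_eq_zero.1

include h in
theorem norm_of_ne_zero (hq : Nat.card (fixedSub σ) = 2) {a : F} (ha : a ≠ 0) : a * σ a = 1 :=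
  (norm_zero_or_one h hq (show σ (a * σ a) = a * σ a by
    rw [map_mul, h.invol.invol, mul_comm])).resolve_left
    (mul_ne_zero ha fun e => ha (IsInvol.apply_eq_zero_iff.1 e))

variable {H : Subgroup (HSU B)}

theorem exists_of_not_inS {u : V} (hu0 : u ≠ 0) (huu : B u u = 0) (hu : ¬ InS h H u) :
    ∃ (c : F) (hc : c + σ c = 0), T h huu hc ∉ H := by
  by_contra hcon
  push Not at hcon
  exact hu ⟨huu, hu0, hcon⟩

theorem conj_T (g : HSU B) {u : V} (hu : B u u = 0) {c : F} (hc : c + σ c = 0)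
    {u' : V} (hu' : B u' u' = 0) (e : ap g u = u') : g * T h hu hc * g⁻¹ = T h hu' hc := by
  subst e
  exact Subtype.ext (h.conj_tr hu hc (g : HU B))

theorem T_smul_mk_eq_iff (g : HSU B) {u : V} (hu : B u u = 0) {c : F} (hc : c + σ c = 0)
    {u' : V} (hu' : B u' u' = 0) (e : ap g u' = u) :
    T h hu hc • (g : HSU B ⧸ H) = (g : HSU B ⧸ H) ↔ T h hu' hc ∈ H := by
  rw [← conj_T h g hu' hc hu e, MulAction.Quotient.smul_mk, smul_eq_mul, QuotientGroup.eq]
  rw [show (g * T h hu' hc * g⁻¹ * g)⁻¹ * g = (T h hu' hc)⁻¹ by group, inv_mem_iff]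

theorem moved_mk_iff (P : HPair B) (g : HSU B) :
    P.Moved h (g : HSU B ⧸ H) ↔ ¬ InS h H (ap g⁻¹ P.v) := by
  have hvv : B (ap g⁻¹ P.v) (ap g⁻¹ P.v) = 0 := (ap_eq _ _ _).trans P.vv
  constructor
  · rintro ⟨c, hc, hne⟩ hS
    exact hne ((T_smul_mk_eq_iff h g P.vv hc hvv (ap_apply_inv g P.v)).2 (hS.mem hvv hc))
  · intro hS
    obtain ⟨c, hc, hm⟩ := exists_of_not_inS h
      (fun e => P.v_ne ((ap g⁻¹).injective (e.trans (map_zero _).symm))) hvv hS
    exact ⟨c, hc, fun e => hm ((T_smul_mk_eq_iff h g P.vv hc hvv (ap_apply_inv g P.v)).1 e)⟩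

/-- A moved set is one orbit of the Eichler group. -/
theorem card_moved {d : ℕ} (hd : Module.finrank F V = d + 2) (hd1 : 1 ≤ d)
    (hR : ∀ P : HPair B, P.Rigid h (HSU B ⧸ H))
    {v₀ : V} (hv₀ : v₀ ≠ 0) (hv₀v : B v₀ v₀ = 0) (hv₀S : ¬ InS h H v₀) (P : HPair B) :
    Nat.card {x : HSU B ⧸ H // P.Moved h x} = Nat.card (fixedSub σ) ^ (2 * d + 1) := by
  obtain ⟨g, hg⟩ := exists_map h (by omega) hv₀ P.v_ne (hv₀v.trans P.vv.symm)
  have hmv : P.Moved h (g : HSU B ⧸ H) := (moved_mk_iff h P g).2 (by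
    rwa [← hg, ap_inv_apply])
  rw [← P.card_EU h hd]
  refine (Nat.card_congr (Equiv.ofBijective
    (fun k : P.EU h => (⟨(k : HSU B) • (g : HSU B ⧸ H), HPair.moved_orbit k.2 hmv⟩ :
      {x // P.Moved h x})) ⟨fun a b e => ?_, fun x => ?_⟩)).symm
  · exact Subtype.ext ((hR P).eq_of_smul_eq hmv a.2 b.2 (congrArg Subtype.val e))
  · obtain ⟨k, hk, e⟩ := ((hR P) _ hmv).2 x.1 x.2
    exact ⟨⟨k, hk⟩, Subtype.ext e⟩

/-- Rigidity everywhere, counted in two ways. -/
theorem index_mul_unmarked {d : ℕ} (hd : Module.finrank F V = d + 2) (hd1 : 1 ≤ d)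
    (hR : ∀ P : HPair B, P.Rigid h (HSU B ⧸ H))
    {v₀ : V} (hv₀ : v₀ ≠ 0) (hv₀v : B v₀ v₀ = 0) (hv₀S : ¬ InS h H v₀) :
    H.index * Nat.card {u : V // (u ≠ 0 ∧ B u u = 0) ∧ ¬ InS h H u} =
      Nat.card {u : V // u ≠ 0 ∧ B u u = 0} * Nat.card (fixedSub σ) ^ (2 * d + 1) := by
  classical
  have : Finite V := Module.finite_of_finite F
  have := finite_HSU (B := B)
  have : Fintype V := Fintype.ofFinite V
  have : Fintype (HSU B ⧸ H) := Fintype.ofFinite _
  let R : (HSU B ⧸ H) → {u : V // u ≠ 0 ∧ B u u = 0} → Prop := fun x u =>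
    ∃ (c : F) (hc : c + σ c = 0), T h u.2.2 hc • x ≠ x
  have h1 : ∀ x, Nat.card {u // R x u} =
      Nat.card {u : V // (u ≠ 0 ∧ B u u = 0) ∧ ¬ InS h H u} := by
    intro x
    induction x using QuotientGroup.induction_on with
    | H g =>
    have key : ∀ u : {u : V // u ≠ 0 ∧ B u u = 0}, R (g : HSU B ⧸ H) u ↔ ¬ InS h H (ap g⁻¹ u) :=
      fun u => by
        obtain ⟨f, huf, hff⟩ := h.exists_isotropic_partner u.2.1 u.2.2
        exact moved_mk_iff h ⟨u, f, u.2.2, hff, huf⟩ g
    refine Nat.card_congr (((Equiv.subtypeEquivRight key).trans ?_).trans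
      (Equiv.subtypeSubtypeEquivSubtypeInter (fun u : V => u ≠ 0 ∧ B u u = 0) fun u => ¬ InS h H u))
    refine Equiv.subtypeEquiv (Equiv.subtypeEquiv (ap g⁻¹).toEquiv fun u => ?_) fun u => Iff.rfl
    show (u ≠ 0 ∧ B u u = 0) ↔ (ap g⁻¹ u ≠ 0 ∧ B (ap g⁻¹ u) (ap g⁻¹ u) = 0)
    rw [ap_eq, Ne, Ne, LinearEquiv.map_eq_zero_iff]
  have h2 : ∀ u, Nat.card {x // R x u} = Nat.card (fixedSub σ) ^ (2 * d + 1) := by
    rintro ⟨u, hu0, huu⟩
    obtain ⟨f, huf, hff⟩ := h.exists_isotropic_partner hu0 huu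
    exact card_moved h hd hd1 hR hv₀ hv₀v hv₀S ⟨u, f, huu, hff, huf⟩
  have h3 : Nat.card (Σ x, {u // R x u}) = Nat.card (Σ u, {x // R x u}) :=
    Nat.card_congr
      { toFun := fun p => ⟨p.2.1, p.1, p.2.2⟩
        invFun := fun p => ⟨p.2.1, p.1, p.2.2⟩
        left_inv := fun _ => rfl
        right_inv := fun _ => rfl }
  rw [Nat.card_sigma, Nat.card_sigma, Finset.sum_congr rfl fun x _ => h1 x,
    Finset.sum_congr rfl fun u _ => h2 u, Finset.sum_const, Finset.sum_const, Finset.card_univ,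
    Finset.card_univ, ← Nat.card_eq_fintype_card, ← Nat.card_eq_fintype_card, smul_eq_mul,
    smul_eq_mul] at h3
  exact h3

theorem exists_fixer_two (hq : Nat.card (fixedSub σ) = 2) {d : ℕ}
    (hd : Module.finrank F V = d + 2) (hd3 : 3 ≤ d) (hd4 : d ≠ 4)
    (hR : ∀ P : HPair B, P.Rigid h (HSU B ⧸ H)) {v : V} (hv0 : v ≠ 0) (hvv : B v v = 0)
    (hv : ¬ InS h H v) :
    ∃ P : HPair B, P.v = v ∧
      (∀ w, w ∈ P.W h → w ≠ 0 → ∀ (hww : B w w = 0) (c : F) (hc : c + σ c = 0), T h hww hc ∈ H) ∧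
      (d = 3 → ∀ (g : HSU B) (β γ : F), ap g P.v = β • P.v → ap g P.f = γ • P.f → g ^ 3 = 1 →
        g ∈ H) := by
  obtain ⟨f, hvf, hff⟩ := h.exists_isotropic_partner hv0 hvv
  set P : HPair B := ⟨v, f, hvv, hff, hvf⟩
  have hmv : P.Moved h ((1 : HSU B) : HSU B ⧸ H) := (moved_mk_iff h P 1).2 (by
    rwa [inv_one, ap_one])
  have hfix : ∀ g : HSU B, g • ((1 : HSU B) : HSU B ⧸ H) = ((1 : HSU B) : HSU B ⧸ H) ↔ g ∈ H :=
    fun g => by
      rw [MulAction.Quotient.smul_mk, smul_eq_mul, mul_one, QuotientGroup.eq, mul_one, inv_mem_iff]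
  obtain ⟨u, hu, hT, h3⟩ := P.exists_fixed_point h (hR P) hq hd hd3 hd4 hmv
  have hback : ∀ g : HSU B, g • u • ((1 : HSU B) : HSU B ⧸ H) = u • ((1 : HSU B) : HSU B ⧸ H) →
      u⁻¹ * g * u ∈ H := fun g e => (hfix _).1 (by rw [mul_smul, mul_smul, e, inv_smul_smul])
  have huv : ap u v = v := by
    obtain ⟨w, a, rfl⟩ := hu
    exact P.El_v h w a
  have huv' : ap u⁻¹ v = v := by conv_lhs => rw [← huv, ap_inv_apply]
  refine ⟨⟨v, ap u⁻¹ f, hvv, (ap_eq _ _ _).trans hff, ?_⟩, rfl, fun w hw hw0 hww c hc => ?_,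
    fun hd' g β γ hgv hgf hg => ?_⟩
  · conv_lhs => rw [← huv', ap_eq]
    exact hvf
  · have hw1 : B v w = 0 := h.mem_orth.1 hw _ (Submodule.subset_span (by simp))
    have hw2 : B (ap u⁻¹ f) w = 0 := h.mem_orth.1 hw _ (Submodule.subset_span (by simp))
    have hmem : ap u w ∈ P.W h := P.mem_W h
      (show B v (ap u w) = 0 by rw [← huv, ap_eq, hw1])
      (show B f (ap u w) = 0 by rw [← ap_apply_inv u f, ap_eq, hw2])
    have hww' : B (ap u w) (ap u w) = 0 := (ap_eq _ _ _).trans hww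
    have := hback _ (hT _ hmem hww' c hc)
    rwa [← conj_T h u hww hc hww' rfl, show u⁻¹ * (u * T h hww hc * u⁻¹) * u = T h hww hc by group]
      at this
  · have := hback _ (h3 hd' (u * g * u⁻¹) β γ
      (show ap (u * g * u⁻¹) v = β • v by
        rw [ap_mul, ap_mul, huv', show ap g v = β • v from hgv, LinearEquiv.map_smul, huv])
      (show ap (u * g * u⁻¹) f = γ • f by
        rw [ap_mul, ap_mul, show ap g (ap u⁻¹ f) = γ • ap u⁻¹ f from hgf, LinearEquiv.map_smul,
          ap_apply_inv])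
      (by rw [conj_pow, hg, mul_one, mul_inv_cancel]))
    rwa [show u⁻¹ * (u * g * u⁻¹) * u = g by group] at this

include h in
/-- The complement, apart from the plane part, has as many marked shifts as isotropic vectors. -/
theorem card_shift {d : ℕ} (hq : Nat.card (fixedSub σ) = 2) (hd : Module.finrank F V = d + 2)
    (hd3 : 3 ≤ d) {J : ℕ} (hJ1 : J ≤ ordFactor 2 (d - 1) * ordFactor 2 (d - 2))
    (hJ2 : d ≠ 3 → J ≤ 2 ^ (d - 1) * ordFactor 2 (d - 1)) (P : HPair B)
    (hK : ∀ w, w ∈ P.W h → w ≠ 0 → ∀ (hww : B w w = 0) (c : F) (hc : c + σ c = 0), T h hww hc ∈ H)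
    (hC : d = 3 → ∀ (g : HSU B) (β γ : F), ap g P.v = β • P.v → ap g P.f = γ • P.f → g ^ 3 = 1 →
        g ∈ H)
    {α β : F} {w : P.W h} (hw0 : w ≠ 0) (hx : InS h H (α • P.v + β • P.f + (w : V))) :
    J ≤ Nat.card {u : P.W h // u ≠ 0 ∧ InS h H (α • P.v + β • P.f + (u : V))} := by
  classical
  have : Finite V := Module.finite_of_finite F
  have hWn := h.orth_nondeg (P.nondeg h)
  have hH' := h.restrict_herm hWn
  have hrW := P.finrank_W h hd
  set p := α • P.v + β • P.f with hp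
  have hpmem : p ∈ P.plane :=
    Submodule.add_mem _ (Submodule.smul_mem _ _ P.v_mem) (Submodule.smul_mem _ _ P.f_mem)
  have hiso : ∀ u : P.W h, InS h H (p + (u : V)) → B p p + B (u : V) u = 0 := fun u hu => by
    have := hu.iso
    simp only [map_add, LinearMap.add_apply, h.mem_orth.1 u.2 p hpmem,
      h.eq_zero_symm (h.mem_orth.1 u.2 p hpmem)] at this
    linear_combination this
  have htr : ∀ b : HSU (IsHerm.restrict B (P.W h)),
      (b : HU (IsHerm.restrict B (P.W h))) ∈ hH'.trGroup → ∀ u : P.W h,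
        InS h H (p + (u : V)) → InS h H (p + (ap b u : P.W h)) := by
    intro b hb u hu
    have hbH := mem_of_trGroup h (P.nondeg h) H (fun y hy0 hy hyy c hc => hK y hy hy0 hyy c hc) b hb
    have := hu.map hbH
    rwa [map_add, ext'_fix h _ b hpmem, ext'_apply] at this
  obtain ⟨m, rfl⟩ : ∃ m, d = m + 3 := ⟨d - 3, by omega⟩
  rw [show m + 3 - 1 = m + 2 by omega, show m + 3 - 2 = m + 1 by omega] at hJ1
  rw [show m + 3 - 1 = m + 2 by omega] at hJ2
  have hI : Nat.card {u : P.W h // u ≠ 0 ∧ B (u : V) u = 0} =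
      ordFactor 2 (m + 2) * ordFactor 2 (m + 1) := by
    have := hH'.card_isotropic_ne_zero (m := m + 1) (by rw [hrW])
    rwa [hq] at this
  rcases norm_zero_or_one h hq (h.self_fixed p) with hpp | hpp
  · have hww : B (w : V) w = 0 := by
      have := hiso w hx
      rwa [hpp, zero_add] at this
    refine hJ1.trans (hI ▸ Nat.card_mono (Set.toFinite _) fun u hu => ⟨hu.1, ?_⟩)
    obtain ⟨g, hg, e⟩ := hH'.transitive_isotropic (by rw [hrW]; omega) hw0 hu.1 hww hu.2
    have := htr ⟨g, hH'.trGroup_le hg⟩ hg w hx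
    rwa [show ap (⟨g, hH'.trGroup_le hg⟩ : HSU _) w = u from e] at this
  have h2 : (2 : F) = 0 := two_eq_zero h hq
  have hone : ∀ u : P.W h, InS h H (p + (u : V)) → B (u : V) u = 1 := fun u hu => by
    have := hiso u hu
    rw [hpp] at this
    linear_combination this - h2
  have hww := hone w hx
  by_cases hd' : m + 3 = 3
  swap
  · have hN : Nat.card {u : P.W h // u ≠ 0 ∧ B (u : V) u = 1} = 2 ^ (m + 2) * ordFactor 2 (m + 2) := by
      have := card_norm_ne_zero hH' (m := m + 2) (by rw [hrW]) (one_ne_zero (α := F))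
        (map_one σ)
      rwa [hq] at this
    calc J ≤ Nat.card {u : P.W h // u ≠ 0 ∧ B (u : V) u = 1} := hN ▸ hJ2 hd'
      _ ≤ _ := by
        refine Nat.card_mono (Set.toFinite _) fun u hu => ⟨hu.1, ?_⟩
        obtain ⟨g, hg⟩ := exists_map hH' (by rw [hrW]; omega) hw0 hu.1
          (show B (w : V) w = B (u : V) u by rw [hww, hu.2])
        have := htr g (by
          rw [hH'.trGroup_eq (by rw [hrW]; omega) (fun e => absurd (hrW.symm.trans e) hd')]
          exact g.2) w hx
        rwa [hg] at this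
  obtain rfl : m = 0 := by omega
  obtain ⟨ω, hω1, hω⟩ := h.exists_norm_one_ne_one
  have hω3 : (ω : F) ^ 3 = 1 := pow_three h hq hω
  have hωs : 1 + (ω : F) + ω * ω = 0 := (mul_eq_zero.1 (show ((ω : F) - 1) * (1 + ω + ω * ω) = 0 by
    linear_combination hω3)).resolve_left (sub_ne_zero.2 hω1)
  have step : ∀ y : P.W h, B (y : V) y = 1 → ∀ u : P.W h, InS h H (p + (u : V)) →
      InS h H (p + (((ω : F) * ω) • (u + (((ω : F) - 1) * B (y : V) u) • y) : P.W h)) := by
    intro y hy u hu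
    have hy0 : B (y : V) y ≠ 0 := by rw [hy]; exact one_ne_zero
    have hmem : P.plScal h hω * h.quasiIso (y : V) hy0 ω hω ∈ HSU B := by
      rw [MonoidHom.mem_ker, map_mul, h.det_quasiIso]
      refine Units.ext ?_
      rw [Units.val_mul, P.det_plScal h hω, Units.val_one]
      linear_combination hω3
    set g : HSU B := ⟨P.plScal h hω * h.quasiIso (y : V) hy0 ω hω, hmem⟩
    have hg : ∀ z, ap g z = z + (((ω : F) - 1) * B P.f z) • P.v + (((ω : F) - 1) * B P.v z) • P.f +
        (((ω : F) - 1) * B (y : V) z) • (y : V) := fun z => by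
      show (P.plScal h hω : V ≃ₗ[F] V) (quasi B (y : V) hy0 ω z) = _
      rw [quasi_apply, hy, div_one, P.plScal_apply, map_add, map_add, smul_right, smul_right,
        P.fw y, P.vw y]
      match_scalars <;> ring
    have hgv : ap g P.v = (ω : F) • P.v := by
      rw [hg, P.fv h, P.vv, P.wv y]; module
    have hgf : ap g P.f = (ω : F) • P.f := by
      rw [hg, P.ff, P.vf, P.wf y]; module
    have hgy : ap g (y : V) = (ω : F) • (y : V) := by
      rw [hg, P.fw y, P.vw y, hy]; module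
    have hcube : g ^ 3 = 1 := ap_ext fun z => by
      rw [pow_succ, pow_succ, pow_one, ap_mul, ap_mul, ap_one]
      conv_lhs => rw [hg z]
      simp only [map_add, LinearEquiv.map_smul, hgv, hgf, hgy]
      rw [hg z]
      simp only [map_add, LinearEquiv.map_smul, hgv, hgf, hgy]
      rw [hg z]
      match_scalars
      · ring
      all_goals
        first
          | linear_combination B P.f z * hω3
          | linear_combination B P.v z * hω3
          | linear_combination B (y : V) z * hω3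
    have h1 := (hu.map (hC hd' g ω ω hgv hgf hcube)).smul (mul_ne_zero ω.ne_zero ω.ne_zero)
    convert h1 using 2
    rw [map_add, hp, map_add, LinearEquiv.map_smul, LinearEquiv.map_smul, hgv, hgf, hg, P.fw u,
      P.vw u]
    simp only [Submodule.coe_smul, Submodule.coe_add]
    match_scalars <;> first | ring1 | linear_combination -α * hω3 | linear_combination -β * hω3
  have hw' : IsHerm.restrict B (P.W h) w w ≠ 0 := by
    rw [IsHerm.restrict_apply, hww]; exact one_ne_zero
  have hperp : Nat.card {y : hH'.perp w // y ≠ 0 ∧ B ((y : P.W h) : V) (y : P.W h) = 1} = 6 := by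
    have := card_norm_ne_zero (hH'.restrict_perp hw') (m := 1)
      (by have : _ + 1 = 0 + 3 := (hH'.finrank_perp hw').trans hrW; omega) (one_ne_zero (α := F)) (map_one σ)
    rwa [hq, show ordFactor 2 1 = 3 from rfl] at this
  have hall : Nat.card {y : P.W h // y ≠ 0 ∧ B (y : V) y = 1} = 36 := by
    have := card_norm_ne_zero hH' (m := 2) (by rw [hrW]) (one_ne_zero (α := F)) (map_one σ)
    rwa [hq, show ordFactor 2 2 = 9 from rfl] at this
  have hline : ∀ a : F, a ≠ 0 → InS h H (p + ((a • w : P.W h) : V)) := by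
    have : Nonempty {y : hH'.perp w // y ≠ 0 ∧ B ((y : P.W h) : V) (y : P.W h) = 1} :=
      (Nat.card_pos_iff.1 (by omega)).1
    obtain ⟨⟨y, hy⟩, -, hyy⟩ := this.some
    have hyw : ∀ a : F, B (y : V) ((a • w : P.W h) : V) = 0 := fun a => by
      rw [Submodule.coe_smul, smul_right,
        h.eq_zero_symm (show B (w : V) (y : V) = 0 from hH'.mem_perp.1 hy), mul_zero]
    have next' : ∀ a : F, InS h H (p + ((a • w : P.W h) : V)) →
        InS h H (p + ((((ω : F) * ω * a) • w : P.W h) : V)) := fun a ha => by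
      have := step y hyy _ ha
      rwa [hyw, mul_zero, zero_smul, add_zero, smul_smul] at this
    intro a ha
    have h0 : InS h H (p + (((1 : F) • w : P.W h) : V)) := by rwa [one_smul]
    have h1 := next' _ h0
    have h1' := next' _ h1
    have ha3 : a ^ 3 = 1 := pow_three h hq (norm_of_ne_zero h hq ha)
    have : (a - 1) * ((a - (ω : F)) * (a - ω * ω)) = 0 := by
      linear_combination ha3 - hω3 + (a * ω - a * a) * hωs
    rcases mul_eq_zero.1 this with e | e
    · rwa [sub_eq_zero.1 e]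
    rcases mul_eq_zero.1 e with e | e
    · rwa [sub_eq_zero.1 e,
        show (ω : F) = ω * ω * (ω * ω * 1) by linear_combination -(ω : F) * hω3]
    · rwa [sub_eq_zero.1 e, ← mul_one ((ω : F) * ω)]
  have hphi : ∀ y : P.W h, B (y : V) y = 1 → B (w : V) y ≠ 0 →
      InS h H (p + ((((ω : F) * ω) • (B (w : V) y • w + ((ω : F) - 1) • y) : P.W h) : V)) := by
    intro y hy hc
    have := step y hy _ (hline _ hc)
    rwa [show B (y : V) ((B (w : V) y • w : P.W h) : V) = 1 by
      rw [Submodule.coe_smul, smul_right, ← h.symm (w : V) y, norm_of_ne_zero h hq hc], mul_one]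
      at this
  have hY : 30 ≤ Nat.card {y : P.W h // B (y : V) y = 1 ∧ B (w : V) y ≠ 0} := by
    have : Nat.card {y : P.W h // y ≠ 0 ∧ B (y : V) y = 1} ≤
        Nat.card ({y : P.W h // B (y : V) y = 1 ∧ B (w : V) y ≠ 0} ⊕
          {y : hH'.perp w // y ≠ 0 ∧ B ((y : P.W h) : V) (y : P.W h) = 1}) := by
      refine Nat.card_le_card_of_injective (fun y =>
        if hy : B (w : V) (y : P.W h) = 0 then
          Sum.inr ⟨⟨y.1, hH'.mem_perp.2 hy⟩, fun e => y.2.1 (congrArg Subtype.val e), y.2.2⟩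
        else Sum.inl ⟨y.1, y.2.2, hy⟩) fun a b e => ?_
      simp only at e
      split_ifs at e with ha hb
      · exact Subtype.ext (congrArg (fun z => z.1.1) (Sum.inr.inj e))
      · exact Subtype.ext (congrArg (fun z => z.1) (Sum.inl.inj e))
    rw [Nat.card_sum, hperp, hall] at this
    omega
  refine hJ1.trans (le_trans (show ordFactor 2 2 * ordFactor 2 1 ≤ 30 from by decide) (hY.trans ?_))
  refine Nat.card_le_card_of_injective (fun y => ⟨((ω : F) * ω) • (B (w : V) y.1 • w +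
    ((ω : F) - 1) • y.1), fun e => ?_, hphi _ y.2.1 y.2.2⟩) fun a b e => ?_
  · have := hone _ (hphi _ y.2.1 y.2.2)
    rw [e, ZeroMemClass.coe_zero, map_zero] at this
    exact zero_ne_one this
  · have e1 := smul_right_injective (P.W h) (mul_ne_zero ω.ne_zero ω.ne_zero)
      (congrArg Subtype.val e)
    have hc : B (w : V) (a.1 : V) = B (w : V) (b.1 : V) := by
      have e2 := congrArg (fun z : P.W h => B (w : V) (z : V)) e1
      simp only [Submodule.coe_add, Submodule.coe_smul, map_add, smul_right, hww] at e2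
      refine mul_left_cancel₀ ω.ne_zero ?_
      linear_combination e2
    simp only [hc] at e1
    exact Subtype.ext (smul_right_injective (P.W h) (sub_ne_zero.2 hω1) (add_left_cancel e1))

include h in
/-- Everywhere rigid. -/
theorem rigid_all {d M : ℕ} (hd : Module.finrank F V = d + 2) (hd1 : 1 ≤ d)
    (hM : Nat.card (fixedSub σ) * M ≤
      (Nat.card (fixedSub σ) + 1) * Nat.card (fixedSub σ) ^ (2 * d + 1))
    (hamp : ∀ P : HPair B, Amp (IsHerm.restrict B (P.W h)) d M) (hN : H.index < M) :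
    ∀ P : HPair B, P.Rigid h (HSU B ⧸ H) := by
  have : Finite V := Module.finite_of_finite F
  have := finite_HSU (B := B)
  rintro P x ⟨c, hc, hm⟩
  obtain ⟨reg, orb⟩ := P.rigid h hd hd1 (hamp P) hM hN hm
  exact ⟨reg, fun x' ⟨c', hc', hm'⟩ => orb x' c' hc' hm'⟩

include h in
/-- How many vectors are marked. -/
theorem le_marked {d : ℕ} (hd : Module.finrank F V = d + 2) (hd3 : 3 ≤ d) (hd4 : d ≠ 4)
    (hq : Nat.card (fixedSub σ) = 2) (hR : ∀ P : HPair B, P.Rigid h (HSU B ⧸ H)) {J : ℕ}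
    (hJ1 : J ≤ ordFactor 2 (d - 1) * ordFactor 2 (d - 2))
    (hJ2 : d ≠ 3 → J ≤ 2 ^ (d - 1) * ordFactor 2 (d - 1))
    {v : V} (hv0 : v ≠ 0) (hvv : B v v = 0) (hv : ¬ InS h H v) :
    ordFactor 2 (d - 1) * ordFactor 2 (d - 2) + 3 * J +
        Nat.card {u : V // (u ≠ 0 ∧ B u u = 0) ∧ ¬ InS h H u} ≤
      Nat.card {u : V // u ≠ 0 ∧ B u u = 0} := by
  classical
  have : Finite V := Module.finite_of_finite F
  have := finite_HSU (B := B)
  obtain ⟨P, hPv, hK, hC⟩ := exists_fixer_two h hq hd hd3 hd4 hR hv0 hvv hv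
  subst hPv
  have hrW := P.finrank_W h hd
  have hH' := h.restrict_herm (h.orth_nondeg (P.nondeg h))
  -- a marked vector outside the plane and its complement
  obtain ⟨x, hx, α, β, w, hxe, hp, hw⟩ : ∃ x, InS h H x ∧ ∃ (α β : F) (w : P.W h),
      x = α • P.v + β • P.f + (w : V) ∧ ¬ (α = 0 ∧ β = 0) ∧ w ≠ 0 := by
    obtain ⟨w₀, hw₀, hw₀w⟩ := hH'.exists_isotropic (by rw [hrW]; omega)
    rw [IsHerm.restrict_apply] at hw₀w
    by_cases hv' : InS h H (P.v + (w₀ : V))
    · exact ⟨_, hv', 1, 0, w₀, by simp, by simp, hw₀⟩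
    by_contra hcon
    have hv'0 : P.v + (w₀ : V) ≠ 0 := fun e => by
      have := congrArg (B P.f) e
      simp [P.fv h, P.fw w₀] at this
    have hv'v : B (P.v + (w₀ : V)) (P.v + (w₀ : V)) = 0 := by
      simp [P.vv, P.vw w₀, P.wv w₀, hw₀w]
    obtain ⟨P₁, hP₁, hK₁, -⟩ := exists_fixer_two h hq hd hd3 hd4 hR hv'0 hv'v hv'
    have hrW₁ := P₁.finrank_W h hd
    have hsub : P₁.W h ≤ P.W h := by
      have htop := top_of_isotropic (h.restrict_herm (h.orth_nondeg (P₁.nondeg h)))
        (by rw [hrW₁]; omega) ((P.W h).comap (P₁.W h).subtype) (fun z hz hzz => by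
          rw [Submodule.mem_comap]
          show (z : V) ∈ P.W h
          have hzS : InS h H (z : V) := ⟨hzz, fun e => hz (Subtype.ext e),
            fun c hc => hK₁ _ z.2 (fun e => hz (Subtype.ext e)) hzz c hc⟩
          obtain ⟨w', e⟩ := P.decomp h (z : V)
          by_cases hw' : w' = 0
          · exfalso
            rw [hw', ZeroMemClass.coe_zero, add_zero] at e
            have h1 := P₁.vw z
            rw [hP₁, e] at h1
            simp [smul_right, P.vv, P.vf, P.wv w₀, P.wf w₀] at h1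
            rw [h1, zero_smul, add_zero] at e
            rw [e] at hzS
            exact hv hzS.of_smul
          · by_cases hp' : B P.f (z : V) = 0 ∧ B P.v (z : V) = 0
            · rw [e, hp'.1, hp'.2, zero_smul, zero_smul, zero_add, zero_add]
              exact w'.2
            · exact absurd ⟨_, hzS, _, _, w', e, hp', hw'⟩ hcon)
      intro y hy
      have : (⟨y, hy⟩ : P₁.W h) ∈ (P.W h).comap (P₁.W h).subtype := by
        rw [htop]; exact Submodule.mem_top
      exact this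
    have heq : P₁.W h = P.W h := Submodule.eq_of_le_of_finrank_eq hsub (hrW₁.trans hrW.symm)
    obtain ⟨y, hy⟩ := hH'.exists_apply_eq_one hw₀
    rw [IsHerm.restrict_apply] at hy
    have h1 := P₁.vw (h := h) ⟨(y : V), by rw [heq]; exact y.2⟩
    rw [hP₁, add_left, P.vw y, hy, zero_add] at h1
    exact one_ne_zero h1
  subst hxe
  have hO := card_shift h hq hd hd3 hJ1 hJ2 P hK hC hw hx
  set p := α • P.v + β • P.f with hpdef
  have hfp : B P.f p = α := by simp [hpdef, smul_right, P.ff, P.fv h]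
  have hvp : B P.v p = β := by simp [hpdef, smul_right, P.vv, P.vf]
  -- counting the marked vectors
  set A := {u : P.W h // u ≠ 0 ∧ B (u : V) u = 0}
  set O := {u : P.W h // u ≠ 0 ∧ InS h H (p + (u : V))}
  have hin : Nat.card (A ⊕ {k : F // k ≠ 0} × O) ≤ Nat.card {y : V // InS h H y} := by
    refine Nat.card_le_card_of_injective (Sum.elim
      (fun u => ⟨(u.1 : V), u.2.2, fun e => u.2.1 (Subtype.ext e),
        fun c hc => hK _ u.1.2 (fun e => u.2.1 (Subtype.ext e)) u.2.2 c hc⟩)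
      (fun z => ⟨(z.1 : F) • (p + (z.2.1 : V)), z.2.2.2.smul z.1.2⟩)) ?_
    have key : ∀ (k k' : F) (u u' : P.W h),
        k • p + (u : V) = k' • p + (u' : V) → k = k' ∧ u = u' := by
      intro k k' u u' e
      have e1 := congrArg (B P.f) e
      have e2 := congrArg (B P.v) e
      rw [map_add, map_add, smul_right, smul_right, hfp, P.fw u, P.fw u', add_zero, add_zero] at e1
      rw [map_add, map_add, smul_right, smul_right, hvp, P.vw u, P.vw u', add_zero, add_zero] at e2
      have hk : k = k' := by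
        by_cases hα : α = 0
        · exact mul_right_cancel₀ (fun hβ => hp ⟨hα, hβ⟩) e2
        · exact mul_right_cancel₀ hα e1
      exact ⟨hk, Subtype.ext (add_left_cancel (hk ▸ e))⟩
    rintro (u | ⟨k, u⟩) (u' | ⟨k', u'⟩) e
    · have e' : (u.1 : V) = (u'.1 : V) := congrArg (fun t : {y : V // InS h H y} => t.1) e
      exact congrArg Sum.inl (Subtype.ext (Subtype.ext e'))
    · have e' : (u.1 : V) = (k' : F) • (p + (u'.1 : V)) :=
        congrArg (fun t : {y : V // InS h H y} => t.1) e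
      exact absurd (key 0 k' u.1 ((k' : F) • u'.1) (by
        rw [zero_smul, zero_add, e', Submodule.coe_smul, ← smul_add])).1.symm k'.2
    · have e' : (k : F) • (p + (u.1 : V)) = (u'.1 : V) :=
        congrArg (fun t : {y : V // InS h H y} => t.1) e
      exact absurd (key k 0 ((k : F) • u.1) u'.1 (by
        rw [zero_smul, zero_add, ← e', Submodule.coe_smul, ← smul_add])).1 k.2
    · have e' : (k : F) • (p + (u.1 : V)) = (k' : F) • (p + (u'.1 : V)) :=
        congrArg (fun t : {y : V // InS h H y} => t.1) e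
      obtain ⟨hk, hu⟩ := key k k' ((k : F) • u.1) ((k' : F) • u'.1) (by
        simpa [smul_add] using e')
      have hk' : k = k' := Subtype.ext hk
      subst hk'
      have hu' : u = u' := Subtype.ext (smul_right_injective (P.W h) k.2 hu)
      rw [hu']
  have hsplit : Nat.card {u : V // u ≠ 0 ∧ B u u = 0} =
      Nat.card {u : V // (u ≠ 0 ∧ B u u = 0) ∧ ¬ InS h H u} + Nat.card {y : V // InS h H y} := by
    rw [← Nat.card_sum]
    refine Nat.card_congr
      { toFun := fun u => if hu : InS h H u.1 then Sum.inr ⟨u.1, hu⟩ else Sum.inl ⟨u.1, u.2, hu⟩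
        invFun := Sum.elim (fun u => ⟨u.1, u.2.1⟩) (fun u => ⟨u.1, u.2.ne, u.2.iso⟩)
        left_inv := fun u => by by_cases hu : InS h H u.1 <;> simp [hu]
        right_inv := fun u => by
          rcases u with u | u
          · simp [u.2.2]
          · simp [u.2] }
  have hF : Nat.card {k : F // k ≠ 0} = 3 := by
    have := Fintype.ofFinite F
    rw [Nat.card_eq_fintype_card, Fintype.card_subtype_compl, Fintype.card_subtype_eq,
      ← Nat.card_eq_fintype_card, h.invol.card_sq, hq]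
    norm_num
  rw [Nat.card_sum, Nat.card_prod, hF] at hin
  have hA : Nat.card A = ordFactor 2 (d - 1) * ordFactor 2 (d - 2) := by
    have := hH'.card_isotropic_ne_zero (m := d - 2) (by rw [hrW]; omega)
    rw [hq, show d - 2 + 1 = d - 1 by omega] at this
    exact this
  rw [hsplit, ← hA]
  have : 3 * J ≤ 3 * Nat.card O := Nat.mul_le_mul_left 3 hO
  omega

include h in
/-- The lower bound over the field with four elements, in odd dimension. -/
theorem le_index_two {d : ℕ} (hd : Module.finrank F V = d + 2) (hd3 : 3 ≤ d) (hodd : Odd d)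
    (hq : Nat.card (fixedSub σ) = 2)
    (hamp : ∀ P : HPair B, Amp (IsHerm.restrict B (P.W h)) d (Pn 2 (d + 2)))
    (hH : H ≠ ⊤) : Pn 2 (d + 2) ≤ H.index := by
  by_contra hlt
  push Not at hlt
  have hR := rigid_all h hd (by omega) (by rw [hq]; exact Pn_bound le_rfl hd3) hamp hlt
  obtain ⟨v, hv0, hvv, hv⟩ := exists_not_inS h (by omega) (fun e => absurd e (by omega)) hH
  have hcount := index_mul_unmarked h hd (by omega) hR hv0 hvv hv
  rw [hq] at hcount
  obtain ⟨r, rfl⟩ := hodd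
  obtain ⟨e, rfl⟩ : ∃ e, r = e + 1 := ⟨r - 1, by omega⟩
  have hmark := le_marked h hd hd3 (by omega) hq hR
    (J := ordFactor 2 (2 * (e + 1) + 1 - 1) * ordFactor 2 (2 * (e + 1) + 1 - 2)) le_rfl (fun _ => by
      rw [mul_comm (2 ^ (2 * (e + 1) + 1 - 1))]
      refine Nat.mul_le_mul_left _ ?_
      rw [ordFactor, if_neg (by rw [Nat.even_iff]; omega),
        show 2 * (e + 1) + 1 - 2 + 1 = 2 * (e + 1) + 1 - 1 by omega]
      exact Nat.sub_le _ _) hv0 hvv hv
  rw [show 2 * (e + 1) + 1 - 1 = 2 * e + 2 by omega,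
    show 2 * (e + 1) + 1 - 2 = 2 * e + 1 by omega, ordFactor, ordFactor,
    if_pos (by rw [Nat.even_iff]; omega), if_neg (by rw [Nat.even_iff]; omega)] at hmark
  have hI := h.card_isotropic_ne_zero (m := 2 * (e + 1) + 1) hd
  rw [hq, ordFactor, ordFactor, if_pos (by rw [Nat.even_iff]; omega),
    if_neg (by rw [Nat.even_iff]; omega)] at hI
  have hN := Pn_mul_le 2 (2 * (e + 1) + 1 + 2)
  rw [show 2 * (e + 1) + 1 + 2 - 1 = 2 * (e + 1) + 1 + 1 by omega,
    show 2 * (e + 1) + 1 + 2 - 2 = 2 * (e + 1) + 1 by omega, ordFactor, ordFactor,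
    if_pos (by rw [Nat.even_iff]; omega), if_neg (by rw [Nat.even_iff]; omega), ← hI] at hN
  rw [show (2 : ℕ) ^ 2 - 1 = 3 from rfl] at hN
  have hone : ∀ a, 1 ≤ 2 ^ a := fun a => Nat.one_le_pow _ _ two_pos
  refine two_count_false (d := 2 * (e + 1) + 1) (by omega) ?_ ?_ ?_ hcount
  · rw [hI]
    zify [hone (2 * (e + 1) + 1 + 1)]
    ring
  · have h4 : 4 * ((2 ^ (2 * e + 2 + 1) + 1) * (2 ^ (2 * e + 1 + 1) - 1)) + 2 ^ (2 * e + 4) + 4 =
        2 ^ (2 * (2 * (e + 1) + 1) + 1) := by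
      zify [hone (2 * e + 1 + 1)]
      ring
    have h5 : Nat.card {u : V // u ≠ 0 ∧ B u u = 0} + 2 ^ (2 * e + 4) + 1 =
        4 * 2 ^ (2 * (2 * (e + 1) + 1) + 1) := by
      rw [hI]
      zify [hone (2 * (e + 1) + 1 + 1)]
      ring
    omega
  · omega

end CfsgLib.LocalEvenB.MinIndexSU
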