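import Cfsg.Agent.Lib.LocalEvenB.MinIndexSU.Setting

/-!
A point moved by a transvection is fixed by the special unitary group of a complement of some
hyperbolic pair at its centre.
-/

set_option autoImplicit false

namespace CfsgLib.LocalEvenB.MinIndexSU

open CfsgLib.Classical CfsgLib.Classical.Herm

variable {F : Type*} [Field F] {V : Type*} [AddCommGroup V] [Module F V] {σ : F →+* F}
  {B : V →ₛₗ[σ] V →ₗ[F] F} (h : IsHerm B) [Finite F] [FiniteDimensional F V]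

namespace HPair

variable (P : HPair B)

include h in
theorem exists_torus (hq : 3 ≤ Nat.card (fixedSub σ)) :
    ∃ (l : F) (g : HSU B), σ l = l ∧ l ≠ 1 ∧ P.Levi h g l ∧ (∀ w : P.W h, ap g w = w) ∧
      ∀ p ∈ P.plane, ap g p ∈ P.plane := by
  classical
  have : Fintype (fixedSub σ) := Fintype.ofFinite _
  obtain ⟨l, hl0, hl1⟩ : ∃ l : fixedSub σ, l ≠ 0 ∧ l ≠ 1 := by
    by_contra hc
    push Not at hc
    have hsub : (Finset.univ : Finset (fixedSub σ)) ⊆ {0, 1} := fun k _ => by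
      rcases eq_or_ne k 0 with hk | hk
      · simp [hk]
      · simp [hc k hk]
    have h1 := Finset.card_le_card hsub
    rw [Finset.card_univ, ← Nat.card_eq_fintype_card] at h1
    have h2 : ({0, 1} : Finset (fixedSub σ)).card ≤ 2 := Finset.card_le_two
    omega
  have hl0' : (l : F) ≠ 0 := fun e => hl0 (Subtype.ext e)
  obtain ⟨g₀, hdet, hg₀⟩ := h.exists_dilation P.vv P.ff P.vf hl0'
  have hσl : σ (l : F) = l := l.2
  have hmem : g₀ ∈ HSU B := MonoidHom.mem_ker.2 (Units.ext (by rw [hdet, hσl, div_self hl0']; rfl))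
  have hW : ∀ w : P.W h, ap (⟨g₀, hmem⟩ : HSU B) w = w := fun w => by
    show (g₀ : V ≃ₗ[F] V) w = w
    rw [hg₀ _ (P.vw w), P.fw w, mul_zero, zero_smul, add_zero]
  refine ⟨l, ⟨g₀, hmem⟩, hσl, fun e => hl1 (Subtype.ext e), ⟨?_, fun w => ?_⟩, hW, fun p hp => ?_⟩
  · show (g₀ : V ≃ₗ[F] V) P.v = _
    rw [hg₀ P.v P.vv, P.fv h]
    module
  · rw [hW]; exact w.2
  · obtain ⟨w', e⟩ := P.decomp h (ap (⟨g₀, hmem⟩ : HSU B) p)
    have hw' : w' = 0 := by
      refine Subtype.ext (h.orth_nondeg (P.nondeg h) _ w'.2 fun y hy => h.eq_zero_symm ?_)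
      have h1 : B y (ap (⟨g₀, hmem⟩ : HSU B) p) = 0 := by
        have hy' : ap (⟨g₀, hmem⟩ : HSU B) y = y := hW ⟨y, hy⟩
        rw [← hy', ap_eq]
        exact h.eq_zero_symm (h.mem_orth.1 hy p hp)
      rw [e, map_add, map_add, smul_right, smul_right, P.wv ⟨y, hy⟩, P.wf ⟨y, hy⟩] at h1
      simpa using h1
    rw [e, hw', ZeroMemClass.coe_zero, add_zero]
    exact Submodule.add_mem _ (Submodule.smul_mem _ _ P.v_mem) (Submodule.smul_mem _ _ P.f_mem)

theorem exists_fixer {d M : ℕ} (hd : Module.finrank F V = d + 2) (hd3 : 3 ≤ d)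
    (hq : 3 ≤ Nat.card (fixedSub σ)) (hamp : Amp (IsHerm.restrict B (P.W h)) d M)
    (hM : Nat.card (fixedSub σ) * M ≤
      (Nat.card (fixedSub σ) + 1) * Nat.card (fixedSub σ) ^ (2 * d + 1))
    (H : Subgroup (HSU B)) (hN : H.index < M) {c₀ : F} (hc₀ : c₀ + σ c₀ = 0)
    (hm : P.Tv h hc₀ ∉ H) :
    ∃ f', B P.v f' = 1 ∧ B f' f' = 0 ∧ ∀ g : HSU B, ap g P.v = P.v → ap g f' = f' → g ∈ H := by
  classical
  have : Finite V := Module.finite_of_finite F
  have := finite_HSU (B := B)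
  have hfix : ∀ g : HSU B, g • ((1 : HSU B) : HSU B ⧸ H) = ((1 : HSU B) : HSU B ⧸ H) ↔ g ∈ H :=
    fun g => by
      rw [MulAction.Quotient.smul_mk, smul_eq_mul, mul_one, QuotientGroup.eq, mul_one, inv_mem_iff]
  generalize hx₀ : ((1 : HSU B) : HSU B ⧸ H) = x₀ at hfix
  clear hx₀
  have hN' : Nat.card (HSU B ⧸ H) < M := hN
  have hd1 : 1 ≤ d := by omega
  have hm₀ : P.Tv h hc₀ • x₀ ≠ x₀ := fun e => hm ((hfix _).1 e)
  obtain ⟨reg₀, orb₀⟩ := P.rigid h hd hd1 hamp hM hN' hm₀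
  obtain ⟨l, t, hσl, hl1, ht, htW, htP⟩ := P.exists_torus h hq
  have hmap : ∀ w : P.W h, ht.map w = l • w := fun w => Subtype.ext (by
    rw [Levi.map_coe, hσl, htW]; rfl)
  have hl0 : l ≠ 0 := ht.scalar_ne
  -- the torus keeps a point moved
  have hc' : l * σ l * c₀ + σ (l * σ l * c₀) = 0 := by
    rw [map_mul, map_mul, h.invol.invol]; linear_combination (l * σ l) * hc₀
  obtain ⟨u₀, ⟨w₀, a₀, rfl⟩, hu₀⟩ := orb₀ (t • x₀) _ hc' (fun e => hm₀ (smul_left_cancel t (by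
    rw [← mul_smul, ht.mul_Tv hc₀, mul_smul]; exact e)))
  set w₁ : P.W h := (1 - l)⁻¹ • w₀ with hw₁
  obtain ⟨a₁, ha₁⟩ := h.invol.exists_trace_eq (μ := -B (w₁ : V) w₁)
    (by rw [map_neg, h.self_fixed])
  set u₁ := P.El h w₁ ⟨a₁, ha₁⟩
  obtain ⟨x, hx⟩ : ∃ x, x = u₁ • x₀ := ⟨_, rfl⟩
  have hu₁ : u₁ ∈ P.EU h := ⟨_, _, rfl⟩
  have hmx : P.Tv h hc₀ • x ≠ x := fun e => hm₀ (smul_left_cancel u₁ (by
    rw [← mul_smul, P.EU_comm_Tv h hc₀ hu₁, mul_smul, ← hx]; exact e))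
  obtain ⟨reg, orb⟩ := P.rigid h hd hd1 hamp hM hN' hmx
  have eqn : ∀ {a b : HSU B}, a ∈ P.EU h → b ∈ P.EU h → a • x = b • x → a = b := fun ha hb e =>
    inv_mul_eq_one.1 (reg _ ((P.EU h).mul_mem ((P.EU h).inv_mem ha) hb)
      (by rw [mul_smul, ← e, inv_smul_smul]))
  -- the torus fixes the transvection orbit of `x`
  obtain ⟨c, hc, htx⟩ : ∃ (c : F) (hc : c + σ c = 0), t • x = P.Tv h hc • x := by
    obtain ⟨a', e1⟩ : ∃ a', t • x = P.El h (ht.map w₁) a' • t • x₀ :=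
      ⟨_, by rw [hx, ← mul_smul, ht.mul_El, mul_smul]⟩
    rw [← hu₀, ← mul_smul, El_mul] at e1
    have hw : ht.map w₁ + w₀ = w₁ := by
      have h1 : (1 - l) ≠ 0 := sub_ne_zero.2 (Ne.symm hl1)
      rw [hmap]
      conv_lhs => arg 2; rw [show w₀ = (1 - l) • w₁ from (smul_inv_smul₀ h1 w₀).symm]
      rw [← add_smul, add_sub_cancel, one_smul]
    obtain ⟨a, ha⟩ : ∃ a : P.Par h w₁, t • x = P.El h w₁ a • x₀ := by
      revert e1
      generalize P.parMul h a' a₀ = b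
      revert b
      rw [hw]
      exact fun a' e => ⟨a', e⟩
    have hc : (a : F) - a₁ + σ ((a : F) - a₁) = 0 := by
      rw [map_sub]; linear_combination a.2 - ha₁
    refine ⟨_, hc, ha.trans ?_⟩
    rw [hx, ← mul_smul, Tv_mul_El]
    congr 1
    exact P.El_congr h _ _ rfl (by simp)
  have key : ∀ b, ∃ (c' : F) (hc' : c' + σ c' = 0),
      ext' h (P.nondeg h) b • x = P.Tv h hc' • x := by
    intro b
    set k := ext' h (P.nondeg h) b
    have hk : P.Levi h k 1 := P.levi_ext' h b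
    have hkT : ∀ {c : F} (hc : c + σ c = 0), k * P.Tv h hc = P.Tv h hc * k := fun hc => by
      rw [hk.mul_Tv hc]
      congr 1
      exact ap_ext fun y => by rw [MinIndexSU.T_apply, MinIndexSU.T_apply]; simp
    obtain ⟨u', ⟨w', a', rfl⟩, hu'⟩ := orb (k • x) c₀ hc₀ (fun e => hmx (smul_left_cancel k (by
      rw [← mul_smul, hkT, mul_smul]; exact e)))
    have htk : t * k = k * t := ap_ext fun y => by
      obtain ⟨w, hy⟩ := P.decomp h y
      have hp : B P.f y • P.v + B P.v y • P.f ∈ P.plane :=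
        Submodule.add_mem _ (Submodule.smul_mem _ _ P.v_mem) (Submodule.smul_mem _ _ P.f_mem)
      generalize B P.f y • P.v + B P.v y • P.f = p at hy hp
      simp only [hy, ap_mul, map_add, k, ext'_apply, htW,
        ext'_fix h _ b hp, ext'_fix h _ b (htP _ hp)]
    have e1 : t • k • x = P.Tv h hc • P.El h w' a' • x := by
      rw [← mul_smul, htk, mul_smul, htx, ← mul_smul, hkT, mul_smul, ← hu']
    rw [← hu', ← mul_smul, ht.mul_El, mul_smul, htx, ← mul_smul, ← mul_smul] at e1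
    have e2 := eqn ((P.EU h).mul_mem ⟨_, _, rfl⟩ (P.Tv_mem h hc))
      ((P.EU h).mul_mem (P.Tv_mem h hc) ⟨_, _, rfl⟩) e1
    rw [El_comm_Tv, mul_left_cancel_iff] at e2
    have hw' : w' = 0 := by
      have e3 := (P.El_inj h e2).1
      rw [hmap] at e3
      have : (l - 1) • w' = 0 := by rw [sub_smul, e3, one_smul, sub_self]
      exact (smul_eq_zero.1 this).resolve_left (sub_ne_zero.2 hl1)
    subst hw'
    refine ⟨(a' : F), by simpa using a'.2, ?_⟩
    rw [← hu']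
    congr 1
    refine ap_ext fun y => ?_
    rw [El_apply, MinIndexSU.T_apply]
    simp
  choose χ hχ hχx using key
  let φ : HSU (IsHerm.restrict B (P.W h)) →* Multiplicative F :=
    MonoidHom.mk' (fun b => Multiplicative.ofAdd (χ b)) fun b₁ b₂ => by
      rw [← ofAdd_add]
      congr 1
      have hk : ext' h (P.nondeg h) b₁ * P.Tv h (hχ b₂) =
          P.Tv h (hχ b₂) * ext' h (P.nondeg h) b₁ := by
        rw [(P.levi_ext' h b₁).mul_Tv (hχ b₂)]
        congr 1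
        exact ap_ext fun y => by rw [MinIndexSU.T_apply, MinIndexSU.T_apply]; simp
      have e : P.Tv h (hχ (b₁ * b₂)) • x = (P.Tv h (hχ b₂) * P.Tv h (hχ b₁)) • x := by
        rw [← hχx, map_mul, mul_smul, hχx, ← mul_smul, hk, mul_smul, hχx, mul_smul]
      have e2 := eqn (P.Tv_mem h _) ((P.EU h).mul_mem (P.Tv_mem h _) (P.Tv_mem h _)) e
      rw [P.Tv_add h (hχ b₂) (hχ b₁)] at e2
      have e3 := congrArg (fun g => ap g P.f) e2
      simp only [MinIndexSU.T_apply, P.vf, mul_one] at e3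
      exact (smul_left_injective F P.v_ne (add_left_cancel e3)).trans (add_comm _ _)
  have hperf := (h.restrict_herm (h.orth_nondeg (P.nondeg h))).HSU_le_commutator
    (by rw [P.finrank_W h hd]; omega) (fun _ => by omega)
  have hfixK : ∀ b, ext' h (P.nondeg h) b • x = x := by
    intro b
    have hb : b ∈ φ.ker :=
      Abelianization.commutator_subset_ker φ (by rw [hperf]; exact Subgroup.mem_top _)
    rw [hχx]
    have : χ b = 0 := hb
    convert one_smul (HSU B) x using 2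
    exact ap_ext fun y => by rw [MinIndexSU.T_apply, this]; simp [ap_one]
  have hv : ap u₁ P.v = P.v := P.El_v h _ _
  refine ⟨ap u₁⁻¹ P.f, ?_, ?_, fun g hgv hgf => ?_⟩
  · conv_lhs => rw [← ap_eq u₁, hv, ap_apply_inv]
    exact P.vf
  · rw [ap_eq, P.ff]
  · have hfix' : ∀ p ∈ P.plane, ap (u₁ * g * u₁⁻¹) p = p := by
      intro p hp
      obtain ⟨r, s, rfl⟩ := Submodule.mem_span_pair.1 hp
      have h1 : ap u₁⁻¹ P.v = P.v := by conv_lhs => rw [← hv, ap_inv_apply]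
      have e1 : ap (u₁ * g * u₁⁻¹) P.v = P.v := by rw [ap_mul, ap_mul, h1, hgv, hv]
      have e2 : ap (u₁ * g * u₁⁻¹) P.f = P.f := by rw [ap_mul, ap_mul, hgf, ap_apply_inv]
      rw [map_add, LinearEquiv.map_smul, LinearEquiv.map_smul, e1, e2]
    obtain ⟨b, hb⟩ := exists_ext'_eq h (P.nondeg h) _ hfix'
    have := hfixK b
    rw [hb, hx, ← mul_smul, inv_mul_cancel_right, mul_smul, smul_left_cancel_iff] at this
    exact (hfix g).1 this

end HPair

end CfsgLib.LocalEvenB.MinIndexSU
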