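import Cfsg.Agent.Lib.LocalEvenB.MinIndexSU.Small

/-!
Small additive subgroups of a four-dimensional unitary space have long orbits.
-/

set_option autoImplicit false

namespace CfsgLib.LocalEvenB.MinIndexSU

open CfsgLib.Classical CfsgLib.Classical.Herm
open scoped Pointwise

theorem sub_one_four (r : ℕ) : (r + 2) ^ 4 - 1 = r ^ 4 + 8 * r ^ 3 + 24 * r ^ 2 + 32 * r + 15 := by
  ring_nf; omega

theorem sub_one_two (r : ℕ) : (r + 2) ^ 2 - 1 = r ^ 2 + 4 * r + 3 := by ring_nf; omega

theorem num_line {q : ℕ} (hq : 2 ≤ q) :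
    (q ^ 4 + q ^ 2 + 1) * (q ^ 5 + 1) * q ^ 2 * q ^ 2 ≤ q ^ 3 * (q ^ 4 - 1) * q ^ (2 * 4 + 1) := by
  obtain ⟨r, rfl⟩ : ∃ r, q = r + 2 := ⟨q - 2, by omega⟩
  rw [sub_one_four]; ring_nf; omega

theorem num_nonsing {q : ℕ} (hq : 2 ≤ q) : (q ^ 4 + q ^ 2 + 1) * (q ^ 5 + 1) * q ^ 3 ≤
    2 * ((q ^ 2 - 1) * (q ^ 3 + 1)) * (q ^ 3 * (q ^ 4 - 1)) := by
  obtain ⟨r, rfl⟩ : ∃ r, q = r + 2 := ⟨q - 2, by omega⟩
  rw [sub_one_four, sub_one_two]; ring_nf; omega

theorem num_sing {q : ℕ} (hq : 2 ≤ q) : (q ^ 4 + q ^ 2 + 1) * (q ^ 5 + 1) * q ^ 3 ≤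
    2 * q ^ 5 * ((q ^ 4 - 1) * (q ^ 3 + 1)) := by
  obtain ⟨r, rfl⟩ : ∃ r, q = r + 2 := ⟨q - 2, by omega⟩
  rw [sub_one_four]; ring_nf; omega

theorem num_plane {q : ℕ} (hq : 2 ≤ q) : (q ^ 4 + q ^ 2 + 1) * (q ^ 5 + 1) * q ^ 4 ≤
    (q + 1) * (q ^ 3 + 1) * q ^ (2 * 4 + 1) := by
  obtain ⟨r, rfl⟩ : ∃ r, q = r + 2 := ⟨q - 2, by omega⟩
  ring_nf; omega

variable {F : Type*} [Field F] {V : Type*} [AddCommGroup V] [Module F V] {σ : F →+* F}
  {B : V →ₛₗ[σ] V →ₗ[F] F} (h : IsHerm B) [Finite F] [FiniteDimensional F V]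
include h

omit [FiniteDimensional F V] in
theorem finrank_perp_pair [FiniteDimensional F V] {x y : V} (hli : LinearIndependent F ![x, y]) :
    Module.finrank F (h.orth (Submodule.span F ({x, y} : Set V))) + 2 = Module.finrank F V := by
  let φ : V →ₗ[F] F × F := (B x).prod (B y)
  have hφ : LinearMap.range φ = ⊤ := by
    obtain ⟨k, hk1, hk2⟩ := h.exists_apply_pair hli
    obtain ⟨l, hl1, hl2⟩ := h.exists_apply_pair (LinearIndependent.pair_symm_iff.1 hli)
    rw [eq_top_iff]
    rintro ⟨a, b⟩ -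
    exact ⟨a • l + b • k, by simp [φ, hk1, hk2, hl1, hl2]⟩
  have hk : LinearMap.ker φ = h.orth (Submodule.span F ({x, y} : Set V)) := by
    ext z
    rw [LinearMap.mem_ker, h.mem_orth]
    constructor
    · intro hz w hw
      obtain ⟨r, s, rfl⟩ := Submodule.mem_span_pair.1 hw
      obtain ⟨h1, h2⟩ : B x z = 0 ∧ B y z = 0 := by simpa [φ] using hz
      rw [add_left, smul_left, smul_left, h1, h2, mul_zero, mul_zero, add_zero]
    · intro hz
      simp [φ, hz x (Submodule.subset_span (by simp)), hz y (Submodule.subset_span (by simp))]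
  have := LinearMap.finrank_range_add_finrank_ker φ
  rw [hφ, hk, finrank_top, Module.finrank_prod, Module.finrank_self] at this
  omega

theorem eq_orth_of_pair (h4 : Module.finrank F V = 4) {x y : V}
    (hli : LinearIndependent F ![x, y]) (hxx : B x x = 0) (hxy : B x y = 0) (hyy : B y y = 0) :
    h.orth (Submodule.span F ({x, y} : Set V)) = Submodule.span F ({x, y} : Set V) := by
  refine (Submodule.eq_of_le_of_finrank_eq ?_ ?_).symm
  · refine Submodule.span_le.2 ?_
    intro z hz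
    rw [SetLike.mem_coe, h.mem_orth]
    intro w hw
    obtain ⟨r, s, rfl⟩ := Submodule.mem_span_pair.1 hw
    rcases hz with rfl | rfl <;>
      simp [hxx, hxy, hyy, h.eq_zero_symm hxy]
  · have h1 := finrank_perp_pair h hli
    have h2 := finrank_span_eq_card hli
    rw [Matrix.range_cons_cons_empty, Fintype.card_fin] at h2
    omega

/-- The number of totally isotropic lines in dimension four, and transitivity on them. -/
theorem card_planes_le (h4 : Module.finrank F V = 4) [Finite V] (s : AddSubgroup V)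
    (L : Submodule F V) (hL : Module.finrank F L = 2) (hiso : ∀ u ∈ L, ∀ v ∈ L, B u v = 0)
    (hsL : Submodule.span F (s : Set V) = L) :
    (Nat.card (fixedSub σ) + 1) * (Nat.card (fixedSub σ) ^ 3 + 1) ≤
      (MulAction.orbit (HSU B) (s : Set V)).ncard := by
  have : Nontrivial V := Module.nontrivial_of_finrank_pos (R := F) (by omega)
  have : Finite (Set V) := inferInstance
  set q := Nat.card (fixedSub σ) with hq
  have hq2 : 2 ≤ q := IsInvol.card_ge_two (σ := σ)
  let 𝒲 := {W : Submodule F V // Module.finrank F W = 2 ∧ ∀ u ∈ W, ∀ v ∈ W, B u v = 0}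
  have : Finite (Submodule F V) := Finite.of_injective (fun W => (W : Set V)) SetLike.coe_injective
  have key : ∀ W : 𝒲, ∃ g : HSU B, ∀ x, x ∈ L ↔ ap g x ∈ W.1 := by
    intro W
    let e : L ≃ₗ[F] W.1 := LinearEquiv.ofFinrankEq _ _ (hL.trans W.2.1.symm)
    obtain ⟨g₀, hg₀⟩ := h.exists_extension L (W.1.subtype.comp e.toLinearMap)
      (fun a b hab => e.injective (Subtype.ext hab))
      (fun a b => (W.2.2 _ (e a).2 _ (e b).2).trans (hiso _ a.2 _ b.2).symm)
    have hmap : ∀ x, x ∈ L ↔ (g₀ : V ≃ₗ[F] V) x ∈ W.1 := by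
      intro x
      constructor
      · intro hx
        rw [hg₀ ⟨x, hx⟩]
        exact (e ⟨x, hx⟩).2
      · intro hx
        have h1 := hg₀ (e.symm ⟨_, hx⟩)
        simp only [LinearMap.comp_apply, LinearEquiv.coe_coe, LinearEquiv.apply_symm_apply,
          Submodule.subtype_apply] at h1
        rw [← (g₀ : V ≃ₗ[F] V).injective h1]
        exact (e.symm ⟨_, hx⟩).2
    have hdet : HU.det B g₀ ∈ (isoStab (fun u v => B u v) W.1).map (HU.det B) := by
      rw [h.isoStab_det_range W.1 W.2.1 W.2.2]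
      exact ⟨g₀, rfl⟩
    obtain ⟨r, hr, hrd⟩ := Subgroup.mem_map.1 hdet
    refine ⟨⟨r⁻¹ * g₀, ?_⟩, fun x => (hmap x).trans ?_⟩
    · rw [MonoidHom.mem_ker, map_mul, map_inv, hrd, inv_mul_cancel]
    · have := (mem_isoStab.1 ((isoStab (fun u v => B u v) W.1).inv_mem hr))
        ((g₀ : V ≃ₗ[F] V) x)
      exact this
  choose g hg using key
  have hinj : Function.Injective (fun W : 𝒲 =>
      (⟨g W • (s : Set V), g W, rfl⟩ : MulAction.orbit (HSU B) (s : Set V))) := by
    intro W W' e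
    have hspan : ∀ U : 𝒲, Submodule.span F (g U • (s : Set V)) = U.1 := by
      intro U
      rw [show g U • (s : Set V) = (ap (g U)).toLinearMap '' (s : Set V) from rfl,
        Submodule.span_image, hsL]
      ext x
      constructor
      · rintro ⟨y, hy, rfl⟩
        exact (hg U y).1 hy
      · intro hx
        exact ⟨ap (g U)⁻¹ x, (hg U _).2 (by rwa [ap_apply_inv]), ap_apply_inv _ _⟩
    have e' : g W • (s : Set V) = g W' • (s : Set V) := congrArg Subtype.val e
    exact Subtype.ext (by rw [← hspan W, ← hspan W', e'])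
  have h1 := Nat.card_le_card_of_injective _ hinj
  rw [Nat.card_coe_set_eq] at h1
  refine le_trans (le_of_eq ?_) h1
  have h2 : Nat.card 𝒲 * _ = _ := h.card_totallyIsotropic_mul 2
  have h3 := h.card_isoTuples (k := 2) h4 (by norm_num)
  rw [← h2, Fin.prod_univ_two, h.invol.card_sq, ← hq] at h3
  have h4' : 1 ≤ q ^ 2 := Nat.one_le_pow _ _ (by omega)
  have h5 : 1 ≤ q ^ 4 := Nat.one_le_pow _ _ (by omega)
  have h6 : q ^ 2 < q ^ 4 := Nat.pow_lt_pow_right (by omega) (by norm_num)
  generalize Nat.card 𝒲 = N at h3 ⊢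
  norm_num [ordProd, ordFactor, Finset.prod_range_succ, ← pow_mul, even_iff_two_dvd] at h3
  have hz : (0 : ℤ) < ((q : ℤ) ^ 4 - 1) * ((q : ℤ) ^ 4 - q ^ 2) := by
    have : (q : ℤ) ^ 2 < q ^ 4 := by exact_mod_cast h6
    have : (1 : ℤ) ≤ q ^ 2 := by exact_mod_cast h4'
    exact mul_pos (by linarith) (by linarith)
  zify [h4', h5, h6.le] at h3 ⊢
  apply mul_right_cancel₀ hz.ne'
  linear_combination -h3

theorem orth_line_data (h4 : Module.finrank F V = 4) {w : V} (hw : B w w ≠ 0) :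
    (∀ p ∈ Submodule.span F ({w} : Set V),
      (∀ r ∈ Submodule.span F ({w} : Set V), B p r = 0) → p = 0) ∧
    Module.finrank F (h.orth (Submodule.span F ({w} : Set V))) = 3 := by
  have hW : ∀ p ∈ Submodule.span F ({w} : Set V),
      (∀ r ∈ Submodule.span F ({w} : Set V), B p r = 0) → p = 0 := by
    intro p hp hrad
    obtain ⟨r, rfl⟩ := Submodule.mem_span_singleton.1 hp
    have := hrad w (Submodule.mem_span_singleton_self w)
    rw [smul_left, mul_eq_zero] at this
    rw [IsInvol.apply_eq_zero_iff.1 (this.resolve_right hw), zero_smul]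
  refine ⟨hW, ?_⟩
  have := h.finrank_orth hW
  rw [finrank_span_singleton (fun e => hw (by rw [e, zero_left]))] at this
  omega

theorem amp_four (h4 : Module.finrank F V = 4) :
    Amp B 4 (Pn (Nat.card (fixedSub σ)) 6) := by
  have : Finite V := Module.finite_of_finite F
  intro s hs hcard
  set q := Nat.card (fixedSub σ) with hq
  have hq2 : 2 ≤ q := IsInvol.card_ge_two (σ := σ)
  rw [Pn_six hq2]
  set L := (MulAction.orbit (HSU B) (s : Set V)).ncard
  set S := Nat.card s
  have hS : 0 < S := Nat.card_pos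
  have a4 : 1 ≤ q ^ 4 := Nat.one_le_pow _ _ (by omega)
  have a2 : 1 ≤ q ^ 2 := Nat.one_le_pow _ _ (by omega)
  have hz : (2 : ℤ) ≤ q := by exact_mod_cast hq2
  -- pairs
  have finish2 : ∀ k A : ℕ, 2 * A * k ≤ L * (S * S) →
      (q ^ 4 + q ^ 2 + 1) * (q ^ 5 + 1) * q ^ 3 ≤ 2 * A * k →
      (q ^ 4 + q ^ 2 + 1) * (q ^ 5 + 1) * S ≤ L * q ^ (2 * 4 + 1) := by
    intro k A h1 h2
    refine Nat.le_of_mul_le_mul_right ?_ (Nat.mul_pos hS hS)
    calc (q ^ 4 + q ^ 2 + 1) * (q ^ 5 + 1) * S * (S * S)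
        ≤ (q ^ 4 + q ^ 2 + 1) * (q ^ 5 + 1) * q ^ 4 * (q ^ 4 * q ^ 4) :=
          Nat.mul_le_mul (Nat.mul_le_mul_left _ hcard) (Nat.mul_le_mul hcard hcard)
      _ = (q ^ 4 + q ^ 2 + 1) * (q ^ 5 + 1) * q ^ 3 * q ^ 9 := by ring
      _ ≤ L * (S * S) * q ^ (2 * 4 + 1) := Nat.mul_le_mul_right _ (h2.trans h1)
      _ = L * q ^ (2 * 4 + 1) * (S * S) := by ring
  have orbit_ge : ∀ w : V, w ≠ 0 →
      q ^ 3 * (q ^ 4 - 1) ≤ (MulAction.orbit (HSU B) w).ncard := fun w hw => by
    rw [orbit_eq_norm h (by omega) hw]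
    exact card_norm_four h h4 (h.self_fixed w)
  obtain ⟨w₀, hw₀, hw₀0⟩ : ∃ w ∈ s, w ≠ 0 := by
    by_contra hc
    push Not at hc
    exact hs ((AddSubgroup.eq_bot_iff_forall s).2 hc)
  by_cases hline : ∀ x ∈ s, x ∈ Submodule.span F ({w₀} : Set V)
  · -- inside a single line
    have h1 : S ≤ q ^ 2 := by
      rw [← h.invol.card_sq (F := F)]
      refine le_trans (Nat.card_le_card_of_injective
        (fun x : s => (⟨(x : V), hline x x.2⟩ : Submodule.span F ({w₀} : Set V)))
        fun a b e => Subtype.ext (congrArg (fun z : Submodule.span F ({w₀} : Set V) => (z : V)) e))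
        (le_of_eq ?_)
      rw [Module.natCard_eq_pow_finrank (K := F), finrank_span_singleton hw₀0, pow_one]
    have h2 := (orbit_ge w₀ hw₀0).trans (card_orbit_le s hw₀)
    refine Nat.le_of_mul_le_mul_right ?_ hS
    calc (q ^ 4 + q ^ 2 + 1) * (q ^ 5 + 1) * S * S
        ≤ (q ^ 4 + q ^ 2 + 1) * (q ^ 5 + 1) * q ^ 2 * q ^ 2 :=
          Nat.mul_le_mul (Nat.mul_le_mul_left _ h1) h1
      _ ≤ q ^ 3 * (q ^ 4 - 1) * q ^ (2 * 4 + 1) := num_line hq2
      _ ≤ L * S * q ^ (2 * 4 + 1) := Nat.mul_le_mul_right _ h2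
      _ = L * q ^ (2 * 4 + 1) * S := by ring
  push Not at hline
  by_cases hns : ∃ w ∈ s, B w w ≠ 0
  · obtain ⟨w, hw, hww⟩ := hns
    have hw0 : w ≠ 0 := fun e => hww (by rw [e, zero_left])
    obtain ⟨hW, hr⟩ := orth_line_data h h4 hww
    obtain ⟨w', hw', hw'n⟩ : ∃ x ∈ s, x ∉ Submodule.span F ({w} : Set V) := by
      by_contra hc
      push Not at hc
      obtain ⟨x, hx, hxn⟩ := hline
      apply hxn
      obtain ⟨a, ha⟩ := Submodule.mem_span_singleton.1 (hc x hx)
      obtain ⟨b, hb⟩ := Submodule.mem_span_singleton.1 (hc w₀ hw₀)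
      have hb0 : b ≠ 0 := by rintro rfl; exact hw₀0 (by rw [← hb, zero_smul])
      exact Submodule.mem_span_singleton.2 ⟨a / b, by rw [← hb, smul_smul, div_mul_cancel₀ _ hb0, ha]⟩
    set a := B w w' / B w w
    set y := w' - a • w with hy
    have hwy : B w y = 0 := by
      rw [hy, map_sub, smul_right, div_mul_cancel₀ _ hww, sub_self]
    have hy0 : y ≠ 0 := fun e => hw'n (Submodule.mem_span_singleton.2 ⟨a, (sub_eq_zero.1 e).symm⟩)
    have hmem : ∀ z, B w z = 0 → z ∈ h.orth (Submodule.span F ({w} : Set V)) := fun z hz => by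
      rw [h.mem_orth]
      intro p hp
      obtain ⟨r, rfl⟩ := Submodule.mem_span_singleton.1 hp
      rw [smul_left, hz, mul_zero]
    let U := h.orth (Submodule.span F ({w} : Set V))
    let X : Set V := Set.range
      fun z : {z : U // z ≠ 0 ∧ IsHerm.restrict B U z z = B y y} => a • w + (z.1 : V)
    have hXcard : (q ^ 2 - 1) * (q ^ 3 + 1) ≤ X.ncard := by
      refine (card_norm_three (h.restrict_herm (h.orth_nondeg hW)) hr (h.self_fixed y)).trans
        (le_of_eq ?_)
      rw [← Nat.card_coe_set_eq, Nat.card_range_of_injective]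
      intro z z' e
      exact Subtype.ext (Subtype.ext (add_left_cancel e))
    have hpair := two_mul_pair_le s hw hw' X (by
      rintro _ ⟨⟨⟨z, hz⟩, hz0, hzz⟩, rfl⟩
      obtain ⟨g, hgfix, hgy⟩ := exists_fix_map h hW (by rw [hr]) (hmem y hwy) hz hy0
        (fun e => hz0 (Subtype.ext e)) hzz.symm
      have hgw := hgfix w (Submodule.mem_span_singleton_self w)
      refine ⟨g, hgw, ?_⟩
      rw [show w' = a • w + y by rw [hy]; abel, map_add, LinearEquiv.map_smul, hgw, hgy])
      (B w w') (by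
        rintro _ ⟨⟨⟨z, hz⟩, _, _⟩, rfl⟩
        have := h.mem_orth.1 hz w (Submodule.mem_span_singleton_self w)
        rw [map_add, smul_right, this, add_zero, div_mul_cancel₀ _ hww])
      (Or.inl hww)
    refine finish2 _ _ hpair (le_trans ?_ (Nat.mul_le_mul (Nat.mul_le_mul_left 2 hXcard)
      (orbit_ge w hw0)))
    exact num_nonsing hq2
  push Not at hns
  by_cases hpr : ∃ w ∈ s, ∃ w' ∈ s, B w w' ≠ 0
  · obtain ⟨w, hw, w', hw', hc⟩ := hpr
    have hw0 : w ≠ 0 := fun e => hc (by rw [e, zero_left])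
    have hww := hns w hw
    obtain ⟨f, hwf, hff⟩ := h.exists_isotropic_partner hw0 hww
    have hd := h.hyperbolic_disc (f := f) hww hwf
    have hWn := h.pair_nondeg hd
    have hr := h.finrank_orth hWn
    rw [h.pair_finrank hd] at hr
    set c := B w w' with hcdef
    let U := h.orth (Submodule.span F ({w, f} : Set V))
    have htr : ∀ y : U, ∃ a, a + σ a = -B (y : V) y := fun y =>
      h.invol.exists_trace_eq (by rw [map_neg, h.self_fixed])
    choose a ha using htr
    have hσc : σ c ≠ 0 := fun e => hc (IsInvol.apply_eq_zero_iff.1 e)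
    let X : Set V := Set.range
      fun p : U × skew σ => c • f + (p.1 : V) + ((a p.1 + p.2) / σ c) • w
    have hU : ∀ y : U, B w (y : V) = 0 ∧ B f (y : V) = 0 := fun y =>
      ⟨h.mem_orth.1 y.2 w (Submodule.subset_span (by simp)),
        h.mem_orth.1 y.2 f (Submodule.subset_span (by simp))⟩
    have hfw : B f w = 1 := by rw [← h.symm, hwf, map_one]
    have hUr : Module.finrank F U = 2 := by
      show Module.finrank F (h.orth (Submodule.span F ({w, f} : Set V))) = 2
      omega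
    have hXcard : q ^ 5 ≤ X.ncard := by
      rw [← Nat.card_coe_set_eq, Nat.card_range_of_injective]
      · rw [Nat.card_prod, card_skew h, Module.natCard_eq_pow_finrank (K := F), h.invol.card_sq,
          hUr]
        exact le_of_eq (by ring)
      · rintro ⟨y, t⟩ ⟨y', t'⟩ e
        dsimp only at e
        have e1 := congrArg (B f) e
        simp only [map_add, smul_right, hff, (hU _).2, hfw, mul_zero, zero_add, mul_one] at e1
        have e2 : (y : V) = y' := by rw [e1] at e; exact add_left_cancel (add_right_cancel e)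
        obtain rfl : y = y' := Subtype.ext e2
        rw [div_left_inj' hσc, add_right_inj] at e1
        rw [Subtype.ext e1]
    have hXprop : ∀ x ∈ X, B w x = c ∧ B x x = 0 := by
      rintro _ ⟨⟨y, ⟨t, ht⟩⟩, rfl⟩
      refine ⟨?_, ?_⟩
      · simp only [map_add, smul_right, hwf, (hU _).1, hww]; ring
      · simp only [map_add, LinearMap.add_apply, smul_left, smul_right, hwf, hfw, hff, hww,
          (hU _).1, (hU _).2, h.eq_zero_symm (hU _).1, h.eq_zero_symm (hU _).2, map_div₀, map_add,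
          h.invol.invol]
        have := mem_skew.1 ht
        field_simp
        linear_combination (σ c * c) * (ha y + this)
    have hpair := two_mul_pair_le s hw hw' X (fun x hx => by
      obtain ⟨h1, h2⟩ := hXprop x hx
      have hi : ∀ z : V, B z z = 0 → B (c⁻¹ • z) (c⁻¹ • z) = 0 := fun z hz => by
        rw [IsHerm.smul_self, hz, mul_zero]
      obtain ⟨g, hg, e1, e2⟩ := h.transitive_hyperbolic (by omega) hww (w := c⁻¹ • w')
        (w' := c⁻¹ • x) (by rw [smul_right, ← hcdef, inv_mul_cancel₀ hc])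
        (by rw [smul_right, h1, inv_mul_cancel₀ hc]) (hi _ (hns _ hw')) (hi _ h2)
      refine ⟨⟨g, hg⟩, e1, ?_⟩
      rw [LinearEquiv.map_smul] at e2
      exact smul_right_injective V (inv_ne_zero hc) e2)
      c (fun x hx => (hXprop x hx).1) (Or.inr hc)
    have horb : (q ^ 4 - 1) * (q ^ 3 + 1) ≤ (MulAction.orbit (HSU B) w).ncard := by
      rw [orbit_eq_norm h (by omega) hw0, hww, h.card_isotropic_ne_zero (m := 2) h4, ordFactor,
        ordFactor, if_neg (by decide), if_pos (by decide)]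
    exact finish2 _ _ hpair
      ((num_sing hq2).trans (Nat.mul_le_mul (Nat.mul_le_mul_left 2 hXcard) horb))
  push Not at hpr
  -- the span is a totally isotropic line
  obtain ⟨w', hw', hw'n⟩ := hline
  have hli : LinearIndependent F ![w₀, w'] := by
    rw [LinearIndependent.pair_iff' hw₀0]
    intro b hb
    exact hw'n (Submodule.mem_span_singleton.2 ⟨b, hb⟩)
  set L₀ := Submodule.span F ({w₀, w'} : Set V) with hL₀
  have horth := eq_orth_of_pair h h4 hli (hpr _ hw₀ _ hw₀) (hpr _ hw₀ _ hw') (hpr _ hw' _ hw')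
  have hsL : ∀ z ∈ s, z ∈ L₀ := by
    intro z hz
    rw [hL₀, ← horth, h.mem_orth]
    intro p hp
    obtain ⟨r, t, rfl⟩ := Submodule.mem_span_pair.1 hp
    rw [add_left, smul_left, smul_left, hpr _ hw₀ _ hz, hpr _ hw' _ hz, mul_zero, mul_zero,
      add_zero]
  have hspan : Submodule.span F (s : Set V) = L₀ := by
    refine le_antisymm (Submodule.span_le.2 hsL) (Submodule.span_mono ?_)
    exact Set.insert_subset hw₀ (Set.singleton_subset_iff.2 hw')
  have hrank : Module.finrank F L₀ = 2 := by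
    have h2 := finrank_span_eq_card hli
    rwa [Matrix.range_cons_cons_empty, Fintype.card_fin] at h2
  have hiso : ∀ u ∈ L₀, ∀ v ∈ L₀, B u v = 0 := fun u hu v hv => by
    rw [hL₀, ← horth] at hv
    exact h.mem_orth.1 hv u hu
  have hpl := card_planes_le h h4 s L₀ hrank hiso hspan
  calc (q ^ 4 + q ^ 2 + 1) * (q ^ 5 + 1) * S
      ≤ (q ^ 4 + q ^ 2 + 1) * (q ^ 5 + 1) * q ^ 4 := Nat.mul_le_mul_left _ hcard
    _ ≤ (q + 1) * (q ^ 3 + 1) * q ^ (2 * 4 + 1) := num_plane hq2
    _ ≤ L * q ^ (2 * 4 + 1) := Nat.mul_le_mul_right _ hpl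

end CfsgLib.LocalEvenB.MinIndexSU
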