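import Cfsg.Agent.Lib.LocalEvenB.MinIndexSU.FourTypes
import Cfsg.Agent.Lib.LocalEvenB.MinIndexSU.EndgameTwo

/-!
In dimension four and small index: the structure of a moved point, and why no transvection at a
vector orthogonal to the centre fixes it.
-/

set_option autoImplicit false

namespace CfsgLib.LocalEvenB.MinIndexSU

open CfsgLib.Classical CfsgLib.Classical.Herm

theorem four_divide_false {q k : ℕ} (hq : 2 ≤ q)
    (e : q * (q ^ 3 + q ^ 2 + 1) * k = (q ^ 4 - 1) * (q ^ 3 + 1) * (q ^ 3 * (q + 1))) : False := by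
  have e' : ((q : ℤ) * (q ^ 3 + q ^ 2 + 1) * k) = (q ^ 4 - 1) * (q ^ 3 + 1) * (q ^ 3 * (q + 1)) := by
    have h4 : 1 ≤ q ^ 4 := Nat.one_le_pow _ _ (by omega)
    have := congrArg (fun n : ℕ => (n : ℤ)) e
    push_cast [h4] at this
    exact this
  have hq0 : (q : ℤ) ≠ 0 := by exact_mod_cast (show q ≠ 0 by omega)
  have e2 : ((q : ℤ) ^ 3 + q ^ 2 + 1) * k = (q ^ 4 - 1) * (q ^ 3 + 1) * (q ^ 2 * (q + 1)) :=
    mul_left_cancel₀ hq0 (by linear_combination e')
  have h1 : ((q : ℤ) ^ 3 + q ^ 2 + 1) ∣ (q : ℤ) ^ 4 * (q ^ 2 + q + 1) :=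
    ⟨k - (q ^ 4 - 1) * (q + 1) * q ^ 2 + q ^ 6, by linear_combination -e2⟩
  have h2 : IsCoprime ((q : ℤ) ^ 3 + q ^ 2 + 1) ((q : ℤ) ^ 4) :=
    IsCoprime.pow_right ⟨1, -((q : ℤ) ^ 2 + q), by ring⟩
  have h3 := Int.le_of_dvd (by positivity) (h2.dvd_of_dvd_mul_left h1)
  have : (2 : ℤ) ≤ q := by exact_mod_cast hq
  nlinarith

variable {F : Type*} [Field F] {V : Type*} [AddCommGroup V] [Module F V] {σ : F →+* F}
  {B : V →ₛₗ[σ] V →ₗ[F] F} (h : IsHerm B) [Finite F] [FiniteDimensional F V]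
  {H : Subgroup (HSU B)}

theorem moved_smul_iff {P Q : HPair B} {g : HSU B} (hg : ap g P.v = Q.v) (x : HSU B ⧸ H) :
    Q.Moved h (g • x) ↔ P.Moved h x := by
  have key : ∀ (c : F) (hc : c + σ c = 0),
      Q.Tv h hc • g • x = g • x ↔ P.Tv h hc • x = x := fun c hc => by
    show T h Q.vv hc • g • x = g • x ↔ _
    rw [← conj_T h g P.vv hc Q.vv hg, ← mul_smul, inv_mul_cancel_right, mul_smul,
      smul_left_cancel_iff]
  exact exists_congr fun c => exists_congr fun hc => not_congr (key c hc)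

include h in
theorem card_moved_eq (h3 : 3 ≤ Module.finrank F V) (P Q : HPair B) :
    Nat.card {x : HSU B ⧸ H // Q.Moved h x} = Nat.card {x : HSU B ⧸ H // P.Moved h x} := by
  obtain ⟨g, hg⟩ := exists_map h h3 P.v_ne Q.v_ne (P.vv.trans Q.vv.symm)
  exact (Nat.card_congr ((MulAction.toPerm g).subtypeEquiv fun x =>
    (moved_smul_iff h hg x).symm)).symm

/-- The double count. -/
theorem index_mul_unmarked_of (m : ℕ)
    (hm : ∀ P : HPair B, Nat.card {x : HSU B ⧸ H // P.Moved h x} = m) :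
    H.index * Nat.card {u : V // (u ≠ 0 ∧ B u u = 0) ∧ ¬ InS h H u} =
      Nat.card {u : V // u ≠ 0 ∧ B u u = 0} * m := by
  classical
  have : Finite V := Module.finite_of_finite F
  have := finite_HSU (B := B)
  have : Fintype V := Fintype.ofFinite V
  have : Fintype (HSU B ⧸ H) := Fintype.ofFinite _
  let R : (HSU B ⧸ H) → {u : V // u ≠ 0 ∧ B u u = 0} → Prop := fun x u =>
    ∃ (c : F) (hc : c + σ c = 0), T h u.2.2 hc • x ≠ x
  have h1 : ∀ x, Nat.card {u // R x u} =
      Nat.card {u : V // (u ≠ 0 ∧ B u u = 0) ∧ ¬ InS h H u} := by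
    intro x
    induction x using QuotientGroup.induction_on with
    | H g =>
    have key : ∀ u : {u : V // u ≠ 0 ∧ B u u = 0}, R (g : HSU B ⧸ H) u ↔ ¬ InS h H (ap g⁻¹ u) :=
      fun u => by
        obtain ⟨f, huf, hff⟩ := h.exists_isotropic_partner u.2.1 u.2.2
        exact moved_mk_iff h ⟨u, f, u.2.2, hff, huf⟩ g
    refine Nat.card_congr (((Equiv.subtypeEquivRight key).trans ?_).trans
      (Equiv.subtypeSubtypeEquivSubtypeInter (fun u : V => u ≠ 0 ∧ B u u = 0) fun u => ¬ InS h H u))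
    refine Equiv.subtypeEquiv (Equiv.subtypeEquiv (ap g⁻¹).toEquiv fun u => ?_) fun u => Iff.rfl
    show (u ≠ 0 ∧ B u u = 0) ↔ (ap g⁻¹ u ≠ 0 ∧ B (ap g⁻¹ u) (ap g⁻¹ u) = 0)
    rw [ap_eq, Ne, Ne, LinearEquiv.map_eq_zero_iff]
  have h2 : ∀ u, Nat.card {x // R x u} = m := by
    rintro ⟨u, hu0, huu⟩
    obtain ⟨f, huf, hff⟩ := h.exists_isotropic_partner hu0 huu
    exact hm ⟨u, f, huu, hff, huf⟩
  have h3 : Nat.card (Σ x, {u // R x u}) = Nat.card (Σ u, {x // R x u}) :=
    Nat.card_congr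
      { toFun := fun p => ⟨p.2.1, p.1, p.2.2⟩
        invFun := fun p => ⟨p.2.1, p.1, p.2.2⟩
        left_inv := fun _ => rfl
        right_inv := fun _ => rfl }
  rw [Nat.card_sigma, Nat.card_sigma, Finset.sum_congr rfl fun x _ => h1 x,
    Finset.sum_congr rfl fun u _ => h2 u, Finset.sum_const, Finset.sum_const, Finset.card_univ,
    Finset.card_univ, ← Nat.card_eq_fintype_card, ← Nat.card_eq_fintype_card, smul_eq_mul,
    smul_eq_mul] at h3
  exact h3

namespace HPair

variable (P : HPair B)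

/-- The data of a moved point in a small transitive set. -/
theorem moved_data (hd : Module.finrank F V = 2 + 2)
    (hN : H.index < (Nat.card (fixedSub σ) + 1) * (Nat.card (fixedSub σ) ^ 3 + 1))
    {x : HSU B ⧸ H} (hm : P.Moved h x) :
    P.A h x = ⊥ ∧ Nat.card (P.W₀ h x) = Nat.card (fixedSub σ) ^ 2 ∧
      (P.LineType h x ∨ P.RealType h x) ∧
      (Nat.card (fixedSub σ) + 1) * Nat.card (fixedSub σ) ^ 3 ≤
        Nat.card {y : HSU B ⧸ H // P.Moved h y} ∧
      Nat.card (fixedSub σ) + 1 ≤ (P.Imgs h (P.W₀ h x : Set (P.W h))).ncard := by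
  classical
  have : Finite V := Module.finite_of_finite F
  have := finite_HSU (B := B)
  obtain ⟨c₀, hc₀, hm'⟩ := hm
  set q := Nat.card (fixedSub σ) with hqdef
  have hq2 : 2 ≤ q := IsInvol.card_ge_two (σ := σ)
  have hμN : Nat.card {y : HSU B ⧸ H // P.Moved h y} ≤ H.index :=
    Nat.card_le_card_of_injective _ Subtype.val_injective
  obtain ⟨hS, hL, hT⟩ := P.types h hd (lt_of_le_of_lt hμN hN) hm'
  obtain ⟨hC1, hC2⟩ := classes_bound h (P.A h x) (P.A_le h x) (mem_skew.2 hc₀)
    (skew_not_top h P hm')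
  have h1 := P.card_classes_Imgs_le h hd (by norm_num) hm'
  rw [hS] at h1
  set a := Nat.card (P.A h x)
  set C := (classes σ (P.A h x)).ncard
  have hmu : Nat.card {y : HSU B ⧸ H // ∃ (c : F) (hc : c + σ c = 0), P.Tv h hc • y ≠ y} =
      Nat.card {y : HSU B ⧸ H // P.Moved h y} := rfl
  rw [hmu] at h1
  set μ := Nat.card {y : HSU B ⧸ H // P.Moved h y}
  have h2 : C * ((q + 1) * q ^ 3) ≤ μ * a := by
    refine Nat.le_of_mul_le_mul_right ?_ (show 0 < q ^ 2 from pow_pos (by omega) _)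
    calc C * ((q + 1) * q ^ 3) * q ^ 2 = C * (q + 1) * q ^ (2 * 2 + 1) := by ring
      _ ≤ C * (P.Imgs h (P.W₀ h x : Set (P.W h))).ncard * q ^ (2 * 2 + 1) :=
        Nat.mul_le_mul_right _ (Nat.mul_le_mul_left _ hL)
      _ ≤ μ * (a * q ^ 2) := h1
      _ = μ * a * q ^ 2 := by ring
  have ha0 : 0 < a := Nat.card_pos
  have haq : a ≤ q := by
    rw [hqdef, ← card_skew h]
    exact Nat.card_le_card_of_injective _ (AddSubgroup.inclusion_injective (P.A_le h x))
  have hA : a = 1 := by
    by_contra hne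
    have h3 : (a + 1) * ((q + 1) * q ^ 3) ≤ μ * a :=
      (Nat.mul_le_mul_right _ (hC2 (by omega))).trans h2
    have h4 : μ * a < (q + 1) * (q ^ 3 + 1) * a :=
      Nat.mul_lt_mul_of_pos_right (lt_of_le_of_lt hμN hN) ha0
    have h5 : (q + 1) * (q ^ 3 + 1) * a ≤ (a + 1) * ((q + 1) * q ^ 3) :=
      calc (q + 1) * (q ^ 3 + 1) * a = (q + 1) * (a * q ^ 3 + a) := by ring
        _ ≤ (q + 1) * (a * q ^ 3 + q ^ 3) := Nat.mul_le_mul_left _ (Nat.add_le_add_left
          (haq.trans (Nat.le_self_pow (by norm_num) q)) _)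
        _ = _ := by ring
    omega
  refine ⟨AddSubgroup.eq_bot_of_card_eq _ hA, hS, hT, ?_, hL⟩
  rw [hA, mul_one] at h2
  exact le_trans (Nat.le_mul_of_pos_left _ (by omega)) h2

variable {P h}

/-- A transvection at the centre fixing a moved point is trivial. -/
theorem Tv_smul_inj (hd : Module.finrank F V = 2 + 2)
    (hN : H.index < (Nat.card (fixedSub σ) + 1) * (Nat.card (fixedSub σ) ^ 3 + 1))
    {x : HSU B ⧸ H} (hm : P.Moved h x) {a b : F} {ha : a + σ a = 0} {hb : b + σ b = 0}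
    (e : P.Tv h ha • x = P.Tv h hb • x) : a = b := by
  have hmem : b + -a ∈ P.A h x := by
    have hna : -a + σ (-a) = 0 := by rw [map_neg]; linear_combination -ha
    refine ⟨by rw [map_add, map_neg]; linear_combination hb - ha, ?_⟩
    rw [show P.Tv h (c := b + -a) _ = P.Tv h (c := -a + b)
        (by rw [map_add, map_neg]; linear_combination hb - ha) from
      ap_ext fun y => by rw [MinIndexSU.T_apply, MinIndexSU.T_apply, add_comm b],
      ← P.Tv_add h hna hb, mul_smul, ← e, ← mul_smul, P.Tv_add h hna ha]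
    conv_rhs => rw [← one_smul (HSU B) x]
    congr 1
    exact ap_ext fun y => by simp [MinIndexSU.T_apply, ap_one]
  rw [(P.moved_data h hd hN hm).1, AddSubgroup.mem_bot] at hmem
  linear_combination -hmem

/-- Moved points with the same projection lie in one orbit. -/
theorem same_orbit (hd : Module.finrank F V = 2 + 2)
    (hN : H.index < (Nat.card (fixedSub σ) + 1) * (Nat.card (fixedSub σ) ^ 3 + 1))
    {x y : HSU B ⧸ H} (hx : P.Moved h x) (hy : P.Moved h y) (e : P.W₀ h y = P.W₀ h x) :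
    ∃ u ∈ P.EU h, u • x = y := by
  classical
  by_contra hno
  push Not at hno
  have : Finite V := Module.finite_of_finite F
  have := finite_HSU (B := B)
  have : Finite (P.W h) := Module.finite_of_finite F
  obtain ⟨hA, hS, -, -, hL⟩ := P.moved_data h hd hN hx
  set q := Nat.card (fixedSub σ) with hqdef
  set s := P.W₀ h x with hs
  have himg : ∀ U : P.Imgs h (s : Set (P.W h)), ∃ z : HSU B ⧸ H, P.Moved h z ∧
      (P.W₀ h z : Set (P.W h)) = U.1 ∧ ((U.1 = (s : Set (P.W h))) → z = x) := by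
    intro U
    by_cases hU : U.1 = (s : Set (P.W h))
    · exact ⟨x, hx, hU.symm, fun _ => rfl⟩
    · obtain ⟨g, α, hg, hα, hgU⟩ := U.2
      exact ⟨g • x, hg.moved hx, by rw [hg.W₀_eq, hgU], fun e => absurd e hU⟩
  choose z hz hzW hzx using himg
  let f : Option (P.Imgs h (s : Set (P.W h))) → HSU B ⧸ H := fun o => o.elim y z
  have hf : ∀ o, P.Moved h (f o) := fun o => by cases o <;> simp [f, hy, hz]
  have hK : ∀ o, Nat.card (P.A h (f o)) * Nat.card (P.W₀ h (f o)) ≤ q ^ 2 := fun o => by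
    obtain ⟨h1, h2, -⟩ := P.moved_data h hd hN (hf o)
    rw [h1, h2, AddSubgroup.card_bot, one_mul]
  have h1 := P.card_family_le h hd f hf hK (fun i j u hu huij => by
    have eW : (P.W₀ h (f i) : Set (P.W h)) = P.W₀ h (f j) := by rw [← huij, P.W₀_orbit h hu]
    cases i with
    | none =>
      cases j with
      | none => rfl
      | some U =>
        exfalso
        have hU : U.1 = (s : Set (P.W h)) := by
          rw [← hzW U]; simp only [f, Option.elim] at eW; rw [← eW, e]
        simp only [f, Option.elim, hzx U hU] at huij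
        exact hno u⁻¹ ((P.EU h).inv_mem hu) (by rw [← huij, inv_smul_smul])
    | some U =>
      cases j with
      | none =>
        exfalso
        have hU : U.1 = (s : Set (P.W h)) := by
          rw [← hzW U]; simp only [f, Option.elim] at eW; rw [eW, e]
        simp only [f, Option.elim, hzx U hU] at huij
        exact hno u hu huij
      | some U' =>
        simp only [f, Option.elim] at eW
        rw [hzW, hzW] at eW
        rw [Subtype.ext eW])
  rw [Finite.card_option, Nat.card_coe_set_eq] at h1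
  have h2 : Nat.card {y : HSU B ⧸ H // ∃ (c : F) (hc : c + σ c = 0), P.Tv h hc • y ≠ y} ≤ H.index :=
    Nat.card_le_card_of_injective _ Subtype.val_injective
  have h3 : (q + 2) * q ^ 5 < (q + 1) * (q ^ 3 + 1) * q ^ 2 :=
    calc (q + 2) * q ^ 5 ≤ ((P.Imgs h (s : Set (P.W h))).ncard + 1) * q ^ (2 * 2 + 1) :=
          Nat.mul_le_mul_right _ (by omega)
      _ ≤ H.index * q ^ 2 := h1.trans (Nat.mul_le_mul_right _ h2)
      _ < _ := Nat.mul_lt_mul_of_pos_right hN (pow_pos (by
          have := IsInvol.card_ge_two (σ := σ); omega) _)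
  have h4 := Nat.mul_le_mul_right (q ^ 2)
    (four_arith (q := q) (IsInvol.card_ge_two (σ := σ))).2.2.2.2.1
  have h5 : (q + 2) * q ^ 5 = (q + 2) * q ^ 3 * q ^ 2 := by ring
  omega

/-- An element fixing a moved point up to the Eichler group centralises accordingly. -/
theorem commutator_eq_zero (hd : Module.finrank F V = 2 + 2)
    (hN : H.index < (Nat.card (fixedSub σ) + 1) * (Nat.card (fixedSub σ) ^ 3 + 1))
    {x : HSU B ⧸ H} (hm : P.Moved h x) {g : HSU B} {α : F} (hg : P.Levi h g α)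
    (hα : α * σ α = 1) {c : P.W h} {a' : P.Par h c} (hgx : g • x = P.El h c a' • x)
    {z : P.W h} {a : P.Par h z} (haz : P.El h z a • x = x) {b : P.Par h (hg.map z)}
    (hb : P.El h (hg.map z) b • x = x) :
    (a : F) - b + (B (c : V) (hg.map z : V) - B (hg.map z : V) c) = 0 := by
  have ha' : (a : F) + σ a = -B ((hg.map z) : V) (hg.map z) := by rw [P.map_norm h hg hα]; exact a.2
  have e0 : g * P.El h z a = P.El h (hg.map z) ⟨a, ha'⟩ * g := by
    rw [hg.mul_El]
    congr 1
    exact P.El_congr h _ _ rfl (by simp [hα])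
  have e1 : P.El h (hg.map z) ⟨a, ha'⟩ • P.El h c a' • x = P.El h c a' • x := by
    rw [← hgx, ← mul_smul, ← e0, mul_smul, haz]
  set d := (a : F) - b + (B (c : V) ((hg.map z) : V) - B ((hg.map z) : V) c) with hddef
  have hd' : d + σ d = 0 := by
    rw [hddef, map_add, map_sub, map_sub, h.symm, h.symm]; linear_combination ha' - b.2
  have key : P.El h (hg.map z) ⟨a, ha'⟩ * P.El h c a' = P.El h c a' * (P.Tv h hd' * P.El h (hg.map z) b) := by
    rw [Tv_mul_El, El_mul, El_mul]
    refine P.El_congr h _ _ (add_comm _ _) ?_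
    simp only [parMul, hddef]
    ring
  rw [← mul_smul, key, mul_smul, mul_smul, hb, smul_left_cancel_iff] at e1
  have hz : (0 : F) + σ 0 = 0 := by simp
  refine Tv_smul_inj hd hN hm (ha := hd') (hb := hz) (e1.trans ?_)
  conv_lhs => rw [← one_smul (HSU B) x]
  congr 1
  exact ap_ext fun y => by simp [MinIndexSU.T_apply, ap_one]

/-- No transvection at another vector orthogonal to the centre fixes a moved point. -/
theorem fixed_false (hd : Module.finrank F V = 2 + 2)
    (hN : H.index < (Nat.card (fixedSub σ) + 1) * (Nat.card (fixedSub σ) ^ 3 + 1))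
    {x : HSU B ⧸ H} (hm : P.Moved h x) {u : V} (hu0 : u ≠ 0) (huu : B u u = 0)
    (hvu : B P.v u = 0) {c : F} (hc : c + σ c = 0) (hc0 : c ≠ 0)
    (hfix : MinIndexSU.T h huu hc • x = x) : False := by
  classical
  have : Finite V := Module.finite_of_finite F
  have := finite_HSU (B := B)
  set q := Nat.card (fixedSub σ) with hqdef
  have hq2 : 2 ≤ q := IsInvol.card_ge_two (σ := σ)
  obtain ⟨f, huf, hff⟩ := h.exists_isotropic_partner hu0 huu
  let Q : HPair B := ⟨u, f, huu, hff, huf⟩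
  have hnot : ¬ Q.Moved h x := fun hQ => hc0 (by
    have : c ∈ Q.A h x := ⟨hc, hfix⟩
    rwa [(Q.moved_data h hd hN hQ).1, AddSubgroup.mem_bot] at this)
  have hfixall : ∀ (c' : F) (hc' : c' + σ c' = 0), Q.Tv h hc' • x = x := fun c' hc' => by
    by_contra hne
    exact hnot ⟨c', hc', hne⟩
  have hpts : ∀ a : skew σ, ¬ Q.Moved h (P.Tv h (mem_skew.1 a.2) • x) := by
    rintro a ⟨c', hc', hne⟩
    apply hne
    have hcm : Q.Tv h hc' * P.Tv h (mem_skew.1 a.2) = P.Tv h (mem_skew.1 a.2) * Q.Tv h hc' :=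
      ap_ext fun y => by
        simp only [ap_mul, MinIndexSU.T_apply, Q, map_add, smul_right, hvu, h.eq_zero_symm hvu,
          mul_zero, zero_smul, add_zero]
        module
    rw [← mul_smul, hcm, mul_smul, hfixall c' hc']
  have hq1 : q ≤ Nat.card {y : HSU B ⧸ H // ¬ Q.Moved h y} := by
    rw [hqdef, ← card_skew h]
    exact Nat.card_le_card_of_injective (fun a => ⟨_, hpts a⟩) fun a b e =>
      Subtype.ext (Tv_smul_inj hd hN hm (congrArg Subtype.val e))
  have hsum : Nat.card {y : HSU B ⧸ H // Q.Moved h y} +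
      Nat.card {y : HSU B ⧸ H // ¬ Q.Moved h y} = H.index := by
    rw [← Nat.card_sum]
    exact Nat.card_congr (Equiv.sumCompl _)
  have hμ := (P.moved_data h hd hN hm).2.2.2.1
  rw [← hqdef] at hμ
  rw [card_moved_eq h (by omega) P Q] at hsum
  have hM : (q + 1) * (q ^ 3 + 1) = (q + 1) * q ^ 3 + (q + 1) := by ring
  have hcount := index_mul_unmarked_of (H := H) h ((q + 1) * q ^ 3) fun R => by
    rw [card_moved_eq h (by omega) P R]; omega
  rw [h.card_isotropic_ne_zero (m := 2) hd, ← hqdef, ordFactor, ordFactor, if_neg (by decide),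
    if_pos (by decide), show H.index = q * (q ^ 3 + q ^ 2 + 1) by
      rw [show q * (q ^ 3 + q ^ 2 + 1) = (q + 1) * q ^ 3 + q by ring]; omega] at hcount
  norm_num at hcount
  exact four_divide_false hq2 (hcount.trans (by ring))

end HPair

end CfsgLib.LocalEvenB.MinIndexSU
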