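import Cfsg.Agent.Lib.LocalEvenB.MinIndexSU.Setting

/-!
The images of a point stabiliser's projection under the Levi elements of norm one, and the orbits
of the Eichler group they give.
-/

set_option autoImplicit false

namespace CfsgLib.LocalEvenB.MinIndexSU

open CfsgLib.Classical CfsgLib.Classical.Herm
open scoped Pointwise

variable {F : Type*} [Field F] {V : Type*} [AddCommGroup V] [Module F V] {σ : F →+* F}
  {B : V →ₛₗ[σ] V →ₗ[F] F} (h : IsHerm B)

include h in
theorem exists_map_skew [FiniteDimensional F V] {x z : V} (hx : B x x = 0) (hz : B z z = 0)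
    (hb : B x z + σ (B x z) = 0) (hne : B x z ≠ 0) : ∃ g : HSU B, ap g x = z := by
  have hσ : σ (B x z) = -B x z := eq_neg_of_add_eq_zero_right hb
  have hc : -(B x z)⁻¹ + σ (-(B x z)⁻¹) = 0 := by
    rw [map_neg, map_inv₀, hσ, inv_neg]; ring
  refine ⟨T h hx hc * T h hz hc, ?_⟩
  rw [ap_mul, T_apply h hz, T_apply, ← h.symm x z, hσ, map_add, smul_right, hx]
  match_scalars <;> field_simp <;> ring

variable [Finite F] [FiniteDimensional F V]

include h in
/-- Two isotropic vectors of a plane differ by a special isometry and a scalar. -/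
theorem exists_map_scalar (h2 : Module.finrank F V = 2) {x z : V} (hx0 : x ≠ 0) (hz0 : z ≠ 0) (hx : B x x = 0) (hz : B z z = 0)
    {k : F} (hk : k ≠ 0) (hb : B x z * k⁻¹ + σ (B x z * k⁻¹) = 0)
    (hd : ∀ l : F, z = l • x → σ (l * k⁻¹) = l * k⁻¹) : ∃ g : HSU B, k • ap g x = z := by
  suffices ∃ g : HSU B, ap g x = k⁻¹ • z by
    obtain ⟨g, hg⟩ := this
    exact ⟨g, by rw [hg, smul_inv_smul₀ hk]⟩
  have hz' : B (k⁻¹ • z) (k⁻¹ • z) = 0 := by rw [IsHerm.smul_self, hz, mul_zero]
  by_cases hne : B x z = 0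
  · -- through a third vector
    obtain ⟨f, hxf, hff⟩ := h.exists_isotropic_partner hx0 hx
    obtain ⟨θ, hθ0, hθ⟩ := h.exists_skew
    obtain ⟨l, rfl⟩ : ∃ l : F, z = l • x := by
      have hspan : Submodule.span F ({x, f} : Set V) = ⊤ :=
        Submodule.eq_top_of_finrank_eq (by rw [h.pair_finrank (h.hyperbolic_disc hx hxf), h2])
      obtain ⟨a, b, hab⟩ := Submodule.mem_span_pair.1 (hspan ▸ Submodule.mem_top : z ∈ _)
      refine ⟨a, ?_⟩
      rw [← hab, map_add, smul_right, smul_right, hx, hxf, mul_zero, zero_add, mul_one] at hne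
      rw [← hab, hne, zero_smul, add_zero]
    have hl0 : l ≠ 0 := fun e => hz0 (by rw [e, zero_smul])
    have hr := hd l rfl
    have hy : B (θ • f) (θ • f) = 0 := by rw [IsHerm.smul_self, hff, mul_zero]
    obtain ⟨g₁, hg₁⟩ := exists_map_skew h hx hy (by rwa [smul_right, hxf, mul_one])
      (by rwa [smul_right, hxf, mul_one])
    have e : B (θ • f) (k⁻¹ • l • x) = σ θ * (l * k⁻¹) := by
      rw [smul_left, smul_right, smul_right, ← h.symm x f, hxf, map_one]; ring
    have he0 : B (θ • f) (k⁻¹ • l • x) ≠ 0 := by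
      rw [e]
      exact mul_ne_zero (fun e' => hθ0 (IsInvol.apply_eq_zero_iff.1 e'))
        (mul_ne_zero hl0 (inv_ne_zero hk))
    obtain ⟨g₂, hg₂⟩ := exists_map_skew h hy hz'
      (by rw [e, map_mul, h.invol.invol, hr]; linear_combination (l * k⁻¹) * hθ) he0
    exact ⟨g₂ * g₁, by rw [ap_mul, hg₁, hg₂]⟩
  · exact exists_map_skew h hx hz' (by rwa [smul_right, mul_comm])
      (by rw [smul_right]; exact mul_ne_zero (inv_ne_zero hk) hne)

variable {Ω : Type*} [MulAction (HSU B) Ω]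

namespace HPair

variable (P : HPair B)

/-- The images under the Levi elements of norm one. -/
def Imgs (s : Set (P.W h)) : Set (Set (P.W h)) :=
  {U | ∃ (g : HSU B) (α : F) (hg : P.Levi h g α), α * σ α = 1 ∧ U = hg.map '' s}

theorem smul_mem_Imgs (s : Set (P.W h)) (b : HSU (IsHerm.restrict B (P.W h))) :
    b • s ∈ P.Imgs h s := by
  refine ⟨_, 1, P.levi_ext' h b, by rw [map_one, mul_one], ?_⟩
  exact Set.image_congr fun w _ => (P.map_ext' h b w).symm

theorem self_mem_Imgs (s : Set (P.W h)) : s ∈ P.Imgs h s := by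
  simpa using P.smul_mem_Imgs h s 1

theorem image_scalar_mem_Imgs {d : ℕ} (hd : Module.finrank F V = d + 2) (hd2 : d = 2)
    (s : Set (P.W h)) {k : F} (hk : k * σ k = 1) (b : HSU (IsHerm.restrict B (P.W h))) :
    (fun w => (k * k) • ap b w) '' s ∈ P.Imgs h s := by
  subst hd2
  set α := σ k with hα
  have hαk : α * σ α = 1 := by rw [hα, h.invol.invol, mul_comm]; exact hk
  have hk0 : k ≠ 0 := fun e => by rw [e, zero_mul] at hk; exact zero_ne_one hk
  have hα0 : α ≠ 0 := fun e => by rw [e, zero_mul] at hαk; exact zero_ne_one hαk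
  obtain ⟨g₀, hdet, hg₀⟩ := h.exists_dilation P.vv P.ff P.vf hα0
  obtain ⟨y, hy⟩ := (h.restrict_herm (h.orth_nondeg (P.nondeg h))).exists_orthonormal_basis
    (P.finrank_W h hd)
  have hy' : ∀ i j, B (y i : V) (y j : V) = if i = j then 1 else 0 := fun i j => hy i j
  have hn : ∀ i, B (y i : V) (y i : V) ≠ 0 := fun i => by simp [hy']
  set ku : Fˣ := Units.mk0 k hk0
  set q₀ := h.quasiIso (y 0 : V) (hn 0) ku hk
  set q₁ := h.quasiIso (y 1 : V) (hn 1) ku hk
  have hmem : g₀ * (q₀ * q₁) ∈ HSU B := by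
    rw [MonoidHom.mem_ker, map_mul, map_mul, show HU.det B q₀ = ku from h.det_quasiIso _ _ _ _,
      show HU.det B q₁ = ku from h.det_quasiIso _ _ _ _]
    refine Units.ext ?_
    rw [Units.val_mul, Units.val_mul, hdet, Units.val_one, show (ku : F) = k from rfl,
      show σ α = k by rw [hα, h.invol.invol]]
    field_simp
    rw [hα]; linear_combination hk
  set g : HSU B := ⟨g₀ * (q₀ * q₁), hmem⟩
  have hW : ∀ w : P.W h, ap g w = k • (w : V) := by
    intro w
    have hw : (w : V) = B (y 0 : V) w • (y 0 : V) + B (y 1 : V) w • (y 1 : V) := by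
      have hrep := y.sum_repr w
      rw [Fin.sum_univ_two] at hrep
      have e := congrArg (fun z : P.W h => (z : V)) hrep
      simp only [Submodule.coe_add, Submodule.coe_smul] at e
      have c0 : B (y 0 : V) w = y.repr w 0 := by rw [← e]; simp [smul_right, hy']
      have c1 : B (y 1 : V) w = y.repr w 1 := by rw [← e]; simp [smul_right, hy']
      rw [c0, c1, e]
    have hq : quasi B (y 0 : V) (hn 0) ku (quasi B (y 1 : V) (hn 1) ku (w : V)) = k • (w : V) := by
      rw [quasi_apply, quasi_apply, map_add, smul_right]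
      simp only [hy', show (ku : F) = k from rfl]
      conv_rhs => rw [hw]
      conv_lhs => arg 1; arg 1; rw [hw]
      simp
      module
    show (g₀ : V ≃ₗ[F] V) (quasi B (y 0 : V) (hn 0) ku (quasi B (y 1 : V) (hn 1) ku (w : V))) = _
    rw [hq, hg₀ _ (by rw [smul_right, P.vw w, mul_zero]), smul_right, P.fw w]
    simp
  have hg : P.Levi h g α := by
    refine ⟨?_, fun w => by rw [hW]; exact (P.W h).smul_mem _ w.2⟩
    show (g₀ : V ≃ₗ[F] V) (quasi B (y 0 : V) (hn 0) ku (quasi B (y 1 : V) (hn 1) ku P.v)) = _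
    rw [quasi_apply_perp _ _ _ (P.wv (y 1)), quasi_apply_perp _ _ _ (P.wv (y 0)), hg₀ _ P.vv,
      P.fv h, mul_one]
    module
  refine ⟨_, _, hg.comp (P.levi_ext' h b), by rw [mul_one]; exact hαk, ?_⟩
  refine Set.image_congr fun w _ => Subtype.ext ?_
  rw [Levi.map_coe, ap_mul, MinIndexSU.ext'_apply, hW, mul_one, Submodule.coe_smul, hα,
    h.invol.invol, smul_smul]

variable {P h}

/-- Images of a stabiliser projection, as a counting bound: the relation `R` sends each element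
of `X` to an image, and each image receives at most `k` of them. -/
theorem card_le_Imgs {s : Set (P.W h)} {X : Type*} [Finite X] {k : ℕ}
    (R : X → Set (P.W h) → Prop) (hR : ∀ z, ∃ U ∈ P.Imgs h s, R z U)
    (hk : ∀ U ∈ P.Imgs h s, Nat.card {z // R z U} ≤ k) :
    Nat.card X ≤ (P.Imgs h s).ncard * k := by
  have : Finite (P.W h) := Module.finite_of_finite F
  have : Finite (Set (P.W h)) := inferInstance
  have : Fintype (P.Imgs h s) := Fintype.ofFinite _
  choose U hU hRU using hR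
  have h1 : Nat.card X ≤ Nat.card (Σ U : P.Imgs h s, {z // R z U}) :=
    Nat.card_le_card_of_injective (fun z => ⟨⟨U z, hU z⟩, z, hRU z⟩)
      fun a b e => congrArg (fun p : Σ U : P.Imgs h s, {z // R z U} => (p.2 : X)) e
  rw [Nat.card_sigma] at h1
  refine h1.trans ((Finset.sum_le_sum fun U _ => hk U.1 U.2).trans (le_of_eq ?_))
  rw [Finset.sum_const, Finset.card_univ, smul_eq_mul, ← Nat.card_eq_fintype_card,
    Nat.card_coe_set_eq]

variable (P h)

/-- Distinct orbits of moved points. -/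
theorem card_family_le [Finite Ω] {d : ℕ} (hd : Module.finrank F V = d + 2) {ι : Type*} [Finite ι]
    (y : ι → Ω) (hy : ∀ i, ∃ (c : F) (hc : c + σ c = 0), P.Tv h hc • y i ≠ y i) {K : ℕ}
    (hK : ∀ i, Nat.card (P.A h (y i)) * Nat.card (P.W₀ h (y i)) ≤ K)
    (hinj : ∀ i j, ∀ u ∈ P.EU h, u • y i = y j → i = j) :
    Nat.card ι * Nat.card (fixedSub σ) ^ (2 * d + 1) ≤
      Nat.card {x : Ω // ∃ (c : F) (hc : c + σ c = 0), P.Tv h hc • x ≠ x} * K := by
  classical
  set M := {x : Ω // ∃ (c : F) (hc : c + σ c = 0), P.Tv h hc • x ≠ x}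
  have hmem : ∀ i, ∀ z ∈ MulAction.orbit (P.EU h) (y i),
      ∃ (c : F) (hc : c + σ c = 0), P.Tv h hc • z ≠ z := by
    rintro i _ ⟨⟨u, hu⟩, rfl⟩
    obtain ⟨c, hc, hne⟩ := hy i
    refine ⟨c, hc, fun e => hne (smul_left_cancel u ?_)⟩
    rw [← mul_smul, P.EU_comm_Tv h hc hu, mul_smul]
    exact e
  have : Fintype ι := Fintype.ofFinite _
  have hinj' : Function.Injective (fun z : (i : ι) × MulAction.orbit (P.EU h) (y i) =>
      (⟨z.2, hmem z.1 _ z.2.2⟩ : M)) := by
    rintro ⟨i, _, ⟨⟨u, hu⟩, rfl⟩⟩ ⟨j, _, ⟨⟨u', hu'⟩, rfl⟩⟩ e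
    have e' : u • y i = u' • y j := congrArg Subtype.val e
    have := hinj i j (u'⁻¹ * u) ((P.EU h).mul_mem ((P.EU h).inv_mem hu') hu)
      (by rw [mul_smul, e', inv_smul_smul])
    subst this
    exact congrArg (Sigma.mk i) (Subtype.ext e')
  have h1 := Nat.card_le_card_of_injective _ hinj'
  rw [Nat.card_sigma] at h1
  calc Nat.card ι * Nat.card (fixedSub σ) ^ (2 * d + 1)
      = ∑ _i : ι, Nat.card (fixedSub σ) ^ (2 * d + 1) := by
        rw [Finset.sum_const, Finset.card_univ, smul_eq_mul, Nat.card_eq_fintype_card]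
    _ ≤ ∑ i : ι, Nat.card (MulAction.orbit (P.EU h) (y i)) * K := Finset.sum_le_sum fun i _ => by
        rw [Nat.card_coe_set_eq]
        exact (P.card_orbit_EU h hd (y i)).trans (Nat.mul_le_mul_left _ (hK i))
    _ ≤ _ := by rw [← Finset.sum_mul]; exact Nat.mul_le_mul_right _ h1

/-- The classes and images of a moved point give that many orbits. -/
theorem card_classes_Imgs_le [Finite Ω] {d : ℕ} (hd : Module.finrank F V = d + 2) (hd1 : 1 ≤ d)
    {x : Ω} {c₀ : F} {hc₀ : c₀ + σ c₀ = 0} (hm : P.Tv h hc₀ • x ≠ x) :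
    (classes σ (P.A h x)).ncard * (P.Imgs h (P.W₀ h x : Set (P.W h))).ncard *
        Nat.card (fixedSub σ) ^ (2 * d + 1) ≤
      Nat.card {y : Ω // ∃ (c : F) (hc : c + σ c = 0), P.Tv h hc • y ≠ y} *
        (Nat.card (P.A h x) * Nat.card (P.W₀ h x)) := by
  classical
  rw [← Nat.card_coe_set_eq, ← Nat.card_coe_set_eq, ← Nat.card_prod]
  have : Finite (P.W h) := Module.finite_of_finite F
  have hcls : ∀ k : classes σ (P.A h x), ∃ (g : HSU B) (α : F), P.Levi h g α ∧
      k.1 = (fun c => α * σ α * c) '' (P.A h x) := by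
    rintro ⟨_, ⟨⟨μ, hμ⟩, rfl⟩⟩
    obtain ⟨α, hα⟩ := h.invol.exists_norm_eq (μ := (μ : F)) μ.2
    have hα0 : α ≠ 0 := fun e => hμ (Subtype.ext (by rw [← hα, e, zero_mul]; rfl))
    obtain ⟨g, hg⟩ := P.exists_levi h (by rw [P.finrank_W h hd]; omega) hα0
    exact ⟨g, α, hg, by rw [hα]⟩
  choose g α hg hgk using hcls
  have himg : ∀ U : P.Imgs h (P.W₀ h x : Set (P.W h)),
      ∃ (g : HSU B) (α : F) (hg : P.Levi h g α), α * σ α = 1 ∧ U.1 = hg.map '' (P.W₀ h x) :=
    fun U => U.2
  choose k β hk hβ hkU using himg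
  let y : classes σ (P.A h x) × P.Imgs h (P.W₀ h x : Set (P.W h)) → Ω :=
    fun p => g p.1 • k p.2 • x
  have hyA : ∀ p, (P.A h (y p) : Set F) = p.1.1 := fun p => by
    simp only [y]
    rw [(hg p.1).A_eq, (hk p.2).A_eq, Set.image_image, hgk p.1]
    simp [hβ p.2]
  have hyW : ∀ p, (P.W₀ h (y p) : Set (P.W h)) = (hg p.1).map '' p.2.1 := fun p => by
    simp only [y]
    rw [(hg p.1).W₀_eq, (hk p.2).W₀_eq, hkU p.2]
  refine P.card_family_le h hd y (fun p => ?_) (fun p => le_of_eq ?_) fun p p' u hu e => ?_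
  · by_contra hc
    push Not at hc
    have hmem : ∀ c, c ∈ P.A h (y p) ↔ c + σ c = 0 := fun c =>
      ⟨fun hcA => P.A_le h _ hcA, fun hc' => ⟨hc', hc c hc'⟩⟩
    have h1 : ((α p.1 * σ (α p.1)) * (β p.2 * σ (β p.2)) * c₀) ∈ P.A h (y p) := (hmem _).2 (by
      rw [map_mul, map_mul, map_mul, map_mul, h.invol.invol, h.invol.invol]
      linear_combination (α p.1 * σ (α p.1) * (β p.2 * σ (β p.2))) * hc₀)
    rw [← SetLike.mem_coe, hyA, hgk, hβ p.2, mul_one] at h1
    obtain ⟨a, ha, ea⟩ := h1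
    have hN : α p.1 * σ (α p.1) ≠ 0 := mul_ne_zero (hg p.1).scalar_ne
      fun e => (hg p.1).scalar_ne (IsInvol.apply_eq_zero_iff.1 e)
    obtain rfl : a = c₀ := mul_left_cancel₀ hN ea
    exact skew_not_top h P hm ha
  · have hN : α p.1 * σ (α p.1) ≠ 0 := mul_ne_zero (hg p.1).scalar_ne
      fun e => (hg p.1).scalar_ne (IsInvol.apply_eq_zero_iff.1 e)
    congr 1
    · show Nat.card (P.A h (y p) : Set F) = Nat.card (P.A h x : Set F)
      rw [hyA, hgk]
      exact Nat.card_image_of_injective (mul_right_injective₀ hN) _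
    · show Nat.card (P.W₀ h (y p) : Set (P.W h)) = Nat.card (P.W₀ h x : Set (P.W h))
      rw [hyW, hkU p.2]
      exact (Nat.card_image_of_injective (hg p.1).map_bijective.1 _).trans
        (Nat.card_image_of_injective (hk p.2).map_bijective.1 _)
  · have e1 : (P.A h (y p) : Set F) = P.A h (y p') := by rw [← e, P.A_orbit h hu]
    have e2 : (P.W₀ h (y p) : Set (P.W h)) = P.W₀ h (y p') := by rw [← e, P.W₀_orbit h hu]
    rw [hyA, hyA] at e1
    have e3 : p.1 = p'.1 := Subtype.ext e1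
    rw [hyW, hyW, ← e3] at e2
    exact Prod.ext e3 (Subtype.ext ((hg p.1).map_bijective.1.image_injective e2))

end HPair

end CfsgLib.LocalEvenB.MinIndexSU
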