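import Cfsg.Agent.Lib.LocalEvenB.MinIndexSU.Four
import Mathlib.GroupTheory.Index

/-!
The stabiliser of a totally isotropic line in dimension four.
-/

set_option autoImplicit false

namespace CfsgLib.LocalEvenB.MinIndexSU

open CfsgLib.Classical CfsgLib.Classical.Herm
open scoped Pointwise

variable {F : Type*} [Field F] {V : Type*} [AddCommGroup V] [Module F V] {σ : F →+* F}
  {B : V →ₛₗ[σ] V →ₗ[F] F} (h : IsHerm B) [Finite F] [FiniteDimensional F V]
include h

theorem card_ti_planes (h4 : Module.finrank F V = 4) :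
    Nat.card {W : Submodule F V // Module.finrank F W = 2 ∧ ∀ u ∈ W, ∀ v ∈ W, B u v = 0} =
      (Nat.card (fixedSub σ) + 1) * (Nat.card (fixedSub σ) ^ 3 + 1) := by
  set q := Nat.card (fixedSub σ) with hq
  have hq2 : 2 ≤ q := IsInvol.card_ge_two (σ := σ)
  have h2 : Nat.card {W : Submodule F V // Module.finrank F W = 2 ∧ ∀ u ∈ W, ∀ v ∈ W, B u v = 0} *
      _ = _ := h.card_totallyIsotropic_mul 2
  have h3 := h.card_isoTuples (k := 2) h4 (by norm_num)
  rw [← h2, Fin.prod_univ_two, h.invol.card_sq, ← hq] at h3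
  have h4' : 1 ≤ q ^ 2 := Nat.one_le_pow _ _ (by omega)
  have h5 : 1 ≤ q ^ 4 := Nat.one_le_pow _ _ (by omega)
  have h6 : q ^ 2 < q ^ 4 := Nat.pow_lt_pow_right (by omega) (by norm_num)
  generalize Nat.card {W : Submodule F V // Module.finrank F W = 2 ∧ ∀ u ∈ W, ∀ v ∈ W, B u v = 0}
    = N at h3 ⊢
  norm_num [ordProd, ordFactor, Finset.prod_range_succ, ← pow_mul, even_iff_two_dvd] at h3
  have hz : (0 : ℤ) < ((q : ℤ) ^ 4 - 1) * ((q : ℤ) ^ 4 - q ^ 2) := by
    have : (q : ℤ) ^ 2 < q ^ 4 := by exact_mod_cast h6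
    have : (1 : ℤ) ≤ q ^ 2 := by exact_mod_cast h4'
    exact mul_pos (by linarith) (by linarith)
  zify [h4', h5, h6.le] at h3 ⊢
  apply mul_right_cancel₀ hz.ne'
  linear_combination h3

theorem exists_index_four (h4 : Module.finrank F V = 4) :
    ∃ H : Subgroup (HSU B), Subgroup.center (HSU B) ≤ H ∧
      H.index = (Nat.card (fixedSub σ) + 1) * (Nat.card (fixedSub σ) ^ 3 + 1) := by
  classical
  have : Finite V := Module.finite_of_finite F
  have hcount := card_ti_planes h h4
  have : Finite (Submodule F V) := Finite.of_injective (fun W => (W : Set V)) SetLike.coe_injective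
  obtain ⟨L, hL, hiso⟩ : ∃ L : Submodule F V, Module.finrank F L = 2 ∧
      ∀ u ∈ L, ∀ v ∈ L, B u v = 0 := by
    have h1 : 0 < Nat.card
        {W : Submodule F V // Module.finrank F W = 2 ∧ ∀ u ∈ W, ∀ v ∈ W, B u v = 0} := by
      rw [hcount]; positivity
    obtain ⟨⟨W, hW⟩⟩ := (Nat.card_pos_iff.1 h1).1
    exact ⟨W, hW⟩
  refine ⟨MulAction.stabilizer (HSU B) (L : Set V), fun z hz => ?_, ?_⟩
  · obtain ⟨a, ha⟩ := (h.mem_center_HSU_iff (by omega)).1 hz
    rw [MulAction.mem_stabilizer_iff]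
    refine Set.eq_of_subset_of_ncard_le ?_ (le_of_eq ?_) (Set.toFinite _)
    · rintro _ ⟨y, hy, rfl⟩
      show ap z y ∈ L
      rw [show ap z y = a • y from ha y]
      exact L.smul_mem a hy
    · exact (Set.ncard_image_of_injective _ (MulAction.injective z)).symm
  · rw [MulAction.index_stabilizer]
    refine le_antisymm (le_trans (le_of_eq (Nat.card_coe_set_eq _).symm) ?_)
      (card_planes_le h h4 L.toAddSubgroup L hL hiso (Submodule.span_eq L))
    rw [← hcount]
    have key : ∀ t : MulAction.orbit (HSU B) (L : Set V),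
        ∃ W : {W : Submodule F V // Module.finrank F W = 2 ∧ ∀ u ∈ W, ∀ v ∈ W, B u v = 0},
          (W.1 : Set V) = t.1 := by
      rintro ⟨_, g, rfl⟩
      refine ⟨⟨L.map (ap g).toLinearMap, ?_, ?_⟩, rfl⟩
      · rw [LinearEquiv.finrank_map_eq, hL]
      · rintro _ ⟨u, hu, rfl⟩ _ ⟨v, hv, rfl⟩
        exact (ap_eq g u v).trans (hiso u hu v hv)
    choose W hW using key
    exact Nat.card_le_card_of_injective W fun a b e => Subtype.ext (by rw [← hW a, ← hW b, e])

end CfsgLib.LocalEvenB.MinIndexSU
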