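import Cfsg.Agent.Lib.LocalEvenB.MinIndexSU.FourFixed

/-!
No stabiliser projection of a moved point is an isotropic line.
-/

set_option autoImplicit false

namespace CfsgLib.LocalEvenB.MinIndexSU

open CfsgLib.Classical CfsgLib.Classical.Herm

variable {F : Type*} [Field F] {V : Type*} [AddCommGroup V] [Module F V] {σ : F →+* F}
  {B : V →ₛₗ[σ] V →ₗ[F] F} (h : IsHerm B) [Finite F] [FiniteDimensional F V]
  {H : Subgroup (HSU B)}

include h in
/-- A character of the skew elements gives a point of a hermitian binary form. -/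
theorem exists_killed (ξ : F →+ skew σ) (η : skew σ →+ skew σ) :
    ∃ α : F, ¬ Function.Surjective fun c : skew σ => (⟨(c : F) * (α * σ α), by
      rw [mem_skew, map_mul, map_mul, h.invol.invol]
      linear_combination (α * σ α) * mem_skew.1 c.2⟩ : skew σ) + ξ ((c : F) * σ α) + η c := by
  classical
  obtain ⟨p, hp⟩ := CharP.exists F
  have : Fact p.Prime := ⟨(CharP.char_is_prime_or_zero F p).resolve_right
    (CharP.char_ne_zero_of_finite F p)⟩
  have hpF : ∀ z : F, p • z = 0 := fun z => by rw [nsmul_eq_mul, CharP.cast_eq_zero, zero_mul]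
  have : Module (ZMod p) (skew σ) := AddCommGroup.zmodModule fun z => Subtype.ext (hpF z)
  have : Module (ZMod p) (fixedSub σ) := AddCommGroup.zmodModule fun z => Subtype.ext (hpF z)
  have : Module (ZMod p) F := AddCommGroup.zmodModule hpF
  obtain ⟨θ, hθ0, hθ⟩ := h.exists_skew
  obtain ⟨ψ, hψ⟩ : ∃ ψ : skew σ →ₗ[ZMod p] ZMod p, ψ ⟨θ, hθ⟩ ≠ 0 := by
    by_contra hc
    push Not at hc
    exact hθ0 (congrArg Subtype.val ((Module.forall_dual_apply_eq_zero_iff (ZMod p) _).1 hc))
  have hkθ : ∀ k : fixedSub σ, (k : F) * θ ∈ skew σ := fun k => by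
    rw [mem_skew, map_mul, show σ (k : F) = k from k.2]; linear_combination (k : F) * hθ
  let G : fixedSub σ →+ ZMod p := AddMonoidHom.mk' (fun k => ψ ⟨_, hkθ k⟩) fun a b => by
    rw [← map_add]
    congr 1
    exact Subtype.ext (by
      show ((a + b : fixedSub σ) : F) * θ = (a : F) * θ + (b : F) * θ
      rw [Subfield.coe_add, add_mul])
  have hG : G 1 ≠ 0 := by
    show ψ _ ≠ 0
    convert hψ using 3
    exact Subtype.ext (by simp)
  have htr : ∀ y : F, y + σ y ∈ fixedSub σ := fun y => by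
    show σ (y + σ y) = y + σ y
    rw [map_add, h.invol.invol, add_comm]
  obtain ⟨x₁, hx₁⟩ := h.invol.exists_trace_eq (μ := (1 : F)) (map_one σ)
  have : Finite (fixedSub σ →+ ZMod p) := DFunLike.finite _
  have : Finite (F →+ ZMod p) := DFunLike.finite _
  let E : fixedSub σ → (fixedSub σ →+ ZMod p) := fun e => G.comp (AddMonoidHom.mulLeft e)
  have hE : Function.Bijective E := by
    have : Fintype (fixedSub σ) := Fintype.ofFinite _
    have : Fintype (fixedSub σ →+ ZMod p) := Fintype.ofFinite _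
    rw [Fintype.bijective_iff_injective_and_card]
    refine ⟨fun a b e => sub_eq_zero.1 (by_contra fun hne => hG ?_), ?_⟩
    · have h1 : G (a * (a - b)⁻¹) = G (b * (a - b)⁻¹) := DFunLike.congr_fun e _
      rw [← sub_eq_zero, ← map_sub, ← sub_mul, mul_inv_cancel₀ hne] at h1
      exact h1
    · rw [← Nat.card_eq_fintype_card, ← Nat.card_eq_fintype_card, card_hom_zmod (p := p)]
  let D : F → (F →+ ZMod p) := fun δ => AddMonoidHom.mk'
    (fun μ => G ⟨δ * μ + σ (δ * μ), htr _⟩) fun a b => by
      rw [← map_add]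
      congr 1
      exact Subtype.ext (by
        show δ * (a + b) + σ (δ * (a + b)) = (δ * a + σ (δ * a)) + (δ * b + σ (δ * b))
        rw [mul_add, map_add]; ring)
  have hD : Function.Bijective D := by
    have : Fintype F := Fintype.ofFinite _
    have : Fintype (F →+ ZMod p) := Fintype.ofFinite _
    rw [Fintype.bijective_iff_injective_and_card]
    refine ⟨fun a b e => sub_eq_zero.1 (by_contra fun hne => hG ?_), ?_⟩
    · have h1 : D a ((a - b)⁻¹ * x₁) = D b ((a - b)⁻¹ * x₁) := DFunLike.congr_fun e _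
      simp only [D, AddMonoidHom.mk'_apply] at h1
      rw [← sub_eq_zero, ← map_sub] at h1
      convert h1 using 2
      refine Subtype.ext ?_
      rw [Subfield.coe_sub, Subfield.coe_one, ← hx₁]
      show x₁ + σ x₁ = a * ((a - b)⁻¹ * x₁) + σ (a * ((a - b)⁻¹ * x₁)) -
        (b * ((a - b)⁻¹ * x₁) + σ (b * ((a - b)⁻¹ * x₁)))
      rw [add_sub_add_comm, ← map_sub, ← sub_mul, mul_inv_cancel_left₀ hne]
    · rw [← Nat.card_eq_fintype_card, ← Nat.card_eq_fintype_card, card_hom_zmod (p := p)]
  obtain ⟨e, he⟩ := hE.2 (AddMonoidHom.mk' (fun k : fixedSub σ => ψ (η ⟨_, hkθ k⟩)) fun a b => by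
    rw [← map_add, ← map_add]
    congr 2
    exact Subtype.ext (by
      show ((a + b : fixedSub σ) : F) * θ = (a : F) * θ + (b : F) * θ
      rw [Subfield.coe_add, add_mul]))
  obtain ⟨δ, hδ⟩ := hD.2 (AddMonoidHom.mk' (fun μ => ψ (ξ μ)) fun a b => by rw [map_add, map_add])
  set γ := δ * θ
  obtain ⟨β, hβ⟩ := h.invol.exists_norm_eq (μ := γ * σ γ - (e : F))
    (by rw [map_sub, map_mul, h.invol.invol, show σ (e : F) = e from e.2, mul_comm])
  refine ⟨β - γ, fun hsurj => hψ ?_⟩
  obtain ⟨c, hc⟩ := hsurj ⟨θ, hθ⟩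
  rw [← hc]
  set α := β - γ
  obtain ⟨k, rfl⟩ : ∃ k : fixedSub σ, c = ⟨_, hkθ k⟩ := by
    refine ⟨⟨(c : F) / θ, ?_⟩, Subtype.ext (div_mul_cancel₀ _ hθ0).symm⟩
    show σ ((c : F) / θ) = (c : F) / θ
    rw [map_div₀, eq_neg_of_add_eq_zero_right (mem_skew.1 c.2), eq_neg_of_add_eq_zero_right hθ,
      neg_div_neg_eq]
  have hαfix : α * σ α ∈ fixedSub σ := by
    show σ (α * σ α) = α * σ α
    rw [map_mul, h.invol.invol, mul_comm]
  rw [map_add, map_add]
  have h1 : ψ (⟨(k : F) * θ * (α * σ α), by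
      rw [mem_skew, map_mul, map_mul, map_mul, h.invol.invol, show σ (k : F) = k from k.2]
      linear_combination ((k : F) * (α * σ α)) * hθ⟩ : skew σ) = G (k * ⟨_, hαfix⟩) := by
    show ψ _ = ψ _
    congr 1
    exact Subtype.ext (show (k : F) * θ * (α * σ α) = (k : F) * (α * σ α) * θ by ring)
  have h2 : ψ (ξ ((k : F) * θ * σ α)) = G (k * ⟨γ * σ α + σ (γ * σ α), htr _⟩) := by
    have := DFunLike.congr_fun hδ ((k : F) * θ * σ α)
    simp only [D, AddMonoidHom.mk'_apply] at this
    rw [← this]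
    congr 1
    refine Subtype.ext ?_
    rw [Subfield.coe_mul]
    show δ * ((k : F) * θ * σ α) + σ (δ * ((k : F) * θ * σ α)) =
      (k : F) * (γ * σ α + σ (γ * σ α))
    simp only [map_mul, show σ (k : F) = k from k.2, γ]
    ring
  have h3 : ψ (η ⟨_, hkθ k⟩) = G (k * e) := by
    have := DFunLike.congr_fun he k
    exact this.symm.trans (congrArg G (mul_comm _ _))
  rw [h1, h2, h3, ← map_add, ← map_add, ← mul_add, ← mul_add]
  have : (⟨_, hαfix⟩ : fixedSub σ) + ⟨γ * σ α + σ (γ * σ α), htr _⟩ + e = 0 := Subtype.ext (by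
    rw [Subfield.coe_add, Subfield.coe_add, Subfield.coe_zero]
    show α * σ α + (γ * σ α + σ (γ * σ α)) + (e : F) = 0
    simp only [α, map_sub, map_mul, h.invol.invol]
    linear_combination hβ)
  rw [this, mul_zero, map_zero]

namespace HPair

variable {P : HPair B}

theorem line_false (hd : Module.finrank F V = 2 + 2)
    (hN : H.index < (Nat.card (fixedSub σ) + 1) * (Nat.card (fixedSub σ) ^ 3 + 1))
    {x : HSU B ⧸ H} (hm : P.Moved h x) (hline : P.LineType h x) : False := by
  classical
  obtain ⟨w, hw0, hww, hs⟩ := hline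
  have hH' := h.restrict_herm (h.orth_nondeg (P.nondeg h))
  have hrW := P.finrank_W h hd
  obtain ⟨f, hwf, hff⟩ := hH'.exists_isotropic_partner hw0 hww
  have hspan : Submodule.span F ({w, f} : Set (P.W h)) = ⊤ :=
    Submodule.eq_top_of_finrank_eq (by
      rw [hH'.pair_finrank (hH'.hyperbolic_disc (u := w) hww hwf), hrW])
  -- the transvections of the line move the point inside its own orbit of the centre
  have hlift : ∀ c : skew σ, ∃ e : skew σ,
      MinIndexSU.T h hww (mem_skew.1 c.2) • x = P.Tv h (mem_skew.1 e.2) • x := by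
    intro c
    set k := MinIndexSU.T h hww (mem_skew.1 c.2)
    have hk : P.Levi h k 1 := by
      refine ⟨?_, fun z => ?_⟩
      · rw [MinIndexSU.T_apply, P.wv w, mul_zero, zero_smul, add_zero, one_smul]
      · rw [MinIndexSU.T_apply]
        exact (P.W h).add_mem z.2 ((P.W h).smul_mem _ w.2)
    have hmap : ∀ l : F, hk.map (l • w) = l • w := fun l => Subtype.ext (by
      rw [Levi.map_coe, map_one, one_smul, MinIndexSU.T_apply, Submodule.coe_smul, smul_right, hww,
        mul_zero, mul_zero, zero_smul, add_zero])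
    have hW : P.W₀ h (k • x) = P.W₀ h x := by
      refine SetLike.coe_injective ?_
      rw [hk.W₀_eq]
      ext z
      constructor
      · rintro ⟨y, hy, rfl⟩
        obtain ⟨l, rfl⟩ := (hs y).1 hy
        rw [hmap]; exact hy
      · intro hz
        obtain ⟨l, rfl⟩ := (hs z).1 hz
        exact ⟨_, hz, hmap l⟩
    obtain ⟨u, ⟨c', a', rfl⟩, hu⟩ := same_orbit hd hN hm (hk.moved hm) hW
    have hβ : B (c' : V) w = 0 := by
      obtain ⟨l, hl⟩ := h.invol.exists_ne
      have key : ∀ l : F, l * B (c' : V) w - σ l * σ (B (c' : V) w) = 0 := by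
        intro l
        obtain ⟨a, ha⟩ := (hs (l • w)).2 ⟨l, rfl⟩
        let b : P.Par h (hk.map (l • w)) := ⟨a, by rw [hmap]; exact a.2⟩
        have hb : P.El h (hk.map (l • w)) b • x = x := by
          rw [P.El_congr h b a (hmap l) rfl]; exact ha
        have := commutator_eq_zero hd hN hm hk (by simp) hu.symm ha hb
        rw [show ((b : F)) = a from rfl, sub_self, zero_add, hmap, Submodule.coe_smul, smul_left,
          smul_right, ← h.symm (c' : V) w] at this
        exact this
      have k1 := key 1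
      rw [one_mul, map_one, one_mul] at k1
      have k2 := key l
      have : (l - σ l) * B (c' : V) w = 0 := by linear_combination k2 - σ l * k1
      exact (mul_eq_zero.1 this).resolve_left (sub_ne_zero.2 (Ne.symm hl))
    have hcs : c' ∈ P.W₀ h x := by
      rw [hs]
      obtain ⟨a, b, hab⟩ := Submodule.mem_span_pair.1 (hspan ▸ Submodule.mem_top : c' ∈ _)
      have h0 : b = 0 := by
        have := h.eq_zero_symm hβ
        rwa [← hab, Submodule.coe_add, Submodule.coe_smul, Submodule.coe_smul, map_add, smul_right,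
          smul_right, hww, show B (w : V) f = 1 from hwf, mul_zero, zero_add, mul_one] at this
      exact ⟨a, by rw [← hab, h0, zero_smul, add_zero]⟩
    obtain ⟨ac, hac⟩ := hcs
    have hd' : (a' : F) - ac + σ ((a' : F) - ac) = 0 := by
      rw [map_sub]; linear_combination a'.2 - ac.2
    refine ⟨⟨_, hd'⟩, ?_⟩
    rw [← hu]
    conv_rhs => rw [← hac, ← mul_smul, Tv_mul_El]
    congr 1
    exact P.El_congr h _ _ rfl (by simp)
  choose η hη using hlift
  have hμ : ∀ μ : F, ∃ e : skew σ, ∀ p : P.Par h (μ • w), (p : F) = 0 →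
      P.El h (μ • w) p • x = P.Tv h (mem_skew.1 e.2) • x := by
    intro μ
    obtain ⟨a, ha⟩ := (hs (μ • w)).2 ⟨μ, rfl⟩
    have ha' : -(a : F) + σ (-(a : F)) = 0 := by
      have hz : -B ((μ • w : P.W h) : V) (μ • w : P.W h) = 0 := by
        rw [Submodule.coe_smul, IsHerm.smul_self, hww, mul_zero, neg_zero]
      have := a.2.trans hz
      rw [map_neg]; linear_combination -this
    refine ⟨⟨_, ha'⟩, fun p hp => ?_⟩
    conv_rhs => rw [← ha, ← mul_smul, Tv_mul_El]
    congr 1
    exact P.El_congr h _ _ rfl (by rw [hp]; simp)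
  choose ξ hξ using hμ
  have hpar : ∀ μ : F, (0 : F) + σ 0 = -B ((μ • w : P.W h) : V) (μ • w : P.W h) := fun μ => by
    rw [Submodule.coe_smul, IsHerm.smul_self, hww]; simp
  have hinj : ∀ {a b : skew σ}, P.Tv h (mem_skew.1 a.2) • x = P.Tv h (mem_skew.1 b.2) • x → a = b :=
    fun e => Subtype.ext (Tv_smul_inj hd hN hm e)
  have hadd : ∀ a b : skew σ, P.Tv h (mem_skew.1 (a + b).2) • x =
      P.Tv h (mem_skew.1 a.2) • P.Tv h (mem_skew.1 b.2) • x := fun a b => by
    rw [← mul_smul, P.Tv_add h]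
  let ξh : F →+ skew σ := AddMonoidHom.mk' ξ fun μ ν => hinj (by
    rw [← hξ (μ + ν) ⟨0, hpar _⟩ rfl, hadd, ← hξ ν ⟨0, hpar _⟩ rfl, ← mul_smul,
      ← P.El_comm_Tv h (mem_skew.1 (ξ μ).2) ⟨0, hpar ν⟩, mul_smul,
      ← hξ μ ⟨0, hpar _⟩ rfl, ← mul_smul, El_mul]
    congr 1
    refine P.El_congr h _ _ (by rw [add_smul, add_comm]) ?_
    simp [parMul, smul_left, smul_right, hww])
  let ηh : skew σ →+ skew σ := AddMonoidHom.mk' η fun c d => hinj (by
    rw [← hη (c + d), hadd, ← hη d, ← mul_smul]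
    rw [show MinIndexSU.T h hww (mem_skew.1 (c + d).2) =
      MinIndexSU.T h hww (mem_skew.1 d.2) * MinIndexSU.T h hww (mem_skew.1 c.2) from
      ap_ext fun y => by
        simp only [ap_mul, MinIndexSU.T_apply, map_add, smul_right, hww, AddSubgroup.coe_add]
        match_scalars <;> ring]
    rw [show P.Tv h (mem_skew.1 (η c).2) * MinIndexSU.T h hww (mem_skew.1 d.2) =
      MinIndexSU.T h hww (mem_skew.1 d.2) * P.Tv h (mem_skew.1 (η c).2) from
      ap_ext fun y => by
        simp only [ap_mul, MinIndexSU.T_apply, map_add, smul_right, P.wv w, P.vw w, mul_zero,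
          zero_smul, add_zero]
        module, mul_smul, mul_smul, hη c])
  obtain ⟨α, hα⟩ := exists_killed h ξh ηh
  apply hα
  refine Finite.surjective_of_injective fun c c' e => ?_
  set f : skew σ → skew σ := fun c : skew σ => (⟨(c : F) * (α * σ α), by
      rw [mem_skew, map_mul, map_mul, h.invol.invol]
      linear_combination (α * σ α) * mem_skew.1 c.2⟩ : skew σ) + ξh ((c : F) * σ α) + ηh c with hf
  have hlin : f (c - c') = 0 := by
    have e' : f c = f c' := e
    rw [← sub_eq_zero.2 e']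
    simp only [hf, map_sub, AddSubgroup.coe_sub, sub_mul]
    refine Subtype.ext ?_
    simp only [AddSubgroup.coe_add, AddSubgroup.coe_sub]
    ring
  by_contra hne
  set d := c - c' with hddef
  have hd0 : (d : F) ≠ 0 := fun e0 => hne (sub_eq_zero.1 (Subtype.ext e0))
  have huu : B (α • P.v + (w : V)) (α • P.v + (w : V)) = 0 := by
    simp [smul_left, smul_right, P.vv, P.vw w, P.wv w, hww]
  have hu0 : α • P.v + (w : V) ≠ 0 := fun e0 => by
    exact hw0 (by
      refine Subtype.ext ?_
      have hvw : B P.f (α • P.v + (w : V)) = 0 := by rw [e0, map_zero]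
      rw [map_add, smul_right, P.fv h, P.fw w, mul_one, add_zero] at hvw
      rwa [hvw, zero_smul, zero_add] at e0)
  refine fixed_false hd hN hm hu0 huu (by simp [smul_right, P.vv, P.vw w]) (mem_skew.1 d.2) hd0 ?_
  have hdec : MinIndexSU.T h huu (mem_skew.1 d.2) =
      P.Tv h (c := (d : F) * (α * σ α)) (by
        rw [map_mul, map_mul, h.invol.invol]
        linear_combination (α * σ α) * mem_skew.1 d.2) *
      (P.El h (((d : F) * σ α) • w) ⟨0, hpar _⟩ * MinIndexSU.T h hww (mem_skew.1 d.2)) :=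
    ap_ext fun y => by
      have hσd : σ (d : F) = -(d : F) := eq_neg_of_add_eq_zero_right (mem_skew.1 d.2)
      simp only [ap_mul, El_apply, MinIndexSU.T_apply, map_add, LinearMap.add_apply, smul_right, smul_left,
        Submodule.coe_smul, map_mul, h.invol.invol, hσd, P.vv, P.vw w, P.wv w, hww, zero_mul,
        mul_zero, add_zero, zero_sub]
      match_scalars <;> ring
  rw [hdec, mul_smul, mul_smul, hη d]
  rw [← mul_smul (P.El h _ _), El_comm_Tv, mul_smul, hξ _ _ rfl, ← hadd, ← mul_smul, P.Tv_add h]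
  conv_rhs => rw [← one_smul (HSU B) x]
  congr 1
  have hval : (d : F) * (α * σ α) + ((ηh d + ξh ((d : F) * σ α) : skew σ) : F) = 0 := by
    have e0 := congrArg (fun z : skew σ => (z : F)) hlin
    simp only [hf, AddSubgroup.coe_add, ZeroMemClass.coe_zero] at e0
    rw [AddSubgroup.coe_add]
    linear_combination e0
  exact ap_ext fun y => by
    rw [MinIndexSU.T_apply, ap_one]
    show y + (((d : F) * (α * σ α) + ((ηh d + ξh ((d : F) * σ α) : skew σ) : F)) * B P.v y) • P.v = y
    rw [hval, zero_mul, zero_smul, add_zero]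

end HPair

end CfsgLib.LocalEvenB.MinIndexSU
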