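import Cfsg.Agent.Lib.LocalEvenB.MinIndexSU.FourLine

/-!
No stabiliser projection of a moved point is a plane over the fixed field, so the index is not
small in dimension four.
-/

set_option autoImplicit false

namespace CfsgLib.LocalEvenB.MinIndexSU

open CfsgLib.Classical CfsgLib.Classical.Herm

variable {F : Type*} [Field F] {V : Type*} [AddCommGroup V] [Module F V] {σ : F →+* F}
  {B : V →ₛₗ[σ] V →ₗ[F] F} (h : IsHerm B) [Finite F] [FiniteDimensional F V]
  {H : Subgroup (HSU B)}

namespace HPair

variable {P : HPair B} {h}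

theorem param_unique (hd : Module.finrank F V = 2 + 2)
    (hN : H.index < (Nat.card (fixedSub σ) + 1) * (Nat.card (fixedSub σ) ^ 3 + 1))
    {x : HSU B ⧸ H} (hm : P.Moved h x) {z z' : P.W h} {a : P.Par h z} {b : P.Par h z'}
    (ha : P.El h z a • x = x) (hb : P.El h z' b • x = x) (e : z = z') : (a : F) = b := by
  subst e
  have hd' : (a : F) - b + σ ((a : F) - b) = 0 := by
    rw [map_sub]; linear_combination a.2 - b.2
  have hz : (0 : F) + σ 0 = 0 := by simp
  have e1 : P.Tv h hd' • x = x := by
    conv_rhs => rw [← ha]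
    conv_lhs => rw [← hb]
    rw [← mul_smul, Tv_mul_El]
    congr 1
    exact P.El_congr h _ _ rfl (by simp)
  refine sub_eq_zero.1 (Tv_smul_inj hd hN hm (ha := hd') (hb := hz) (e1.trans ?_))
  conv_lhs => rw [← one_smul (HSU B) x]
  congr 1
  exact ap_ext fun y => by simp [MinIndexSU.T_apply, ap_one]

theorem real_false (hd : Module.finrank F V = 2 + 2)
    (hN : H.index < (Nat.card (fixedSub σ) + 1) * (Nat.card (fixedSub σ) ^ 3 + 1))
    {x : HSU B ⧸ H} (hm : P.Moved h x) (hreal : P.RealType h x) : False := by
  classical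
  obtain ⟨h2, hiso, w, hw, y, hy, hwy⟩ := hreal
  have hH' := h.restrict_herm (h.orth_nondeg (P.nondeg h))
  have hrW := P.finrank_W h hd
  have : Finite (P.W h) := Module.finite_of_finite F
  obtain ⟨-, hS, -, -, -⟩ := P.moved_data h hd hN hm
  set s := P.W₀ h x
  set β := B (w : V) y with hβdef
  have hneg : ∀ a : F, -a = a := fun a => by linear_combination -a * h2
  have hww := hiso w hw
  have hyy := hiso y hy
  have hfix : ∀ a ∈ s, ∀ b ∈ s, σ (B (a : V) b) = B (a : V) b := fun a ha b hb => by
    have e := hiso _ (s.add_mem ha hb)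
    rw [Submodule.coe_add] at e
    simp only [map_add, LinearMap.add_apply, hiso a ha, hiso b hb] at e
    rw [h.symm]
    linear_combination e - B (a : V) b * h2
  have hσβ : σ β = β := hfix w hw y hy
  have hyw : B (y : V) w = β := by rw [← h.symm, ← hβdef, hσβ]
  -- coordinates
  have hw0 : w ≠ 0 := fun e => hwy (by simp [hβdef, e])
  have hspan : ∀ z : P.W h, ∃ a b : F, z = a • w + b • y := by
    intro z
    have hspan : Submodule.span F ({w, y} : Set (P.W h)) = ⊤ := by
      refine Submodule.eq_top_of_finrank_eq ?_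
      have hli : LinearIndependent F ![w, y] := by
        rw [LinearIndependent.pair_iff' hw0]
        intro a e
        apply hwy
        simp [hβdef, ← e, smul_right, hww]
      have := finrank_span_eq_card hli
      rw [Matrix.range_cons_cons_empty, Fintype.card_fin] at this
      rw [this, hrW]
    obtain ⟨a, b, e⟩ := Submodule.mem_span_pair.1 (hspan ▸ Submodule.mem_top : z ∈ _)
    exact ⟨a, b, e.symm⟩
  have hcoef : ∀ a b : F, B (w : V) ((a • w + b • y : P.W h) : V) = b * β ∧
      B (y : V) ((a • w + b • y : P.W h) : V) = a * β := fun a b => by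
    simp [smul_right, hww, hyy, hyw, ← hβdef]
  have hmem : ∀ a b : F, σ a = a → σ b = b → a • w + b • y ∈ s := by
    have hco : ∀ z : s, ∃ ab : fixedSub σ × fixedSub σ,
        z.1 = (ab.1 : F) • w + (ab.2 : F) • y := by
      rintro ⟨z, hz⟩
      obtain ⟨a, b, rfl⟩ := hspan z
      have h1 := hfix w hw _ hz
      have h2 := hfix y hy _ hz
      rw [(hcoef a b).1, map_mul, hσβ] at h1
      rw [(hcoef a b).2, map_mul, hσβ] at h2
      exact ⟨(⟨a, mul_right_cancel₀ hwy h2⟩, ⟨b, mul_right_cancel₀ hwy h1⟩), rfl⟩
    choose co hco using hco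
    have hb : Function.Bijective co := by
      have : Fintype s := Fintype.ofFinite _
      have : Fintype (fixedSub σ) := Fintype.ofFinite _
      rw [Fintype.bijective_iff_injective_and_card]
      refine ⟨fun a b e => Subtype.ext (by rw [hco a, hco b, e]), ?_⟩
      rw [← Nat.card_eq_fintype_card, ← Nat.card_eq_fintype_card, Nat.card_prod, ← pow_two]
      exact hS
    intro a b ha hb'
    obtain ⟨z, hz⟩ := hb.2 (⟨a, ha⟩, ⟨b, hb'⟩)
    have := hco z
    rw [hz] at this
    rw [← this]
    exact z.2
  have hsmul : ∀ (r : F), σ r = r → ∀ z ∈ s, r • z ∈ s := by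
    intro r hr z hz
    obtain ⟨a, b, rfl⟩ := hspan z
    have h1 := hfix w hw _ hz
    have h2 := hfix y hy _ hz
    rw [(hcoef a b).1, map_mul, hσβ] at h1
    rw [(hcoef a b).2, map_mul, hσβ] at h2
    rw [smul_add, smul_smul, smul_smul]
    exact hmem _ _ (by rw [map_mul, hr, mul_right_cancel₀ hwy h2])
      (by rw [map_mul, hr, mul_right_cancel₀ hwy h1])
  have hpar : ∀ z : s, ∃ a, P.El h z.1 a • x = x := fun z => z.2
  choose A hA using hpar
  have hAadd : ∀ z z' : s, (A (z + z') : F) = A z + A z' - B (z.1 : V) z'.1 := fun z z' => by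
    have h1 : P.El h (z.1 + z'.1) (P.parMul h (A z) (A z')) • x = x := by
      rw [← El_mul, mul_smul, hA, hA]
    exact param_unique hd hN hm (hA (z + z')) h1 rfl
  by_cases hq : Nat.card (fixedSub σ) = 2
  · -- four elements
    obtain ⟨w, hw, y, hy, hwy, hAw⟩ : ∃ w, ∃ hw : w ∈ s, ∃ y, ∃ _ : y ∈ s,
        B (w : V) y = 1 ∧ (A ⟨w, hw⟩ : F) = 1 := by
      have hone : ∀ {c : F}, c + σ c = 0 → c = 0 ∨ c = 1 := fun {c} hc =>
        norm_zero_or_one h hq (by linear_combination hc - c * h2)
      have hβ1 : β = 1 := (norm_zero_or_one h hq hσβ).resolve_left hwy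
      have hsk : ∀ z : s, (A z : F) + σ (A z : F) = 0 := fun z => by
        exact (A z).2.trans (by rw [hiso z.1 z.2, neg_zero])
      rcases hone (hsk ⟨w, hw⟩) with e1 | e1
      · rcases hone (hsk ⟨y, hy⟩) with e2 | e2
        · refine ⟨w + y, s.add_mem hw hy, y, hy, ?_, ?_⟩
          · simp [hyy, ← hβdef, hβ1]
          · have := hAadd ⟨w, hw⟩ ⟨y, hy⟩
            rw [e1, e2] at this
            rw [show (⟨w + y, s.add_mem hw hy⟩ : s) = ⟨w, hw⟩ + ⟨y, hy⟩ from rfl, this, zero_add,
              zero_sub, hneg, ← hβdef, hβ1]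
        · exact ⟨y, hy, w, hw, by rw [hyw, hβ1], e2⟩
      · exact ⟨w, hw, y, hy, by rw [← hβdef, hβ1], e1⟩
    have hww := hiso w hw
    have hyy := hiso y hy
    have hone : (1 : F) + σ 1 = 0 := by rw [map_one]; linear_combination h2
    have hT : ∀ {c : F}, c + σ c = 0 → c = 0 ∨ c = 1 := fun {c} hc =>
      norm_zero_or_one h hq (by linear_combination hc - c * h2)
    set k := MinIndexSU.T h hww hone
    have hk : P.Levi h k 1 := by
      refine ⟨?_, fun z => ?_⟩
      · rw [MinIndexSU.T_apply, P.wv w, mul_zero, zero_smul, add_zero, one_smul]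
      · rw [MinIndexSU.T_apply]
        exact (P.W h).add_mem z.2 ((P.W h).smul_mem _ w.2)
    have hmap : ∀ z : P.W h, hk.map z = z + B (w : V) z • w := fun z => Subtype.ext (by
      rw [Levi.map_coe, map_one, one_smul, MinIndexSU.T_apply, one_mul, Submodule.coe_add,
        Submodule.coe_smul])
    have hW : P.W₀ h (k • x) = s := by
      refine SetLike.coe_injective ?_
      rw [hk.W₀_eq]
      refine Set.eq_of_subset_of_ncard_le ?_ (le_of_eq ?_) (Set.toFinite _)
      · rintro _ ⟨z, hz, rfl⟩
        rw [hmap]
        exact s.add_mem hz (hsmul _ (hfix w hw z hz) w hw)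
      · exact (Set.ncard_image_of_injective _ hk.map_bijective.1).symm
    obtain ⟨u, ⟨c', a', rfl⟩, hu⟩ := same_orbit hd hN hm (hk.moved hm) hW
    have hmw : hk.map w = w := by rw [hmap, hww, zero_smul, add_zero]
    have hr : σ (B (w : V) c') = B (w : V) c' := by
      let b : P.Par h (hk.map w) := ⟨A ⟨w, hw⟩, by rw [hmw]; exact (A ⟨w, hw⟩).2⟩
      have hb : P.El h (hk.map w) b • x = x := by
        rw [P.El_congr h b (A ⟨w, hw⟩) hmw rfl]; exact hA ⟨w, hw⟩
      have := commutator_eq_zero hd hN hm hk (by simp) hu.symm (hA ⟨w, hw⟩) hb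
      rw [show (b : F) = A ⟨w, hw⟩ from rfl, sub_self, zero_add, hmw] at this
      rw [h.symm]
      linear_combination this
    obtain ⟨ω, hω1, hω⟩ := h.exists_norm_one_ne_one
    have hω3 : (ω : F) ^ 3 = 1 := pow_three h hq hω
    have hσω : σ (ω : F) = ω * ω := by rw [h.invol.apply_eq_pow, hq]; ring
    have hωs : 1 + (ω : F) + ω * ω = 0 := (mul_eq_zero.1
      (show ((ω : F) - 1) * (1 + ω + ω * ω) = 0 by linear_combination hω3)).resolve_left
      (sub_ne_zero.2 hω1)
    have hF4 : ∀ l : F, l = 0 ∨ l = 1 ∨ l = ω ∨ l = ω + 1 := fun l => by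
      by_cases hl : l = 0
      · exact Or.inl hl
      have ha3 : l ^ 3 = 1 := pow_three h hq (norm_of_ne_zero h hq hl)
      have h4 : (l - 1) * ((l - (ω : F)) * (l - ω * ω)) = 0 := by
        linear_combination ha3 - hω3 + (l * ω - l * l) * hωs
      rcases mul_eq_zero.1 h4 with e | e
      · exact Or.inr (Or.inl (sub_eq_zero.1 e))
      rcases mul_eq_zero.1 e with e | e
      · exact Or.inr (Or.inr (Or.inl (sub_eq_zero.1 e)))
      · exact Or.inr (Or.inr (Or.inr (by linear_combination e + hωs - (1 + (ω : F)) * h2)))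
    obtain ⟨l, hl, hl'⟩ : ∃ l : F, (l = 0 ∨ l = (ω : F)) ∧ c' - l • w ∈ s := by
      have hyy' : B (y : V) y = 0 := hyy
      obtain ⟨m, hm'⟩ : ∃ m : F, c' = m • w + B (w : V) c' • y := by
        have hspan : Submodule.span F ({w, y} : Set (P.W h)) = ⊤ :=
          Submodule.eq_top_of_finrank_eq (by
            rw [hH'.pair_finrank (hH'.hyperbolic_disc (u := w) hww hwy), hrW])
        obtain ⟨a, b, e⟩ := Submodule.mem_span_pair.1 (hspan ▸ Submodule.mem_top : c' ∈ _)
        refine ⟨a, ?_⟩
        have : B (w : V) c' = b := by simp [← e, smul_right, hww, hwy]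
        rw [this, e]
      have hy' := hsmul _ hr y hy
      rcases hF4 m with e | e | e | e
      · refine ⟨0, Or.inl rfl, ?_⟩
        rw [zero_smul, sub_zero, hm', e, zero_smul, zero_add]; exact hy'
      · refine ⟨0, Or.inl rfl, ?_⟩
        rw [zero_smul, sub_zero, hm', e, one_smul]; exact s.add_mem hw hy'
      · refine ⟨ω, Or.inr rfl, ?_⟩
        rw [hm', e, add_sub_cancel_left]; exact hy'
      · refine ⟨ω, Or.inr rfl, ?_⟩
        rw [hm', e, add_smul, one_smul, add_assoc, add_sub_cancel_left]; exact s.add_mem hw hy'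
    obtain ⟨b, hbx⟩ : ∃ b : P.Par h (l • w), k • x = P.El h (l • w) b • x := by
      set z : s := ⟨c' - l • w, hl'⟩
      have hnorm : B (c' : V) c' =
          B ((l • w : P.W h) : V) (z.1 : V) + σ (B ((l • w : P.W h) : V) (z.1 : V)) := by
        have e : (c' : V) = ((l • w : P.W h) : V) + (z.1 : V) := by simp [z]
        rw [h.symm, e]
        simp only [map_add, LinearMap.add_apply, hiso z.1 z.2]
        rw [show B ((l • w : P.W h) : V) ((l • w : P.W h) : V) = 0 by
          rw [Submodule.coe_smul, IsHerm.smul_self, hww, mul_zero]]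
        ring
      refine ⟨⟨(a' : F) - A z + B ((l • w : P.W h) : V) (z.1 : V), ?_⟩, ?_⟩
      · have e1 : (A z : F) + σ (A z : F) = 0 := (A z).2.trans (by rw [hiso z.1 z.2, neg_zero])
        rw [map_add, map_sub, Submodule.coe_smul, IsHerm.smul_self, hww, mul_zero, neg_zero]
        rw [Submodule.coe_smul] at hnorm
        linear_combination a'.2 - e1 - hnorm
      · rw [← hu]
        conv_rhs => rw [← hA z, ← mul_smul, El_mul]
        congr 1
        exact P.El_congr h _ _ (by simp [z]) (by simp [parMul, smul_left]; ring)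
    have hb01 : (b : F) = 0 ∨ (b : F) = 1 := hT (by
      exact b.2.trans (by rw [Submodule.coe_smul, IsHerm.smul_self, hww, mul_zero, neg_zero]))
    set p : V := P.v + ((ω : F) * ω) • (w : V) with hp
    have hpp : B p p = 0 := by
      simp [hp, smul_left, smul_right, P.vv, P.vw w, P.wv w, hww]
    have hp0 : p ≠ 0 := fun e => by
      have := congrArg (B P.f) e
      simp [hp, smul_right, P.fv h, P.fw w] at this
    let Q : HPair B := ⟨p, P.f, hpp, P.ff, by simp [hp, smul_left, P.vf, P.wf w]⟩
    have hwQ : ∀ μ : F, μ • (w : V) ∈ Q.W h := fun μ => Q.mem_W h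
      (by simp [Q, hp, smul_left, smul_right, P.vw w, hww]) (by simp [Q, smul_right, P.fw w])
    have hQpar : ∀ (μ c : F), c + σ c = 0 →
        c + σ c = -B ((⟨μ • (w : V), hwQ μ⟩ : Q.W h) : V) (⟨μ • (w : V), hwQ μ⟩ : Q.W h) :=
      fun μ c hc => by rw [hc]; simp [IsHerm.smul_self, hww]
    by_cases hQ : Q.Moved h x
    swap
    · refine fixed_false hd hN hm hp0 hpp
        (by simp [hp, smul_right, P.vv, P.vw w]) hone one_ne_zero ?_
      by_contra hne
      exact hQ ⟨1, hone, hne⟩
    -- two elements in the stabiliser and in the Eichler group of the new centre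
    have hz1 : Q.El h ⟨(ω : F) • (w : V), hwQ _⟩ ⟨1, hQpar _ 1 hone⟩ • x = x := by
      conv_rhs => rw [← hA ⟨w, hw⟩]
      congr 1
      refine ap_ext fun z => ?_
      rw [El_apply, El_apply, hAw]
      simp only [Q, hp, map_add, LinearMap.add_apply, smul_left, smul_right, map_mul, hσω]
      match_scalars
      · ring
      · linear_combination (B P.v z) * hωs - (B P.v z) * h2 + (B (w : V) z) * ((ω : F) ^ 3 + 1 + (ω : F) ^ 2 - ω) * hω3 + (B (w : V) z) * hωs -
            (B (w : V) z) * ω * h2
      · linear_combination (B (w : V) z) * ω * hω3 + (B (w : V) z) * hωs - (B (w : V) z) * (ω : F) ^ 2 * h2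
    have hkk : k * k = 1 := ap_ext fun z => by
      rw [ap_mul, ap_one, MinIndexSU.T_apply, MinIndexSU.T_apply, map_add, smul_right, hww]
      match_scalars
      · ring
      · linear_combination (B (w : V) z) * h2
    have hstab : ∀ g : HSU B, g = P.El h (l • w) b * k → g • x = x := by
      rintro g rfl
      rw [mul_smul, hbx, ← mul_smul, El_mul]
      conv_rhs => rw [← one_smul (HSU B) x, ← P.El_zero h]
      congr 1
      refine P.El_congr h _ _ (Subtype.ext ?_) ?_
      · simp only [Submodule.coe_add, Submodule.coe_smul, Submodule.coe_zero]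
        linear_combination (norm := module) (congrArg (fun a : F => a • (l • (w : V))) h2)
      · simp only [parMul, parZero, Submodule.coe_smul, IsHerm.smul_self, hww, mul_zero, sub_zero]
        linear_combination (b : F) * h2
    rcases hl with rfl | rfl <;> rcases hb01 with hb | hb
    · refine fixed_false hd hN hm (u := (w : V)) (fun e => ?_) hww (P.vw w) hone one_ne_zero ?_
      · simp [e] at hwy
      · show k • x = x
        rw [hbx]
        conv_rhs => rw [← one_smul (HSU B) x, ← P.El_zero h]
        congr 1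
        exact P.El_congr h _ _ (zero_smul F w) hb
    · have hz2 : Q.El h ⟨((ω : F) * ω) • (w : V), hwQ _⟩ ⟨1, hQpar _ 1 hone⟩ • x = x := by
        refine hstab _ (ap_ext fun z => ?_)
        rw [ap_mul, El_apply, El_apply, MinIndexSU.T_apply, hb]
        simp only [Q, hp, map_add, LinearMap.add_apply, smul_left, smul_right, map_mul, hσω,
          Submodule.coe_smul, zero_smul, map_zero, ZeroMemClass.coe_zero, LinearMap.zero_apply, P.vw w, mul_zero, zero_mul, sub_zero, add_zero]
        match_scalars
        · ring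
        · linear_combination (B P.v z) * (ω : F) ^ 2 * h2 + (B (w : V) z) * ((ω : F) ^ 3 + 1) * hω3
        · linear_combination (0 : F)
      have hQW : ∀ z : Q.W h, z ∈ Q.W₀ h x ↔ ∃ l : F, z = l • (⟨(w : V), by
          simpa using hwQ 1⟩ : Q.W h) := by
        obtain ⟨-, hS', -, -, -⟩ := Q.moved_data h hd hN hQ
        set W1 : Q.W h := ⟨(w : V), by simpa using hwQ 1⟩
        have hm1 : (ω : F) • W1 ∈ Q.W₀ h x := ⟨⟨1, _⟩, hz1⟩
        have hm2 : ((ω : F) * ω) • W1 ∈ Q.W₀ h x := ⟨⟨1, _⟩, hz2⟩
        have hline : ∀ l : F, l • W1 ∈ Q.W₀ h x := fun l => by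
          have hsum : (1 : F) • W1 ∈ Q.W₀ h x := by
            have := (Q.W₀ h x).add_mem hm1 hm2
            rwa [← add_smul, show (ω : F) + ω * ω = 1 by linear_combination hωs - h2] at this
          rcases hF4 l with e | e | e | e <;> subst e
          · rw [zero_smul]; exact (Q.W₀ h x).zero_mem
          · exact hsum
          · exact hm1
          · rw [add_smul]; exact (Q.W₀ h x).add_mem hm1 hsum
        have hb' : Function.Bijective (fun l : F => (⟨l • W1, hline l⟩ : Q.W₀ h x)) := by
          have : Finite (Q.W h) := Module.finite_of_finite F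
          have : Fintype F := Fintype.ofFinite F
          have : Fintype (Q.W₀ h x) := Fintype.ofFinite _
          rw [Fintype.bijective_iff_injective_and_card]
          refine ⟨fun a c e => ?_, ?_⟩
          · refine smul_left_injective F (fun e0 => ?_) (congrArg Subtype.val e)
            have : (w : V) = 0 := congrArg Subtype.val e0
            simp [this] at hwy
          · rw [← Nat.card_eq_fintype_card, ← Nat.card_eq_fintype_card, h.invol.card_sq, hS']
        intro z
        refine ⟨fun hz => ?_, fun ⟨l, hl⟩ => hl ▸ hline l⟩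
        obtain ⟨l, hl⟩ := hb'.2 ⟨z, hz⟩
        exact ⟨l, (congrArg Subtype.val hl).symm⟩
      exact line_false h hd hN hQ ⟨⟨(w : V), by simpa using hwQ 1⟩, fun e => by
        have : (w : V) = 0 := congrArg Subtype.val e
        simp [this] at hwy, hww, hQW⟩
    · have hz2 : Q.El h ⟨(ω : F) • (w : V), hwQ _⟩ ⟨0, hQpar _ 0 (by simp)⟩ • x = x := by
        refine hstab _ (ap_ext fun z => ?_)
        rw [ap_mul, El_apply, El_apply, MinIndexSU.T_apply, hb]
        simp only [Q, hp, map_add, LinearMap.add_apply, smul_left, smul_right, map_mul, hσω,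
          Submodule.coe_smul, P.vw w, hww, mul_zero, zero_mul, sub_zero, add_zero]
        match_scalars
        · ring
        · linear_combination (B (w : V) z) * ((ω : F) ^ 2 - ω) * hω3 + (B (w : V) z) * hωs - (B (w : V) z) * ((ω : F) + 1) * h2
        · linear_combination (0 : F)
      exact one_ne_zero (param_unique hd hN hQ hz1 hz2 rfl)
    · have hu' : B (((ω : F) * ω) • P.v + (w : V)) (((ω : F) * ω) • P.v + (w : V)) = 0 := by
        simp [smul_left, smul_right, P.vv, P.vw w, P.wv w, hww]
      refine fixed_false hd hN hm (u := ((ω : F) * ω) • P.v + (w : V)) (fun e => ?_) hu'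
        (by simp [smul_right, P.vv, P.vw w]) hone one_ne_zero (hstab _ (ap_ext fun z => ?_))
      · have := congrArg (B P.f) e
        simp [smul_right, P.fv h, P.fw w] at this
      · rw [ap_mul, El_apply, MinIndexSU.T_apply, MinIndexSU.T_apply, hb]
        simp only [map_add, LinearMap.add_apply, smul_left, smul_right, map_mul, hσω,
          Submodule.coe_smul, P.vw w, hww, mul_zero, sub_zero, add_zero, one_mul]
        match_scalars
        · ring
        · linear_combination (B (w : V) z) * (ω : F) ^ 2 * h2 + (B P.v z) * ((ω : F) ^ 3 + 1) * hω3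
        · linear_combination (B P.v z) * ω * hω3
  · -- at least four fixed scalars
    obtain ⟨r₀, hr₀, hr00, hr01⟩ : ∃ r : F, σ r = r ∧ r ≠ 0 ∧ r ≠ 1 := by
      by_contra hc
      push Not at hc
      have : Fintype (fixedSub σ) := Fintype.ofFinite _
      have h1 := Finset.card_le_card (show (Finset.univ : Finset (fixedSub σ)) ⊆ {0, 1} from
        fun a _ => by
          by_cases ha : (a : F) = 0
          · rw [show a = 0 from Subtype.ext ha]; simp
          · rw [show a = 1 from Subtype.ext (hc a a.2 ha)]; simp)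
      rw [Finset.card_univ, ← Nat.card_eq_fintype_card] at h1
      have h3 : ({0, 1} : Finset (fixedSub σ)).card ≤ 2 := Finset.card_le_two
      have h4 := IsInvol.card_ge_two (σ := σ)
      omega
    have hlin : ∀ z : s, z.1 ≠ 0 → ∀ r : F, ∀ hr : σ r = r,
        (A ⟨r • z.1, hsmul r hr z.1 z.2⟩ : F) = r * A z := by
      rintro ⟨u, hu⟩ hu0
      obtain ⟨y', hy', huy⟩ : ∃ y' ∈ s, B (u : V) y' ≠ 0 := by
        by_contra hc
        push Not at hc
        obtain ⟨a, b, e⟩ := hspan u
        have h1 := h.eq_zero_symm (hc w hw)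
        have h3 := h.eq_zero_symm (hc y hy)
        rw [e, (hcoef a b).1, mul_eq_zero] at h1
        rw [e, (hcoef a b).2, mul_eq_zero] at h3
        exact hu0 (by
          show u = 0
          rw [e, h1.resolve_right hwy, h3.resolve_right hwy, zero_smul, zero_smul, add_zero])
      have huu := hiso u hu
      have hσβ' : σ (B (u : V) y') = B (u : V) y' := hfix u hu y' hy'
      let f : ∀ r : F, σ r = r → F := fun r hr => (A ⟨r • u, hsmul r hr u hu⟩ : F)
      have hfadd : ∀ r r' hr hr' hrr, f (r + r') hrr = f r hr + f r' hr' := by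
        intro r r' hr hr' hrr
        have := hAadd ⟨r • u, hsmul r hr u hu⟩ ⟨r' • u, hsmul r' hr' u hu⟩
        rw [show B ((r • u : P.W h) : V) ((r' • u : P.W h) : V) = 0 by
          simp [smul_left, smul_right, huu], sub_zero] at this
        show (A _ : F) = _
        rw [show (⟨(r + r') • u, hsmul _ hrr u hu⟩ : s) = ⟨r • u, hsmul r hr u hu⟩ +
          ⟨r' • u, hsmul r' hr' u hu⟩ from Subtype.ext (add_smul r r' u)]
        exact this
      have hmul : ∀ k : F, σ k = k → k ≠ 0 → ∃ C : F, ∀ r (hr : σ r = r) (hkr : σ (k * r) = k * r),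
          f (k * r) hkr = f r hr + k * r * C := by
        intro k hk hk0
        obtain ⟨b, hb⟩ := exists_map_scalar hH' hrW (x := u) (z := k • u) (k := 1)
          (show u ≠ 0 from hu0) (smul_ne_zero hk0 hu0) huu
          (by show B ((k • u : P.W h) : V) (k • u : P.W h) = 0
              simp [IsHerm.smul_self, huu])
          one_ne_zero
          (by show B (u : V) ((k • u : P.W h) : V) * 1⁻¹ + σ (B (u : V) ((k • u : P.W h) : V) * 1⁻¹) = 0
              simp [smul_right, huu])
          (fun l hl => by
            rw [inv_one, mul_one, ← smul_left_injective F (show u ≠ 0 from hu0) hl]; exact hk)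
        rw [one_smul] at hb
        have hbs : ∀ z ∈ s, ap b z ∈ s := by
          intro z hz
          have hspan' : Submodule.span F ({u, y'} : Set (P.W h)) = ⊤ := by
            refine Submodule.eq_top_of_finrank_eq ?_
            have hli : LinearIndependent F ![u, y'] := by
              rw [LinearIndependent.pair_iff' (show u ≠ 0 from hu0)]
              intro a e
              apply huy
              simp [← e, smul_right, huu]
            have := finrank_span_eq_card hli
            rw [Matrix.range_cons_cons_empty, Fintype.card_fin] at this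
            rw [this, hrW]
          obtain ⟨a₁, b₁, e₁⟩ := Submodule.mem_span_pair.1 (hspan' ▸ Submodule.mem_top : z ∈ _)
          obtain ⟨a₂, b₂, e₂⟩ :=
            Submodule.mem_span_pair.1 (hspan' ▸ Submodule.mem_top : ap b z ∈ _)
          have hb1 : σ b₁ = b₁ := by
            have := hfix u hu z hz
            rw [← e₁] at this
            simp [smul_right, huu, hσβ', huy] at this
            exact this
          have hk' : k * b₂ = b₁ := by
            have := ap_eq b u z
            rw [hb, IsHerm.restrict_apply, IsHerm.restrict_apply, ← e₂, ← e₁] at this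
            simp [smul_left, smul_right, huu, hk] at this
            exact mul_right_cancel₀ huy (by linear_combination this)
          have hb2 : σ b₂ = b₂ := mul_left_cancel₀ hk0 (by
            conv_lhs => rw [← hk]
            rw [← map_mul, hk', hb1])
          by_cases hb20 : b₂ = 0
          · have hz1 : z = a₁ • u := by
              rw [← e₁, ← hk', hb20, mul_zero, zero_smul, add_zero]
            have ha1 : σ a₁ = a₁ := by
              have := hfix y' hy' z hz
              have hy'u : B (y' : V) u = B (u : V) y' := by rw [← h.symm, hσβ']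
              rw [hz1] at this
              simp [smul_right, hy'u, hσβ', huy] at this
              exact this
            rw [hz1, LinearEquiv.map_smul, hb, smul_smul]
            exact hsmul _ (by rw [map_mul, ha1, hk]) u hu
          · have ha2 : σ a₂ = a₂ := by
              have := ap_eq b z z
              rw [IsHerm.restrict_apply, IsHerm.restrict_apply, hiso z hz, ← e₂] at this
              have hy'u : B (y' : V) u = B (u : V) y' := by rw [← h.symm, hσβ']
              simp [smul_left, smul_right, huu, hiso y' hy', hy'u, hb2] at this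
              have h5 : B (u : V) y' * b₂ * (σ a₂ + a₂) = 0 := by linear_combination this
              have h6 := (mul_eq_zero.1 h5).resolve_left (mul_ne_zero huy hb20)
              linear_combination h6 - a₂ * h2
            rw [← e₂]
            exact s.add_mem (hsmul _ ha2 u hu) (hsmul _ hb2 y' hy')
        have ht := P.levi_ext' h b
        have hW : P.W₀ h (MinIndexSU.ext' h (P.nondeg h) b • x) = s := by
          refine SetLike.coe_injective ?_
          rw [ht.W₀_eq]
          refine Set.eq_of_subset_of_ncard_le ?_ (le_of_eq ?_) (Set.toFinite _)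
          · rintro _ ⟨z, hz, rfl⟩
            rw [P.map_ext' h b]; exact hbs z hz
          · exact (Set.ncard_image_of_injective _ ht.map_bijective.1).symm
        obtain ⟨e, ⟨c', a', rfl⟩, he⟩ := same_orbit hd hN hm (ht.moved hm) hW
        refine ⟨B (c' : V) u - B (u : V) c', fun r hr hkr => ?_⟩
        have hmz : ht.map (r • u) = (k * r) • u := by
          rw [P.map_ext' h b, LinearEquiv.map_smul, hb, smul_smul, mul_comm]
        let a₀ := A ⟨(k * r) • u, hsmul _ hkr u hu⟩
        let bb : P.Par h (ht.map (r • u)) := ⟨(a₀ : F), by rw [hmz]; exact a₀.2⟩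
        have hbb : P.El h (ht.map (r • u)) bb • x = x := by
          rw [P.El_congr h bb a₀ hmz rfl]; exact hA _
        have := commutator_eq_zero hd hN hm ht (by simp) he.symm (hA ⟨r • u, hsmul r hr u hu⟩) hbb
        rw [show (bb : F) = a₀ from rfl, hmz] at this
        show (a₀ : F) = (A ⟨r • u, hsmul r hr u hu⟩ : F) + _
        revert this
        generalize (a₀ : F) = t₀
        generalize (A ⟨r • u, hsmul r hr u hu⟩ : F) = t₁
        intro this
        rw [Submodule.coe_smul, smul_left, smul_right, hkr] at this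
        linear_combination -this
      have h1 : σ (1 : F) = 1 := map_one σ
      have hg : ∀ r (hr : σ r = r), f r hr = r * f 1 h1 := by
        intro r hr
        by_cases hr0 : r = 0
        · subst hr0
          have h00 : σ ((0 : F) + 0) = 0 + 0 := by simp
          have := hfadd 0 0 hr hr h00
          simp only [add_zero] at this
          rw [zero_mul]
          linear_combination -this
        by_cases hr1 : r + 1 = 0
        · obtain rfl : r = 1 := by linear_combination hr1 - h2
          rw [one_mul]
        have hr' : σ (r + 1) = r + 1 := by rw [map_add, hr, h1]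
        have hp : σ (r * (r + 1)) = r * (r + 1) := by rw [map_mul, hr, hr']
        have hp' : σ ((r + 1) * r) = (r + 1) * r := by rw [map_mul, hr, hr']
        have hr1' : σ (r * 1) = r * 1 := by rw [mul_one, hr]
        have hr1'' : σ ((r + 1) * 1) = (r + 1) * 1 := by rw [mul_one, hr']
        obtain ⟨C, hC⟩ := hmul r hr hr0
        obtain ⟨C', hC'⟩ := hmul (r + 1) hr' hr1
        have e1 := hC (r + 1) hr' hp
        have e2 := hC 1 h1 hr1'
        have e3 := hC' r hr hp'
        have e4 := hC' 1 h1 hr1''
        have e5 := hfadd r 1 hr h1 hr'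
        simp only [mul_one] at e2 e4
        simp only [mul_comm (r + 1) r] at e3
        rw [e1] at e3
        have : (f r hr - r * f 1 h1) * 1 = 0 := by
          linear_combination e3 - (r + 1) * e2 + r * e4 + (r - 1) * e5 + (f r hr + f r hr * r +
            r * C' - r * f (r + 1) hr' - r * C + r ^ 2 * C' - r ^ 2 * C - f 1 h1) * h2
        linear_combination this
      intro r hr
      have := hg r hr
      rw [show f r hr = (A ⟨r • u, hsmul r hr u hu⟩ : F) from rfl] at this
      rw [this]
      show r * (A ⟨(1 : F) • u, _⟩ : F) = r * (A ⟨u, hu⟩ : F)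
      rw [show (⟨(1 : F) • u, hsmul 1 h1 u hu⟩ : s) = ⟨u, hu⟩ from Subtype.ext (one_smul F u)]
    have hwy0 : w + y ≠ 0 := fun e => hwy (by
      have := congrArg (fun z : P.W h => B (w : V) z) e
      simpa [hww] using this)
    have hy0 : y ≠ 0 := fun e => hwy (by simp [hβdef, e])
    have e1 := hlin ⟨w, hw⟩ hw0 r₀ hr₀
    have e2 := hlin ⟨y, hy⟩ hy0 r₀ hr₀
    have e3 := hlin (⟨w, hw⟩ + ⟨y, hy⟩) hwy0 r₀ hr₀
    have e4 := hAadd ⟨w, hw⟩ ⟨y, hy⟩
    have e5 := hAadd ⟨r₀ • w, hsmul r₀ hr₀ w hw⟩ ⟨r₀ • y, hsmul r₀ hr₀ y hy⟩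
    simp only at e1 e2 e4 e5
    rw [show (⟨r₀ • w, hsmul r₀ hr₀ w hw⟩ + ⟨r₀ • y, hsmul r₀ hr₀ y hy⟩ : s) =
      ⟨r₀ • (w + y), hsmul r₀ hr₀ _ (s.add_mem hw hy)⟩ from Subtype.ext (smul_add _ _ _).symm] at e5
    have e3' : (A ⟨r₀ • (w + y), hsmul r₀ hr₀ _ (s.add_mem hw hy)⟩ : F) =
        r₀ * A (⟨w, hw⟩ + ⟨y, hy⟩) := e3
    rw [e5, e1, e2, e4, Submodule.coe_smul, Submodule.coe_smul, smul_left, smul_right, hr₀,
      ← hβdef] at e3'
    have : r₀ * (r₀ - 1) * β = 0 := by linear_combination -e3'
    exact mul_ne_zero (mul_ne_zero hr00 (sub_ne_zero.2 hr01)) hwy this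

end HPair

include h in
/-- The lower bound in dimension four. -/
theorem le_index_four (hd : Module.finrank F V = 2 + 2) (hH : H ≠ ⊤) :
    (Nat.card (fixedSub σ) + 1) * (Nat.card (fixedSub σ) ^ 3 + 1) ≤ H.index := by
  by_contra hlt
  push Not at hlt
  obtain ⟨v, hv0, hvv, hv⟩ := exists_not_inS h (by omega) (fun e => absurd e (by omega)) hH
  obtain ⟨f, hvf, hff⟩ := h.exists_isotropic_partner hv0 hvv
  let P : HPair B := ⟨v, f, hvv, hff, hvf⟩
  have hm : P.Moved h ((1 : HSU B) : HSU B ⧸ H) :=
    (moved_mk_iff h P 1).2 (by rwa [inv_one, ap_one])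
  obtain ⟨-, -, hT | hT, -⟩ := P.moved_data h hd hlt hm
  · exact HPair.line_false h hd hlt hm hT
  · exact HPair.real_false hd hlt hm hT

end CfsgLib.LocalEvenB.MinIndexSU
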