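import Cfsg.Agent.Lib.LocalEvenB.MinIndexSU.FourImages

/-!
The possible stabiliser projections of a moved point of a small transitive set, in dimension four.
-/

set_option autoImplicit false

namespace CfsgLib.LocalEvenB.MinIndexSU

open CfsgLib.Classical CfsgLib.Classical.Herm

theorem four_arith {q : ℕ} (hq : 2 ≤ q) :
    (q + 1) * (q ^ 3 + 1) ≤ q ^ 5 ∧ (q + 1) * (q ^ 3 + 1) ≤ 4 * (q * (q ^ 2 - 1)) * q ∧
      (q + 1) * (q ^ 3 + 1) ≤ 4 * ((q ^ 2 - 1) * (q + 1)) * q ∧
      (q + 1) * (q ^ 3 + 1) ≤ 2 * ((q + 1) * q ^ 3) ∧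
      (q + 1) * (q ^ 3 + 1) ≤ (q + 2) * q ^ 3 ∧
      (q + 1) * (q ^ 3 + 1) ≤ (q + 1) * q ^ 4 := by
  obtain ⟨r, rfl⟩ : ∃ r, q = r + 2 := ⟨q - 2, by omega⟩
  rw [show (r + 2) ^ 2 - 1 = r ^ 2 + 4 * r + 3 by ring_nf; omega]
  refine ⟨?_, ?_, ?_, ?_, ?_, ?_⟩ <;> ring_nf <;> omega

variable {F : Type*} [Field F] {V : Type*} [AddCommGroup V] [Module F V] {σ : F →+* F}
  {B : V →ₛₗ[σ] V →ₗ[F] F} (h : IsHerm B) [Finite F] [FiniteDimensional F V]
  {Ω : Type*} [MulAction (HSU B) Ω]

theorem exists_fourth_root {c : F} (h2 : (2 : F) = 0) (hc : c * σ c = 1) :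
    ∃ k : F, k * σ k = 1 ∧ k ^ 4 = c := by
  have hchar : ringChar F = 2 := CharP.ringChar_of_prime_eq_zero Nat.prime_two (by exact_mod_cast h2)
  obtain ⟨r, hr⟩ := FiniteField.isSquare_of_char_two hchar c
  obtain ⟨k, hk⟩ := FiniteField.isSquare_of_char_two hchar r
  refine ⟨k, ?_, by rw [hr, hk]; ring⟩
  have h4 : (k * σ k - 1) ^ 4 = 0 := by
    have e : (k * σ k) ^ 4 = 1 := by
      rw [← hc, hr, hk, map_mul, map_mul]; ring
    have : (k * σ k - 1) ^ 4 = (k * σ k) ^ 4 - 1 := by
      linear_combination (-2 * (k * σ k) ^ 3 + 3 * (k * σ k) ^ 2 - 2 * (k * σ k) + 1) * h2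
    rw [this, e, sub_self]
  exact sub_eq_zero.1 (pow_eq_zero_iff (n := 4) (by norm_num) |>.1 h4)

namespace HPair

variable (P : HPair B)

theorem map_norm {g : HSU B} {α : F} (hg : P.Levi h g α) (hα : α * σ α = 1) (w : P.W h) :
    B (hg.map w : V) (hg.map w) = B (w : V) w := by
  rw [Levi.map_coe, IsHerm.smul_self, ap_eq, h.invol.invol, mul_comm (σ α), hα, one_mul]

theorem card_mem_image_le {s : AddSubgroup (P.W h)} {g : HSU B} {α : F} (hg : P.Levi h g α)
    (hα : α * σ α = 1) (μ : F) :
    Nat.card {z : {z : P.W h // z ≠ 0 ∧ B (z : V) z = μ} // z.1 ∈ hg.map '' (s : Set (P.W h))} ≤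
      Nat.card {z : P.W h // z ∈ s ∧ z ≠ 0 ∧ B (z : V) z = μ} := by
  have : Finite (P.W h) := Module.finite_of_finite F
  have key : ∀ z : {z : {z : P.W h // z ≠ 0 ∧ B (z : V) z = μ} //
      z.1 ∈ hg.map '' (s : Set (P.W h))},
      ∃ u : {z : P.W h // z ∈ s ∧ z ≠ 0 ∧ B (z : V) z = μ}, hg.map u.1 = z.1.1 := by
    rintro ⟨⟨z, hz0, hz⟩, u, hu, e⟩
    have e' : hg.map u = z := e
    refine ⟨⟨u, hu, fun e0 => hz0 (by rw [← e', e0, map_zero]), ?_⟩, e'⟩
    rw [← P.map_norm h hg hα, e', hz]
  choose u hu using key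
  exact Nat.card_le_card_of_injective u fun a b e => Subtype.ext (Subtype.ext (by
    rw [← hu a, ← hu b, e]))

/-- The stabiliser projection is an isotropic line. -/
def LineType (x : Ω) : Prop :=
  ∃ w : P.W h, w ≠ 0 ∧ B (w : V) w = 0 ∧ ∀ z : P.W h, z ∈ P.W₀ h x ↔ ∃ l : F, z = l • w

/-- The stabiliser projection is a plane over the fixed field, in characteristic two. -/
def RealType (x : Ω) : Prop :=
  (2 : F) = 0 ∧ (∀ z ∈ P.W₀ h x, B (z : V) z = 0) ∧
    ∃ w ∈ P.W₀ h x, ∃ y ∈ P.W₀ h x, B (w : V) y ≠ 0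

/-- A moved point of a small transitive set. -/
theorem types [Finite Ω] (hd : Module.finrank F V = 2 + 2)
    (hμ : Nat.card {y : Ω // ∃ (c : F) (hc : c + σ c = 0), P.Tv h hc • y ≠ y} <
      (Nat.card (fixedSub σ) + 1) * (Nat.card (fixedSub σ) ^ 3 + 1))
    {x : Ω} {c₀ : F} {hc₀ : c₀ + σ c₀ = 0} (hm : P.Tv h hc₀ • x ≠ x) :
    Nat.card (P.W₀ h x) = Nat.card (fixedSub σ) ^ 2 ∧
      Nat.card (fixedSub σ) + 1 ≤ (P.Imgs h (P.W₀ h x : Set (P.W h))).ncard ∧
      (P.LineType h x ∨ P.RealType h x) := by
  classical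
  set q := Nat.card (fixedSub σ) with hqdef
  have hq2 : 2 ≤ q := IsInvol.card_ge_two (σ := σ)
  have : Finite (P.W h) := Module.finite_of_finite F
  have hH' := h.restrict_herm (h.orth_nondeg (P.nondeg h))
  have hrW := P.finrank_W h hd
  set s := P.W₀ h x
  set L := (P.Imgs h (s : Set (P.W h))).ncard with hL
  set S := Nat.card s
  have hS0 : 0 < S := Nat.card_pos
  have hS2 : S ≤ q ^ 2 := P.card_W₀_le h hd hm
  obtain ⟨M1, M2, M3, M4, M5, M6⟩ := four_arith hq2
  set M := (q + 1) * (q ^ 3 + 1)
  have bad : M * S ≤ L * q ^ 5 → False := fun hle => by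
    have h1 := P.card_classes_Imgs_le h hd (by norm_num) hm
    have hC := (classes_bound h (P.A h x) (P.A_le h x) (mem_skew.2 hc₀)
      (skew_not_top h P hm)).1
    have ha : 0 < Nat.card (P.A h x) := Nat.card_pos
    have h2 : Nat.card (P.A h x) * (L * q ^ 5) ≤
        Nat.card (P.A h x) *
          (Nat.card {y : Ω // ∃ (c : F) (hc : c + σ c = 0), P.Tv h hc • y ≠ y} * S) :=
      calc Nat.card (P.A h x) * (L * q ^ 5) ≤ (classes σ (P.A h x)).ncard * (L * q ^ 5) :=
            Nat.mul_le_mul_right _ hC
        _ = _ := by ring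
        _ ≤ _ := h1
        _ = _ := by ring
    exact absurd (hle.trans (Nat.le_of_mul_le_mul_left h2 ha))
      (Nat.not_le.2 (Nat.mul_lt_mul_of_pos_right hμ hS0))
  -- powers of the characteristic
  obtain ⟨p, hp⟩ := CharP.exists F
  have hhalf : S < q ^ 2 → 2 * S ≤ q ^ 2 := by
    intro hlt
    have : Fintype F := Fintype.ofFinite F
    obtain ⟨n, hpp, hn⟩ := FiniteField.card F p
    have hqn : q ^ 2 = p ^ (n : ℕ) := by
      rw [← hn, ← Nat.card_eq_fintype_card, hqdef, h.invol.card_sq]
    have hdvd : S ∣ p ^ (2 * (n : ℕ)) := by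
      have h2 := AddSubgroup.card_addSubgroup_dvd_card s
      rw [Module.natCard_eq_pow_finrank (K := F) (V := P.W h), hrW, h.invol.card_sq, ← hqdef, hqn, ← pow_mul]
        at h2
      rwa [mul_comm]
    obtain ⟨i, -, hi⟩ := (Nat.dvd_prime_pow hpp).1 hdvd
    rw [hqn, hi] at hlt ⊢
    have hin : i < n := (Nat.pow_lt_pow_iff_right hpp.one_lt).1 hlt
    calc 2 * p ^ i ≤ p * p ^ i := Nat.mul_le_mul_right _ hpp.two_le
      _ = p ^ (i + 1) := by ring
      _ ≤ _ := Nat.pow_le_pow_right hpp.pos hin
  have hhalf2 : S < q ^ 2 → 4 * (S * S) ≤ q ^ 4 := fun hlt => by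
    calc 4 * (S * S) = (2 * S) * (2 * S) := by ring
      _ ≤ q ^ 2 * q ^ 2 := Nat.mul_le_mul (hhalf hlt) (hhalf hlt)
      _ = q ^ 4 := by ring
  have badsq : ∀ G : ℕ, G ≤ L * S → S < q ^ 2 → M ≤ 4 * G * q → False := fun G hG hlt hMG =>
    bad (Nat.le_of_mul_le_mul_right (calc M * S * S = M * (S * S) := by ring
      _ ≤ 4 * G * q * (S * S) := Nat.mul_le_mul_right _ hMG
      _ = 4 * (S * S) * (G * q) := by ring
      _ ≤ q ^ 4 * (L * S * q) := Nat.mul_le_mul (hhalf2 hlt) (Nat.mul_le_mul_right _ hG)
      _ = L * q ^ 5 * S := by ring) hS0)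
  -- a bound for the images from a norm class
  have hiso : ∀ z : P.W h, B (z : V) z = IsHerm.restrict B (P.W h) z z := fun z => rfl
  have hsplit : ∀ μ₁ μ₂ : F, μ₁ ≠ μ₂ →
      Nat.card {z : P.W h // z ∈ s ∧ z ≠ 0 ∧ B (z : V) z = μ₁} +
        Nat.card {z : P.W h // z ∈ s ∧ z ≠ 0 ∧ B (z : V) z = μ₂} ≤ S - 1 := by
    intro μ₁ μ₂ hne
    rw [← Nat.card_sum]
    have : Nat.card {z : s // z ≠ 0} = S - 1 := by
      have := Fintype.ofFinite s
      rw [Nat.card_eq_fintype_card, Fintype.card_subtype_compl, Fintype.card_subtype_eq,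
        ← Nat.card_eq_fintype_card]
    rw [← this]
    refine Nat.card_le_card_of_injective (Sum.elim
      (fun z => ⟨⟨z.1, z.2.1⟩, fun e => z.2.2.1 (congrArg Subtype.val e)⟩)
      (fun z => ⟨⟨z.1, z.2.1⟩, fun e => z.2.2.1 (congrArg Subtype.val e)⟩)) ?_
    rintro (a | a) (b | b) e
    · exact congrArg Sum.inl (Subtype.ext (congrArg (fun t : {z : s // z ≠ 0} => t.1.1) e))
    · exact absurd (a.2.2.2.symm.trans ((congrArg (fun t : {z : s // z ≠ 0} =>
        B (t.1.1 : V) t.1.1) e).trans b.2.2.2)) hne
    · exact absurd (b.2.2.2.symm.trans ((congrArg (fun t : {z : s // z ≠ 0} =>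
        B (t.1.1 : V) t.1.1) e.symm).trans a.2.2.2)) hne
    · exact congrArg Sum.inr (Subtype.ext (congrArg (fun t : {z : s // z ≠ 0} => t.1.1) e))
  have hcoverN : ∀ w ∈ s, B (w : V) w ≠ 0 → q * (q ^ 2 - 1) ≤
      L * Nat.card {z : P.W h // z ∈ s ∧ z ≠ 0 ∧ B (z : V) z = B (w : V) w} := by
    intro w hw hw0
    have hc := card_norm_ne_zero hH' (m := 1) hrW (show IsHerm.restrict B (P.W h) w w ≠ 0 from hw0)
      (hH'.self_fixed w)
    rw [← hqdef, pow_one, ordFactor, if_neg (by decide), show 1 + 1 = 2 from rfl] at hc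
    rw [← hc]
    refine card_le_Imgs (fun z U => z.1 ∈ U) (fun z => ?_) ?_
    · obtain ⟨g, hg, e⟩ := hH'.exists_det_one_map (by rw [hrW]) (x := w) (y := z.1)
        (show IsHerm.restrict B (P.W h) w w ≠ 0 from hw0) z.2.2.symm
      exact ⟨_, P.smul_mem_Imgs h _ ⟨g, hg⟩, w, hw, e⟩
    · rintro U ⟨g, α, hg, hα, rfl⟩
      exact P.card_mem_image_le h hg hα _
  have hscalar : (2 : F) = 0 → ∀ w ∈ s, w ≠ 0 → B (w : V) w = 0 → (q ^ 2 - 1) * (q + 1) ≤
      L * Nat.card {z : P.W h // z ∈ s ∧ z ≠ 0 ∧ B (z : V) z = 0} := by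
    intro h2 w hw hw0 hww
    have hc := hH'.card_isotropic_ne_zero (m := 0) hrW
    rw [← hqdef, ordFactor, ordFactor, if_neg (by decide), if_pos (by decide), zero_add, pow_one,
      show 1 + 1 = 2 from rfl] at hc
    rw [← hc]
    refine card_le_Imgs (fun z U => z.1 ∈ U) (fun z => ?_) ?_
    · obtain ⟨c, hc0, hcd⟩ : ∃ c : F, c ≠ 0 ∧ ((B (w : V) z.1 ≠ 0 → c = B (w : V) z.1) ∧
          ∀ l : F, z.1 = l • w → B (w : V) z.1 = 0 ∧ c = l) := by
        by_cases hl : ∃ l : F, z.1 = l • w
        · obtain ⟨l, hl⟩ := hl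
          have h0 : B (w : V) z.1 = 0 := by
            rw [hl, Submodule.coe_smul, smul_right, hww, mul_zero]
          refine ⟨l, fun e => z.2.1 (by rw [hl, e, zero_smul]), fun e => absurd h0 e,
            fun l' hl' => ⟨h0, smul_left_injective F hw0 (hl.symm.trans hl')⟩⟩
        · by_cases h0 : B (w : V) z.1 = 0
          · exact ⟨1, one_ne_zero, fun e => absurd h0 e, fun l e => absurd ⟨l, e⟩ hl⟩
          · exact ⟨_, h0, fun _ => rfl, fun l e => absurd ⟨l, e⟩ hl⟩
      have hσc : σ c ≠ 0 := fun e => hc0 (IsInvol.apply_eq_zero_iff.1 e)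
      obtain ⟨k, hk, hk4⟩ := exists_fourth_root (c := c / σ c) h2 (by
        rw [map_div₀, h.invol.invol]; field_simp)
      have hk0 : k ≠ 0 := fun e => by rw [e, zero_mul] at hk; exact zero_ne_one hk
      have hfix : σ (c * (k * k)⁻¹) = c * (k * k)⁻¹ := by
        have hσk : σ k = k⁻¹ := eq_inv_of_mul_eq_one_right hk
        rw [map_mul, map_inv₀, map_mul, hσk]
        field_simp
        rw [hk4]; field_simp
      obtain ⟨g, e⟩ := exists_map_scalar hH' hrW (x := w) (z := z.1) hw0 z.2.1 hww z.2.2
        (k := k * k) (mul_ne_zero hk0 hk0)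
        (by
          show B (w : V) z.1 * (k * k)⁻¹ + σ (B (w : V) z.1 * (k * k)⁻¹) = 0
          by_cases h0 : B (w : V) z.1 = 0
          · rw [h0, zero_mul, map_zero, add_zero]
          · rw [← hcd.1 h0, hfix]; linear_combination (c * (k * k)⁻¹) * h2)
        (fun l hl => by rw [← (hcd.2 l hl).2]; exact hfix)
      exact ⟨_, P.image_scalar_mem_Imgs h hd rfl _ hk g, w, hw, e⟩
    · rintro U ⟨g, α, hg, hα, rfl⟩
      exact P.card_mem_image_le h hg hα _
  have htop : ∀ c : F, c ≠ 0 → c ∈ P.A h x → q.Prime → False := by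
    intro c hc hcA hpr
    apply skew_not_top h P hm
    have : Fact (Nat.card (skew σ)).Prime := ⟨by rw [card_skew h]; exact hpr⟩
    rcases ((P.A h x).addSubgroupOf (skew σ)).eq_bot_or_eq_top_of_prime_card with e | e
    · exfalso
      have h1 : (⟨c, P.A_le h x hcA⟩ : skew σ) ∈ (P.A h x).addSubgroupOf (skew σ) :=
        AddSubgroup.mem_addSubgroupOf.2 hcA
      rw [e, AddSubgroup.mem_bot] at h1
      exact hc (congrArg Subtype.val h1)
    · have h1 : (⟨c₀, hc₀⟩ : skew σ) ∈ (P.A h x).addSubgroupOf (skew σ) := by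
        rw [e]; exact AddSubgroup.mem_top _
      exact AddSubgroup.mem_addSubgroupOf.1 h1
  have hcomm : ∀ z ∈ s, ∀ z' ∈ s, B (z' : V) z - B (z : V) z' ∈ P.A h x := fun z hz z' hz' =>
    P.commutator_mem h hz hz'
  have hnorm : ∀ z z' : P.W h, B ((z + z' : P.W h) : V) (z + z' : P.W h) =
      B (z : V) z + B (z' : V) z' + (B (z : V) z' + B (z' : V) z) := fun z z' => by
    simp only [Submodule.coe_add, map_add, LinearMap.add_apply]; ring
  by_cases haniso : ∃ w ∈ s, B (w : V) w ≠ 0
  · -- an anisotropic vector: impossible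
    exfalso
    obtain ⟨w, hw, hww⟩ := haniso
    set ν := B (w : V) w
    have hcov := hcoverN w hw hww
    set k := Nat.card {z : P.W h // z ∈ s ∧ z ≠ 0 ∧ B (z : V) z = ν}
    rcases hS2.lt_or_eq with hlt | hS
    · refine badsq _ (hcov.trans (Nat.mul_le_mul_left _ ?_)) hlt M2
      exact Nat.card_le_card_of_injective (fun z => (⟨z.1, z.2.1⟩ : s))
        fun a b e => Subtype.ext (congrArg (fun t : s => (t : P.W h)) e)
    have hL1 : L ≤ q + 1 := by
      by_contra hc
      refine bad ?_
      rw [hS]
      calc M * q ^ 2 ≤ (q + 2) * q ^ 3 * q ^ 2 := Nat.mul_le_mul_right _ M5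
        _ = (q + 2) * q ^ 5 := by ring
        _ ≤ _ := Nat.mul_le_mul_right _ (by omega)
    have hclass : ∀ u ∈ s, B (u : V) u ≠ 0 →
        q * (q - 1) ≤ Nat.card {z : P.W h // z ∈ s ∧ z ≠ 0 ∧ B (z : V) z = B (u : V) u} := by
      intro u hu hu0
      refine Nat.le_of_mul_le_mul_left ?_ (show 0 < q + 1 by omega)
      refine le_trans (le_of_eq ?_) ((hcoverN u hu hu0).trans (Nat.mul_le_mul_right _ hL1))
      zify [show 1 ≤ q ^ 2 from Nat.one_le_pow _ _ (by omega), show 1 ≤ q by omega]
      ring
    have hk : q * (q - 1) ≤ k := hclass w hw hww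
    have hsingle : ∀ z ∈ s, B (z : V) z = 0 ∨ B (z : V) z = ν := by
      intro z hz
      by_contra hc
      push Not at hc
      have h1 := hsplit _ ν hc.2
      have h2 := hclass z hz hc.1
      rw [hS] at h1
      obtain ⟨r, hr⟩ : ∃ r, q = r + 2 := ⟨q - 2, by omega⟩
      have hk' : q * (q - 1) + q * (q - 1) ≤ q ^ 2 - 1 := by omega
      rw [hr, show r + 2 - 1 = r + 1 by omega] at hk'
      have : (r + 2) ^ 2 - 1 = r ^ 2 + 4 * r + 3 := by ring_nf; omega
      rw [this] at hk'
      nlinarith
    by_cases h2 : (2 : F) = 0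
    · have hno : ∀ z ∈ s, z ≠ 0 → B (z : V) z = ν := by
        intro z hz hz0
        refine (hsingle z hz).resolve_left fun hzz => ?_
        have h1 := hscalar h2 z hz hz0 hzz
        have h3 := hsplit 0 ν (Ne.symm hww)
        rw [hS] at h3
        have h4 : Nat.card {z : P.W h // z ∈ s ∧ z ≠ 0 ∧ B (z : V) z = 0} ≤ q - 1 := by
          obtain ⟨r, hr⟩ : ∃ r, q = r + 2 := ⟨q - 2, by omega⟩
          rw [hr, show (r + 2) ^ 2 - 1 = r ^ 2 + 4 * r + 3 by ring_nf; omega] at h3
          rw [hr, show r + 2 - 1 = r + 1 by omega] at hk ⊢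
          nlinarith
        have h5 := h1.trans (Nat.mul_le_mul hL1 h4)
        obtain ⟨r, hr⟩ : ∃ r, q = r + 2 := ⟨q - 2, by omega⟩
        rw [hr, show (r + 2) ^ 2 - 1 = r ^ 2 + 4 * r + 3 by ring_nf; omega,
          show r + 2 - 1 = r + 1 by omega] at h5
        nlinarith
      have hT : ∀ a ∈ s, ∀ b ∈ s, a ≠ 0 → b ≠ 0 → a + b ≠ 0 →
          B (a : V) b + B (b : V) a = ν := by
        intro a ha b hb ha0 hb0 hab
        have e := hnorm a b
        rw [hno _ (s.add_mem ha hb) hab, hno a ha ha0, hno b hb hb0] at e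
        linear_combination -e + (-ν) * h2 + (B (a : V) b + B (b : V) a) * (0 : F)
      have hneg : ∀ a b : P.W h, a ≠ b → a + b ≠ 0 := fun a b hab e => hab (Subtype.ext (by
        have e' : (a : V) + b = 0 := congrArg Subtype.val e
        have e2 : (2 : F) • (b : V) = 0 := by rw [h2, zero_smul]
        linear_combination (norm := module) e' - e2))
      have hw0 : w ≠ 0 := fun e => hww (by simp [ν, e])
      have hex : ∀ l : List (P.W h), l.length < q ^ 2 → ∃ z ∈ s, z ∉ l := by
        intro l hl
        by_contra hc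
        push Not at hc
        have h1 : S ≤ Nat.card {z : P.W h // z ∈ l} :=
          Nat.card_le_card_of_injective (fun z : s => ⟨z.1, hc z.1 z.2⟩)
            fun a b e => Subtype.ext (congrArg (fun t : {z : P.W h // z ∈ l} => t.1) e)
        have h2 : Nat.card {z : P.W h // z ∈ l} ≤ l.length := by
          rw [Nat.card_congr (Equiv.subtypeEquivRight fun z => (List.mem_toFinset (l := l)).symm),
            Nat.card_eq_finsetCard]
          exact List.toFinset_card_le l
        omega
      have hq4 : 4 ≤ q ^ 2 := Nat.pow_le_pow_left hq2 2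
      obtain ⟨a, ha, hal⟩ := hex [0, w] (by simp; omega)
      simp only [List.mem_cons, List.not_mem_nil, or_false, not_or] at hal
      have hTwa := hT w hw a ha hw0 hal.1 (hneg w a (Ne.symm hal.2))
      by_cases hq : q = 2
      · refine htop ν hww ?_ (by rw [hq]; exact Nat.prime_two)
        have := hcomm w hw a ha
        rwa [show B (a : V) w - B (w : V) a = ν by linear_combination hTwa - B (w : V) a * h2]
          at this
      obtain ⟨b, hb, hbl⟩ := hex [0, w, a, w + a] (by
        have : 3 ^ 2 ≤ q ^ 2 := Nat.pow_le_pow_left (by omega) 2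
        simp; omega)
      simp only [List.mem_cons, List.not_mem_nil, or_false, not_or] at hbl
      have hab : a + b ≠ 0 := hneg a b (Ne.symm hbl.2.2.1)
      have hwab : w + (a + b) ≠ 0 := hneg w (a + b) fun e => hbl.2.2.2 (by
        rw [e]
        refine Subtype.ext ?_
        have e2 : (2 : F) • (a : V) = 0 := by rw [h2, zero_smul]
        simp only [Submodule.coe_add]
        linear_combination (norm := module) -e2)
      have hTwb := hT w hw b hb hw0 hbl.1 (hneg w b (Ne.symm hbl.2.1))
      have hTab := hT w hw _ (s.add_mem ha hb) hw0 hab hwab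
      simp only [Submodule.coe_add, map_add, LinearMap.add_apply] at hTab
      exact hww (by linear_combination hTab - hTwa - hTwb)
    · -- odd characteristic
      have h2w : w + w ∈ s := s.add_mem hw hw
      have h3 : (3 : F) = 0 := by
        rcases hsingle _ h2w with e | e <;> rw [hnorm] at e
        · exfalso
          have e4 : (2 : F) * 2 * ν = 0 := by linear_combination e
          exact hww ((mul_eq_zero.1 e4).resolve_left (mul_ne_zero h2 h2))
        · exact (mul_eq_zero.1 (show (3 : F) * ν = 0 by linear_combination e)).resolve_right hww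
      have hsum : ∀ z : P.W h, B (z : V) z + B ((z + w : P.W h) : V) (z + w : P.W h) +
          B ((z + (w + w) : P.W h) : V) (z + (w + w) : P.W h) = ν + ν := fun z => by
        simp only [Submodule.coe_add, map_add, LinearMap.add_apply]
        linear_combination (B (z : V) z + B (z : V) w + B (w : V) z + B (w : V) w) * h3
      have h3w : w + (w + w) = 0 := Subtype.ext (by
        have : (3 : F) • (w : V) = 0 := by rw [h3, zero_smul]
        simp only [Submodule.coe_add, Submodule.coe_zero]
        linear_combination (norm := module) this)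
      have hexz : ∀ z ∈ s, ∃ j : Fin 3,
          B ((z + j.val • w : P.W h) : V) (z + j.val • w : P.W h) = 0 := by
        intro z hz
        by_contra hc
        push Not at hc
        have e0 := (hsingle _ hz).resolve_left (by simpa using hc 0)
        have e1 := (hsingle _ (s.add_mem hz hw)).resolve_left (by simpa using hc 1)
        have e2 := (hsingle _ (s.add_mem hz h2w)).resolve_left (by simpa [two_nsmul] using hc 2)
        have := hsum z
        rw [e0, e1, e2] at this
        exact hww (by linear_combination this)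
      let K := {z : P.W h // z ∈ s ∧ B (z : V) z = 0}
      have hmem3 : ∀ (j : Fin 3), (j.val • w : P.W h) ∈ s := fun j => s.nsmul_mem hw _
      choose j hj using hexz
      have h1 : S ≤ Nat.card (Fin 3 × K) :=
        Nat.card_le_card_of_injective (fun z : s =>
          (j z.1 z.2, (⟨z.1 + (j z.1 z.2).val • w, s.add_mem z.2 (hmem3 _), hj z.1 z.2⟩ : K)))
          fun a b e => by
            obtain ⟨e1, e2⟩ := Prod.ext_iff.1 e
            have e2' := congrArg (fun t : K => t.1) e2
            simp only at e1 e2'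
            rw [e1] at e2'
            exact Subtype.ext (add_right_cancel e2')
      rw [Nat.card_prod, Nat.card_fin, hS] at h1
      have hK1 : Nat.card K + k ≤ q ^ 2 := by
        rw [← Nat.card_sum, ← hS]
        refine Nat.card_le_card_of_injective (Sum.elim (fun z => (⟨z.1, z.2.1⟩ : s))
          (fun z => ⟨z.1, z.2.1⟩)) ?_
        rintro (a | a) (b | b) e <;>
          have e' := congrArg (fun t : s => B (t.1 : V) t.1) e <;>
          simp only [Sum.elim_inl, Sum.elim_inr] at e e'
        · exact congrArg Sum.inl (Subtype.ext (congrArg (fun t : s => t.1) e))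
        · exact absurd ((a.2.2.symm.trans e').trans b.2.2.2).symm hww
        · exact absurd ((b.2.2.symm.trans e'.symm).trans a.2.2.2).symm hww
        · exact congrArg Sum.inr (Subtype.ext (congrArg (fun t : s => t.1) e))
      have hq3 : q ≤ 3 := by
        obtain ⟨r, hr⟩ : ∃ r, q = r + 2 := ⟨q - 2, by omega⟩
        rw [hr] at h1 hk hK1
        rw [show r + 2 - 1 = r + 1 by omega] at hk
        nlinarith
      have hqodd : q = 3 := by
        by_contra hne
        have hq : q = 2 := by omega
        apply h2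
        have : Fintype F := Fintype.ofFinite F
        have h4 : (Fintype.card F : F) = 0 := Nat.cast_card_eq_zero F
        rw [← Nat.card_eq_fintype_card, h.invol.card_sq, ← hqdef, hq] at h4
        norm_num at h4
        have h5 : (2 : F) * 2 = 0 := by linear_combination h4
        exact (mul_eq_zero.1 h5).elim id id
      obtain ⟨z, ⟨hz, hzz⟩, hz0⟩ : ∃ z, (z ∈ s ∧ B (z : V) z = 0) ∧ z ≠ 0 := by
        by_contra hc
        push Not at hc
        have : Nat.card K ≤ 1 := by
          refine Finite.card_le_one_iff_subsingleton.2 ⟨fun a b => Subtype.ext ?_⟩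
          rw [hc a.1 a.2, hc b.1 b.2]
        rw [hqodd] at h1
        omega
      have hnsum := hsum z
      have hzw : B ((z + w : P.W h) : V) (z + w : P.W h) = ν := by
        rcases hsingle _ (s.add_mem hz hw) with e | e
        · exfalso
          rcases hsingle _ (s.add_mem hz h2w) with e' | e' <;> rw [hzz, e, e'] at hnsum
          · exact hww ((mul_eq_zero.1 (show (2 : F) * ν = 0 by
              linear_combination -hnsum)).resolve_left h2)
          · exact hww (by linear_combination -hnsum)
        · exact e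
      rw [hnorm, hzz, zero_add, add_eq_left] at hzw
      have hne : B (z : V) w ≠ 0 := by
        intro e
        obtain ⟨f, hzf, hff⟩ := hH'.exists_isotropic_partner hz0 hzz
        have hspan : Submodule.span F ({z, f} : Set (P.W h)) = ⊤ :=
          Submodule.eq_top_of_finrank_eq (by
            rw [hH'.pair_finrank (hH'.hyperbolic_disc (u := z) hzz hzf), hrW])
        obtain ⟨a, b, hab⟩ := Submodule.mem_span_pair.1 (hspan ▸ Submodule.mem_top : w ∈ _)
        rw [← hab, Submodule.coe_add, Submodule.coe_smul, Submodule.coe_smul, map_add, smul_right,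
          smul_right, hzz, show B (z : V) f = 1 from hzf, mul_zero, zero_add, mul_one] at e
        apply hww
        simp [ν, ← hab, e, IsHerm.smul_self, hzz]
      refine htop (B (z : V) w) hne ?_ (by rw [hqodd]; exact Nat.prime_three)
      have := hcomm z hz w hw
      rwa [show B (w : V) z - B (z : V) w = B (z : V) w by
        linear_combination hzw - B (z : V) w * h3] at this
  push Not at haniso
  obtain ⟨w, hw, hw0⟩ : ∃ w ∈ s, w ≠ 0 := by
    by_contra hc
    push Not at hc
    have hS1 : S = 1 := by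
      rw [show S = Nat.card s from rfl, (AddSubgroup.eq_bot_iff_forall s).2 hc]
      exact AddSubgroup.card_bot
    refine bad ?_
    rw [hS1, mul_one]
    refine M1.trans (Nat.le_mul_of_pos_left _ ?_)
    exact (Set.ncard_pos (Set.toFinite _)).2 ⟨_, P.self_mem_Imgs h _⟩
  have hww := haniso w hw
  have hisocard : Nat.card {z : P.W h // z ∈ s ∧ z ≠ 0 ∧ B (z : V) z = 0} ≤ S - 1 := by
    have := hsplit 0 1 zero_ne_one
    omega
  by_cases hdep : ∀ z ∈ s, ∃ l : F, z = l • w
  · -- a single line
    have hF1 : Nat.card {l : F // l ≠ 0} = q ^ 2 - 1 := by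
      have := Fintype.ofFinite F
      rw [hqdef, ← h.invol.card_sq, Nat.card_eq_fintype_card, Nat.card_eq_fintype_card,
        Fintype.card_subtype_compl, Fintype.card_subtype_eq]
    have hLq : q + 1 ≤ L := by
      refine Nat.le_of_mul_le_mul_right ?_ (show 0 < q ^ 2 - 1 by
        have := Nat.pow_le_pow_left hq2 2
        omega)
      have hc := hH'.card_isotropic_ne_zero (m := 0) hrW
      rw [← hqdef, ordFactor, ordFactor, if_neg (by decide), if_pos (by decide), zero_add, pow_one,
        show 1 + 1 = 2 from rfl] at hc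
      rw [mul_comm (q + 1), ← hc]
      refine card_le_Imgs (fun z U => ∃ l : F, ∃ u ∈ U, z.1 = l • u) (fun z => ?_) ?_
      · obtain ⟨θ, hθ0, hθ⟩ := h.exists_skew
        obtain ⟨k, hk0, hk⟩ : ∃ k : F, k ≠ 0 ∧
            (B (w : V) z.1 * k⁻¹ + σ (B (w : V) z.1 * k⁻¹) = 0 ∧
              ∀ l : F, z.1 = l • w → σ (l * k⁻¹) = l * k⁻¹) := by
          by_cases hl : ∃ l : F, z.1 = l • w
          · obtain ⟨l, hl⟩ := hl
            have hl0 : l ≠ 0 := fun e => z.2.1 (by rw [hl, e, zero_smul])
            refine ⟨l, hl0, ?_, fun l' hl' => ?_⟩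
            · rw [hl, Submodule.coe_smul, smul_right, hww, mul_zero, zero_mul, map_zero, add_zero]
            · rw [← smul_left_injective F hw0 (hl.symm.trans hl'), mul_inv_cancel₀ hl0, map_one]
          · by_cases h0 : B (w : V) z.1 = 0
            · exact ⟨1, one_ne_zero, by rw [h0, zero_mul, map_zero, add_zero],
                fun l e => absurd ⟨l, e⟩ hl⟩
            · refine ⟨B (w : V) z.1 / θ, div_ne_zero h0 hθ0, ?_, fun l e => absurd ⟨l, e⟩ hl⟩
              rw [show B (w : V) z.1 * (B (w : V) z.1 / θ)⁻¹ = θ by field_simp]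
              exact hθ
        obtain ⟨g, e⟩ := exists_map_scalar hH' hrW (x := w) (z := z.1) hw0 z.2.1 hww z.2.2 hk0
          hk.1 hk.2
        exact ⟨_, P.smul_mem_Imgs h _ g, k, ap g w, ⟨w, hw, rfl⟩, e.symm⟩
      · rintro U ⟨g, α, hg, hα, rfl⟩
        rw [← hF1]
        have key : ∀ z : {z : {z : P.W h // z ≠ 0 ∧ IsHerm.restrict B (P.W h) z z = 0} //
            ∃ l : F, ∃ u ∈ hg.map '' (s : Set (P.W h)), z.1 = l • u},
            ∃ l : {l : F // l ≠ 0}, z.1.1 = (l : F) • hg.map w := by
          rintro ⟨z, l, _, ⟨u, hu, rfl⟩, e⟩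
          obtain ⟨m, rfl⟩ := hdep u hu
          rw [map_smul, smul_smul] at e
          exact ⟨⟨l * m, fun e0 => z.2.1 (by rw [e, e0, zero_smul])⟩, e⟩
        choose f hf using key
        exact Nat.card_le_card_of_injective f fun a b e => Subtype.ext (Subtype.ext (by
          rw [hf a, hf b, e]))
    rcases hS2.lt_or_eq with hlt | hS
    · refine (bad ?_).elim
      refine Nat.le_of_mul_le_mul_left ?_ (show 0 < 2 by norm_num)
      calc 2 * (M * S) = M * (2 * S) := by ring
        _ ≤ 2 * ((q + 1) * q ^ 3) * q ^ 2 := Nat.mul_le_mul M4 (hhalf hlt)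
        _ = 2 * ((q + 1) * q ^ 5) := by ring
        _ ≤ _ := Nat.mul_le_mul_left _ (Nat.mul_le_mul_right _ hLq)
    refine ⟨hS, hLq, Or.inl ⟨w, hw0, hww, fun z => ⟨hdep z, ?_⟩⟩⟩
    rintro ⟨l, rfl⟩
    choose f hf using hdep
    have hfb : Function.Bijective (fun z : s => f z.1 z.2) := by
      have : Fintype F := Fintype.ofFinite F
      have : Fintype s := Fintype.ofFinite s
      rw [Fintype.bijective_iff_injective_and_card]
      refine ⟨fun a b e => Subtype.ext ?_, ?_⟩
      · have e' : f a.1 a.2 = f b.1 b.2 := e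
        rw [hf a.1 a.2, hf b.1 b.2, e']
      · rw [← Nat.card_eq_fintype_card, ← Nat.card_eq_fintype_card, h.invol.card_sq]
        exact hS
    obtain ⟨z, hz⟩ := hfb.2 l
    have hz' : f z.1 z.2 = l := hz
    rw [← hz', ← hf z.1 z.2]
    exact z.2
  push Not at hdep
  obtain ⟨y, hy, hyw⟩ := hdep
  have hyy := haniso y hy
  have hpair : ∀ a ∈ s, ∀ b ∈ s, B (a : V) b + σ (B (a : V) b) = 0 := fun a ha b hb => by
    have e := hnorm a b
    rw [haniso _ (s.add_mem ha hb), haniso a ha, haniso b hb] at e
    rw [h.symm]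
    linear_combination -e
  have hβ : B (w : V) y ≠ 0 := by
    intro e
    obtain ⟨f, hwf, hff⟩ := hH'.exists_isotropic_partner hw0 hww
    have hspan : Submodule.span F ({w, f} : Set (P.W h)) = ⊤ :=
      Submodule.eq_top_of_finrank_eq (by
        rw [hH'.pair_finrank (hH'.hyperbolic_disc (u := w) hww hwf), hrW])
    obtain ⟨a, b, hab⟩ := Submodule.mem_span_pair.1 (hspan ▸ Submodule.mem_top : y ∈ _)
    rw [← hab, Submodule.coe_add, Submodule.coe_smul, Submodule.coe_smul, map_add, smul_right,
      smul_right, hww, show B (w : V) f = 1 from hwf, mul_zero, zero_add, mul_one] at e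
    exact hyw a (by rw [← hab, e, zero_smul, add_zero])
  by_cases h2 : (2 : F) = 0
  · -- characteristic two
    have hcov := (hscalar h2 w hw hw0 hww).trans (Nat.mul_le_mul_left L hisocard)
    rcases hS2.lt_or_eq with hlt | hS
    · exact (badsq _ (hcov.trans (Nat.mul_le_mul_left _ (Nat.sub_le _ _))) hlt M3).elim
    refine ⟨hS, ?_, Or.inr ⟨h2, haniso, w, hw, y, hy, hβ⟩⟩
    rw [hS] at hcov
    refine Nat.le_of_mul_le_mul_right ?_ (show 0 < q ^ 2 - 1 by
      have := Nat.pow_le_pow_left hq2 2
      omega)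
    rwa [mul_comm (q + 1)]
  · -- odd characteristic
    exfalso
    set β := B (w : V) y with hβdef
    have hσβ : σ β = -β := eq_neg_of_add_eq_zero_right (hpair w hw y hy)
    -- coordinates
    have hco : ∀ z ∈ s, ∃ a b : fixedSub σ, z = (a : F) • w + (b : F) • y := by
      intro z hz
      have hspan : Submodule.span F ({w, y} : Set (P.W h)) = ⊤ := by
        refine Submodule.eq_top_of_finrank_eq ?_
        have hli : LinearIndependent F ![w, y] := by
          rw [LinearIndependent.pair_iff' hw0]
          exact fun a e => hyw a e.symm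
        have := finrank_span_eq_card hli
        rw [Matrix.range_cons_cons_empty, Fintype.card_fin] at this
        rw [this, hrW]
      obtain ⟨a, b, rfl⟩ := Submodule.mem_span_pair.1 (hspan ▸ Submodule.mem_top : z ∈ _)
      have hσb : σ b = b := by
        have := hpair w hw _ hz
        rw [Submodule.coe_add, Submodule.coe_smul, Submodule.coe_smul, map_add, smul_right,
          smul_right, hww, mul_zero, zero_add, map_mul, ← hβdef, hσβ] at this
        exact sub_eq_zero.1 ((mul_eq_zero.1 (show β * (σ b - b) = 0 by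
          linear_combination -this)).resolve_left hβ)
      have hσa : σ a = a := by
        have := hpair y hy _ hz
        rw [Submodule.coe_add, Submodule.coe_smul, Submodule.coe_smul, map_add, smul_right,
          smul_right, hyy, mul_zero, add_zero, map_mul, ← h.symm (w : V) y, h.invol.invol,
          ← hβdef, hσβ] at this
        exact sub_eq_zero.1 ((mul_eq_zero.1 (show β * (σ a - a) = 0 by
          linear_combination this)).resolve_left hβ)
      exact ⟨⟨a, hσa⟩, ⟨b, hσb⟩, rfl⟩
    -- the commutators force a small subgroup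
    have hSq : S ≤ q := by
      have : Fact p.Prime := ⟨(CharP.char_is_prime_or_zero F p).resolve_right
        (CharP.char_ne_zero_of_finite F p)⟩
      have hpF : ∀ z : F, p • z = 0 := fun z => by rw [nsmul_eq_mul, CharP.cast_eq_zero, zero_mul]
      let K : AddSubgroup (fixedSub σ) :=
        { carrier := {a | ((a : F) • w : P.W h) ∈ s}
          add_mem' := fun {a b} ha hb => by
            show (((a + b : fixedSub σ) : F) • w : P.W h) ∈ s
            rw [Subfield.coe_add, add_smul]; exact s.add_mem ha hb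
          zero_mem' := by
            show (((0 : fixedSub σ) : F) • w : P.W h) ∈ s
            rw [Subfield.coe_zero, zero_smul]; exact s.zero_mem
          neg_mem' := fun {a} ha => by
            show (((-a : fixedSub σ) : F) • w : P.W h) ∈ s
            rw [Subfield.coe_neg, neg_smul]; exact s.neg_mem ha }
      let A' : AddSubgroup (skew σ) := (P.A h x).addSubgroupOf (skew σ)
      let mk : skew σ →+ skew σ ⧸ A' := QuotientAddGroup.mk' A'
      have : Module (ZMod p) (skew σ ⧸ A') := AddCommGroup.zmodModule fun z => by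
        induction z using QuotientAddGroup.induction_on with
        | _ y =>
          rw [← QuotientAddGroup.mk_nsmul, show p • y = 0 from Subtype.ext (hpF y)]
          exact QuotientAddGroup.mk_zero A'
      obtain ⟨φ, hφ⟩ : ∃ φ : (skew σ ⧸ A') →ₗ[ZMod p] ZMod p, φ (mk ⟨c₀, hc₀⟩) ≠ 0 := by
        by_contra hc
        push Not at hc
        have := (Module.forall_dual_apply_eq_zero_iff (ZMod p) _).1 hc
        exact skew_not_top h P hm
          (AddSubgroup.mem_addSubgroupOf.1 ((QuotientAddGroup.eq_zero_iff _).1 this))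
      have h2β : ∀ a : fixedSub σ, (a : F) * (2 * β) ∈ skew σ := fun a => by
        rw [mem_skew, map_mul, map_mul, map_ofNat, hσβ, show σ (a : F) = a from a.2]; ring
      let G : fixedSub σ →+ ZMod p := AddMonoidHom.mk' (fun a => φ (mk ⟨_, h2β a⟩)) fun a b => by
        rw [← map_add, ← map_add]
        congr 2
        exact Subtype.ext (by
          show ((a + b : fixedSub σ) : F) * (2 * β) = (a : F) * (2 * β) + (b : F) * (2 * β)
          rw [Subfield.coe_add]; ring)
      obtain ⟨e₀, he₀⟩ : ∃ e₀, G e₀ ≠ 0 := by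
        have h2β0 : 2 * β ≠ 0 := mul_ne_zero h2 hβ
        refine ⟨⟨c₀ / (2 * β), ?_⟩, fun e => hφ (Eq.trans ?_ e)⟩
        · show σ (c₀ / (2 * β)) = c₀ / (2 * β)
          rw [map_div₀, map_mul, map_ofNat, hσβ, eq_neg_of_add_eq_zero_right hc₀, mul_neg,
            neg_div_neg_eq]
        · show φ (mk _) = φ (mk _)
          congr 2
          exact Subtype.ext (div_mul_cancel₀ _ h2β0).symm
      have : Module (ZMod p) (fixedSub σ ⧸ K) := AddCommGroup.zmodModule fun z => by
        induction z using QuotientAddGroup.induction_on with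
        | _ y => rw [← QuotientAddGroup.mk_nsmul, show p • y = 0 from Subtype.ext (hpF y),
            QuotientAddGroup.mk_zero]
      choose ca cb hcab using hco
      -- the second coordinate of a member
      let J : Set (fixedSub σ) := Set.range fun z : s => cb z.1 z.2
      have hkill : ∀ b ∈ J, ∀ k ∈ K, G (k * b) = 0 := by
        rintro _ ⟨⟨z, hz⟩, rfl⟩ k hk
        have h1 := hcomm _ (hk : ((k : F) • w : P.W h) ∈ s) z hz
        have e : B (z : V) ((k : F) • w : P.W h) - B (((k : F) • w : P.W h) : V) z =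
            -(((k * cb z hz : fixedSub σ) : F) * (2 * β)) := by
          conv_lhs => rw [hcab z hz]
          simp only [Submodule.coe_add, Submodule.coe_smul, map_add, LinearMap.add_apply, smul_left,
            smul_right, hww, ← h.symm (w : V) y, ← hβdef, hσβ, Subfield.coe_mul,
            show σ (cb z hz : F) = cb z hz from (cb z hz).2, show σ (k : F) = k from k.2]
          ring
        rw [e] at h1
        show φ (mk _) = 0
        rw [(QuotientAddGroup.eq_zero_iff _).2 (AddSubgroup.mem_addSubgroupOf.2 (by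
          simpa using (P.A h x).neg_mem h1) :
            (⟨_, h2β (k * cb z hz)⟩ : skew σ) ∈ A') |> (show mk ⟨_, h2β _⟩ = 0 from ·), map_zero]
      let Φ : J → (fixedSub σ ⧸ K →+ ZMod p) := fun b =>
        QuotientAddGroup.lift K (G.comp (AddMonoidHom.mulRight (b : fixedSub σ)))
          fun k hk => by
            show G (k * b.1) = 0
            exact hkill b.1 b.2 k hk
      have hΦ : Function.Injective Φ := by
        intro a b e
        refine Subtype.ext (sub_eq_zero.1 ?_)
        by_contra hne
        have := DFunLike.congr_fun e (QuotientAddGroup.mk (e₀ / (a.1 - b.1)))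
        change G (e₀ / (a.1 - b.1) * a.1) = G (e₀ / (a.1 - b.1) * b.1) at this
        rw [← sub_eq_zero, ← map_sub, ← mul_sub, div_mul_cancel₀ _ hne] at this
        exact he₀ this
      have : Finite (fixedSub σ ⧸ K →+ ZMod p) := DFunLike.finite _
      have hJ : Nat.card J ≤ Nat.card (fixedSub σ ⧸ K) := by
        rw [← card_hom_zmod (p := p) (fixedSub σ ⧸ K)]
        exact Nat.card_le_card_of_injective Φ hΦ
      have hsec : ∀ b : J, ∃ z : s, cb z.1 z.2 = b := fun b => b.2
      choose sec hsec using hsec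
      have hmemK : ∀ z : s, (ca z.1 z.2 - ca (sec ⟨_, z, rfl⟩).1 (sec ⟨_, z, rfl⟩).2) ∈ K := by
        intro z
        show (((_ : fixedSub σ) : F) • w : P.W h) ∈ s
        have e2 := hsec ⟨_, z, rfl⟩
        have := s.sub_mem z.2 (sec ⟨_, z, rfl⟩).2
        rw [hcab z.1 z.2, hcab _ (sec ⟨_, z, rfl⟩).2, e2] at this
        rw [Subfield.coe_sub, sub_smul]
        simpa using this
      have h5 : S ≤ Nat.card (J × K) :=
        Nat.card_le_card_of_injective (fun z : s => ((⟨_, z, rfl⟩ : J), (⟨_, hmemK z⟩ : K)))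
          fun a b e => by
            obtain ⟨e1, e2⟩ := Prod.ext_iff.1 e
            have e1' : cb a.1 a.2 = cb b.1 b.2 := congrArg Subtype.val e1
            have e2' := congrArg Subtype.val e2
            simp only at e1 e2'
            rw [e1, sub_left_inj] at e2'
            exact Subtype.ext (by rw [hcab a.1 a.2, hcab b.1 b.2, e1', e2'])
      rw [Nat.card_prod] at h5
      refine h5.trans ((Nat.mul_le_mul_right _ hJ).trans (le_of_eq ?_))
      rw [← AddSubgroup.card_eq_card_quotient_mul_card_addSubgroup]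
    have hLq : q + 1 ≤ L := by
      let X := {ab : fixedSub σ × fixedSub σ // ab ≠ 0}
      have hX : Nat.card X = q ^ 2 - 1 := by
        have := Fintype.ofFinite (fixedSub σ × fixedSub σ)
        show Nat.card {ab : fixedSub σ × fixedSub σ // ab ≠ 0} = _
        rw [Nat.card_eq_fintype_card, Fintype.card_subtype_compl, Fintype.card_subtype_eq,
          ← Nat.card_eq_fintype_card, Nat.card_prod, ← pow_two]
      let pt : X → P.W h := fun ab => ((ab.1.1 : fixedSub σ) : F) • w + (ab.1.2 : F) • y
      have hpt : Function.Injective pt := by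
        rintro ⟨⟨a, b⟩, _⟩ ⟨⟨a', b'⟩, _⟩ e
        simp only [pt] at e
        have c1 := congrArg (fun z : P.W h => B (w : V) z) e
        have c2 := congrArg (fun z : P.W h => B (y : V) z) e
        simp only [Submodule.coe_add, Submodule.coe_smul, map_add, smul_right, hww, hyy, mul_zero,
          zero_add, add_zero, ← h.symm (w : V) y, ← hβdef] at c1 c2
        exact Subtype.ext (Prod.ext
          (Subtype.ext (mul_right_cancel₀ (fun e => hβ (IsInvol.apply_eq_zero_iff.1 e)) c2))
          (Subtype.ext (mul_right_cancel₀ hβ c1)))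
      refine Nat.le_of_mul_le_mul_right ?_ (show 0 < q - 1 by omega)
      calc (q + 1) * (q - 1) = q ^ 2 - 1 := by
            zify [show 1 ≤ q ^ 2 from Nat.one_le_pow _ _ (by omega), show 1 ≤ q by omega]; ring
        _ ≤ L * (S - 1) := by
          rw [← hX]
          refine card_le_Imgs (fun ab U => pt ab ∈ U) (fun ab => ?_) ?_
          · have hz0 : pt ab ≠ 0 := fun e => ab.2 (by
              have c1 := congrArg (fun z : P.W h => B (w : V) z) e
              have c2 := congrArg (fun z : P.W h => B (y : V) z) e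
              simp [pt, smul_right, hww, hyy, ← h.symm (w : V) y, ← hβdef, hβ] at c1 c2
              exact Prod.ext c2 c1)
            have hzz : B (pt ab : V) (pt ab) = 0 := by
              simp [pt, smul_left, smul_right, hww, hyy, ← h.symm (w : V) y, ← hβdef, hσβ,
                show σ (ab.1.1 : F) = ab.1.1 from ab.1.1.2,
                show σ (ab.1.2 : F) = ab.1.2 from ab.1.2.2]
              ring
            obtain ⟨g, e⟩ := exists_map_scalar hH' hrW (x := w) (z := pt ab) hw0 hz0 hww hzz
              (k := 1) one_ne_zero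
              (by
                show B (w : V) (pt ab) * 1⁻¹ + σ (B (w : V) (pt ab) * 1⁻¹) = 0
                simp [pt, smul_right, hww, ← hβdef, hσβ,
                  show σ (ab.1.2 : F) = ab.1.2 from ab.1.2.2])
              (fun l hl => by
                rw [inv_one, mul_one]
                have c2 := congrArg (fun z : P.W h => B (y : V) z) hl
                simp only [pt, Submodule.coe_add, Submodule.coe_smul, map_add, smul_right, hyy,
                  mul_zero, add_zero, ← h.symm (w : V) y, ← hβdef] at c2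
                rw [← mul_right_cancel₀ (fun e => hβ (IsInvol.apply_eq_zero_iff.1 e)) c2]
                exact ab.1.1.2)
            rw [one_smul] at e
            exact ⟨_, P.smul_mem_Imgs h _ g, w, hw, e⟩
          · rintro U ⟨g, α, hg, hα, rfl⟩
            refine le_trans ?_ hisocard
            have key : ∀ ab : {ab : X // pt ab ∈ hg.map '' (s : Set (P.W h))},
                ∃ u : {z : P.W h // z ∈ s ∧ z ≠ 0 ∧ B (z : V) z = 0}, hg.map u.1 = pt ab.1 := by
              rintro ⟨ab, u, hu, e⟩
              refine ⟨⟨u, hu, fun e0 => ?_, haniso u hu⟩, e⟩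
              have e' : pt ab = 0 := by rw [← e, e0, map_zero]
              apply ab.2
              have c1 := congrArg (fun z : P.W h => B (w : V) z) e'
              have c2 := congrArg (fun z : P.W h => B (y : V) z) e'
              simp [pt, smul_right, hww, hyy, ← h.symm (w : V) y, ← hβdef, hβ] at c1 c2
              exact Prod.ext c2 c1
            choose f hf using key
            exact Nat.card_le_card_of_injective f fun a b e => Subtype.ext (hpt (by
              rw [← hf a, ← hf b, e]))
        _ ≤ L * (q - 1) := Nat.mul_le_mul_left _ (by omega)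
    refine bad ?_
    calc M * S ≤ (q + 1) * q ^ 4 * q := Nat.mul_le_mul M6 hSq
      _ = (q + 1) * q ^ 5 := by ring
      _ ≤ _ := Nat.mul_le_mul_right _ hLq

end HPair

end CfsgLib.LocalEvenB.MinIndexSU
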