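import Cfsg.Agent.Lib.LocalEvenB.MinIndexSU.Endgame
import Cfsg.Agent.Lib.LocalEvenB.MinIndexSU.Four

/-!
The minimal index of a proper subgroup of a special unitary group of even dimension at least six
over the field with `q ^ 2` elements, `q ≥ 3`.
-/

set_option autoImplicit false

namespace CfsgLib.LocalEvenB.MinIndexSU

open CfsgLib.Classical CfsgLib.Classical.Herm

variable {F : Type*} [Field F] {σ : F →+* F} [Finite F]

/-- The lower bound, in even dimension `2 k + 6`. -/
theorem le_index_even (hq : 3 ≤ Nat.card (fixedSub σ)) (k : ℕ) :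
    ∀ {V : Type*} [AddCommGroup V] [Module F V] [FiniteDimensional F V]
      {B : V →ₛₗ[σ] V →ₗ[F] F}, IsHerm B → Module.finrank F V = 2 * k + 6 →
      ∀ H : Subgroup (HSU B), H ≠ ⊤ → Pn (Nat.card (fixedSub σ)) (2 * k + 6) ≤ H.index := by
  induction k with
  | zero =>
    intro V _ _ _ B h hd H hH
    exact le_index h (d := 4) hd (by norm_num) hq
      (fun P => amp_four (h.restrict_herm (h.orth_nondeg (P.nondeg h))) (P.finrank_W h hd)) hH
  | succ k ih =>
    intro V _ _ _ B h hd H hH
    have : Finite V := Module.finite_of_finite F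
    have hd' : Module.finrank F V = (2 * k + 6) + 2 := by omega
    rw [show 2 * (k + 1) + 6 = (2 * k + 6) + 2 by ring]
    refine le_index h hd' (by omega) hq (fun P => ?_) hH
    have hherm := h.restrict_herm (h.orth_nondeg (P.nondeg h))
    exact amp_of_index hherm (P.finrank_W h hd') (by omega) (Pn_bound' (by omega) (by omega))
      (two_mul_pow_le_Pn hq (by omega)) (ih hherm (P.finrank_W h hd'))

/-- The stabiliser of an isotropic point has the index of their number. -/
theorem exists_index {V : Type*} [AddCommGroup V] [Module F V] [FiniteDimensional F V]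
    {B : V →ₛₗ[σ] V →ₗ[F] F} (h : IsHerm B) {m : ℕ} (hn : Module.finrank F V = m + 2)
    (hm : 1 ≤ m) :
    ∃ H : Subgroup (HSU B),
      Subgroup.center (HSU B) ≤ H ∧ H.index = Pn (Nat.card (fixedSub σ)) (m + 2) := by
  classical
  have : Finite V := Module.finite_of_finite F
  have := finite_HSU (B := B)
  have hpre := h.isPreprimitive (V := V) (by omega)
  have : MulAction.IsPretransitive (HSU B) (isoPts B) := hpre.toIsPretransitive
  obtain ⟨u, hu, huu⟩ := h.exists_isotropic (by omega)
  refine ⟨MulAction.stabilizer (HSU B) (isoPoint hu huu), fun z hz => ?_, ?_⟩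
  · obtain ⟨a, ha⟩ := (h.mem_center_HSU_iff (by omega)).1 hz
    have ha0 : a • u ≠ 0 := by
      rw [← show ((z : HU B) : V ≃ₗ[F] V) u = a • u from ha u]
      simpa using hu
    have hau : B (a • u) (a • u) = 0 := by rw [IsHerm.smul_self, huu, mul_zero]
    rw [MulAction.mem_stabilizer_iff, smul_isoPoint hu huu ha0 hau (ha u)]
    exact (isoPoint_eq_iff _ _ _ _).2 ⟨a, rfl⟩
  · have : Fintype F := Fintype.ofFinite F
    rw [MulAction.index_stabilizer_of_transitive, Pn]
    set q := Nat.card (fixedSub σ) with hq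
    have hq2 : 2 ≤ q := IsInvol.card_ge_two (σ := σ)
    have h4 : 2 ^ 2 ≤ q ^ 2 := Nat.pow_le_pow_left hq2 2
    refine (Nat.div_eq_of_eq_mul_left (by omega) ?_).symm
    rw [show m + 2 - 1 = m + 1 by omega, show m + 2 - 2 = m by omega,
      ← h.card_isotropic_ne_zero hn]
    have hR : Nat.card {a : F // a ≠ 0} = q ^ 2 - 1 := by
      rw [hq, ← h.invol.card_sq, Nat.card_eq_fintype_card, Nat.card_eq_fintype_card,
        Fintype.card_subtype_compl, Fintype.card_subtype_eq]
    rw [← hR, ← Nat.card_prod]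
    refine (Nat.card_congr (Equiv.ofBijective
      (fun p : isoPts B × {a : F // a ≠ 0} => (⟨(p.2 : F) • p.1.1.rep,
        smul_ne_zero p.2.2 p.1.1.rep_nonzero, by
          rw [IsHerm.smul_self, show B p.1.1.rep p.1.1.rep = 0 from p.1.2, mul_zero]⟩ :
        {u : V // u ≠ 0 ∧ B u u = 0})) ⟨?_, ?_⟩)).symm
    · rintro ⟨p, a, ha⟩ ⟨r, b, hb⟩ e
      have e' : a • p.1.rep = b • r.1.rep := congrArg Subtype.val e
      have hpr : p = r := by
        refine Subtype.ext ?_
        rw [← p.1.mk_rep, ← r.1.mk_rep]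
        exact (Projectivization.mk_eq_mk_iff' F _ _ _ _).2
          ⟨a⁻¹ * b, by rw [mul_smul, ← e', inv_smul_smul₀ ha]⟩
      subst hpr
      exact Prod.ext rfl (Subtype.ext (smul_left_injective F p.1.rep_nonzero e'))
    · rintro ⟨x, hx, hxx⟩
      obtain ⟨a, ha⟩ := Projectivization.exists_smul_eq_mk_rep F x hx
      refine ⟨(isoPoint hx hxx, ⟨((a⁻¹ : Fˣ) : F), Units.ne_zero _⟩), Subtype.ext ?_⟩
      show ((a⁻¹ : Fˣ) : F) • (Projectivization.mk F x hx).rep = x
      rw [← ha, ← Units.smul_def, inv_smul_smul]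

end CfsgLib.LocalEvenB.MinIndexSU
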