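import Cfsg.Agent.Lib.LocalEvenB.MinIndexSU.Pair
import Cfsg.Agent.Lib.LocalEvenB.MinIndexSU.Four

/-!
Small additive subgroups of a three-dimensional unitary space have long orbits.
-/

set_option autoImplicit false

namespace CfsgLib.LocalEvenB.MinIndexSU

open CfsgLib.Classical CfsgLib.Classical.Herm
open scoped Pointwise

theorem num_three_line {q : ℕ} (hq : 2 ≤ q) :
    (q ^ 2 + 1) * (q ^ 5 + 1) * q ^ 2 * q ^ 2 ≤ (q ^ 2 - 1) * (q ^ 3 + 1) * q ^ 7 := by
  obtain ⟨r, rfl⟩ : ∃ r, q = r + 2 := ⟨q - 2, by omega⟩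
  rw [sub_one_two]; ring_nf; omega

theorem num_three_big {q : ℕ} (hq : 2 ≤ q) :
    (q ^ 2 + 1) * (q ^ 5 + 1) * q ^ 3 ≤ (q ^ 3 + q + 1) * q ^ 7 := by
  obtain ⟨r, rfl⟩ : ∃ r, q = r + 2 := ⟨q - 2, by omega⟩
  ring_nf; omega

theorem Pn_five {q : ℕ} (hq : 2 ≤ q) : Pn q 5 = (q ^ 2 + 1) * (q ^ 5 + 1) := by
  have h4 : 1 ≤ q ^ 4 := Nat.one_le_pow _ _ (by omega)
  have h2 : 2 ^ 2 ≤ q ^ 2 := Nat.pow_le_pow_left hq 2
  rw [Pn, ordFactor, ordFactor, if_pos (by decide), if_neg (by decide)]
  refine Nat.div_eq_of_eq_mul_left (by omega) ?_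
  norm_num
  zify [show 1 ≤ q ^ 2 by omega, h4]
  ring

/-- The arithmetic of an orbit of length just above a cube. -/
theorem orbit_length_one {q e n : ℕ} (hq : 2 ≤ q) (he : e ≤ q) (hn0 : 0 < n) (hn : n < q ^ 3)
    (h : q ^ 2 * (q ^ 3 + 1) ∣ (q ^ 3 + e) * n) : e = 1 := by
  have hcop : Nat.Coprime (q ^ 2) (q ^ 3 + 1) := by
    refine Nat.Coprime.pow_left 2 ?_
    rw [show q ^ 3 + 1 = 1 + q ^ 2 * q by ring, Nat.coprime_add_mul_right_right]
    exact Nat.coprime_one_right q
  have h1 : q ^ 2 ∣ e * n := by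
    have h2 := dvd_trans (dvd_mul_right _ _) h
    rw [add_mul] at h2
    exact (Nat.dvd_add_right (Dvd.dvd.mul_right ⟨q, by ring⟩ n)).1 h2
  have h3 := dvd_trans (dvd_mul_left _ _) h
  rcases Nat.eq_zero_or_pos e with he0 | he0
  · exfalso
    rw [he0, add_zero] at h3
    have h4 : q ^ 3 + 1 ∣ n := by
      refine (Nat.Coprime.dvd_of_dvd_mul_left ?_ h3)
      rw [Nat.coprime_comm]
      exact Nat.coprime_self_add_right.2 (Nat.coprime_one_right _)
    have := Nat.le_of_dvd hn0 h4
    omega
  obtain ⟨e', rfl⟩ : ∃ e', e = e' + 1 := ⟨e - 1, by omega⟩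
  rcases Nat.eq_zero_or_pos e' with rfl | he'
  · rfl
  exfalso
  have h5 : q ^ 3 + 1 ∣ e' * n := by
    rw [show q ^ 3 + (e' + 1) = (q ^ 3 + 1) + e' by ring, add_mul] at h3
    exact (Nat.dvd_add_right (dvd_mul_right _ n)).1 h3
  have h6 : q ^ 2 * (q ^ 3 + 1) ∣ (e' + 1) * e' * n :=
    hcop.mul_dvd_of_dvd_of_dvd (h1.trans ⟨e', by ring⟩) (h5.trans ⟨e' + 1, by ring⟩)
  have h7 := Nat.le_of_dvd (Nat.mul_pos (Nat.mul_pos (by omega) he') hn0) h6
  have h8 : (e' + 1) * e' * n ≤ q ^ 2 * q ^ 3 := by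
    refine Nat.mul_le_mul ?_ hn.le
    rw [pow_two]; exact Nat.mul_le_mul he (by omega)
  have h9 : 0 < q ^ 2 := pow_pos (by omega) _
  rw [mul_add, mul_one] at h7
  omega

theorem card_ne_zero (X : Type*) [Zero X] [Finite X] :
    Nat.card {x : X // x ≠ 0} = Nat.card X - 1 := by
  classical
  have := Fintype.ofFinite X
  rw [Nat.card_eq_fintype_card, Nat.card_eq_fintype_card, Fintype.card_subtype_compl,
    Fintype.card_subtype_eq]

variable {F : Type*} [Field F] {V : Type*} [AddCommGroup V] [Module F V] {σ : F →+* F}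
  {B : V →ₛₗ[σ] V →ₗ[F] F}

theorem card_orbit_mul_inter [Finite V] (s : AddSubgroup V) (w : V) :
    (MulAction.orbit (HSU B) w).ncard *
        Nat.card {t : MulAction.orbit (HSU B) (s : Set V) // w ∈ (t : Set V)} =
      (MulAction.orbit (HSU B) (s : Set V)).ncard *
        Nat.card {x : MulAction.orbit (HSU B) w // (x : V) ∈ s} := by
  classical
  rw [← Nat.card_coe_set_eq, ← Nat.card_coe_set_eq]
  set 𝒪 := MulAction.orbit (HSU B) (s : Set V)
  set X := MulAction.orbit (HSU B) w
  have : Finite (Set V) := inferInstance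
  have : Fintype X := Fintype.ofFinite _
  have : Fintype 𝒪 := Fintype.ofFinite _
  have e1 : ∀ x : X, Nat.card {t : 𝒪 // (x : V) ∈ (t : Set V)} =
      Nat.card {t : 𝒪 // w ∈ (t : Set V)} := by
    rintro ⟨_, g, rfl⟩
    refine (Nat.card_congr ((MulAction.toPerm g : Equiv.Perm 𝒪).subtypeEquiv fun t => ?_)).symm
    exact (smul_mem_iff g w _).symm
  have e2 : ∀ t : 𝒪, Nat.card {x : X // (x : V) ∈ (t : Set V)} =
      Nat.card {x : X // (x : V) ∈ s} := by
    rintro ⟨_, g, rfl⟩
    refine (Nat.card_congr ((MulAction.toPerm g : Equiv.Perm X).subtypeEquiv fun x => ?_)).symm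
    exact (smul_mem_iff g (x : V) _).symm
  have h1 : Nat.card ((x : X) × {t : 𝒪 // (x : V) ∈ (t : Set V)}) =
      Nat.card ((t : 𝒪) × {x : X // (x : V) ∈ (t : Set V)}) :=
    Nat.card_congr { toFun := fun p => ⟨p.2.1, p.1, p.2.2⟩
                     invFun := fun p => ⟨p.2.1, p.1, p.2.2⟩
                     left_inv := fun _ => rfl
                     right_inv := fun _ => rfl }
  rwa [Nat.card_sigma, Nat.card_sigma, Finset.sum_congr rfl fun x _ => e1 x, Finset.sum_const,
    Finset.sum_congr rfl fun t _ => e2 t, Finset.sum_const, Finset.card_univ, Finset.card_univ,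
    smul_eq_mul, smul_eq_mul, ← Nat.card_eq_fintype_card, ← Nat.card_eq_fintype_card] at h1

variable (h : IsHerm B) [Finite F] [FiniteDimensional F V]
include h

theorem card_le_of_span_singleton [Finite V] (s : AddSubgroup V) {w : V}
    (hs : ∀ x ∈ s, x ∈ Submodule.span F ({w} : Set V)) :
    Nat.card s ≤ Nat.card (fixedSub σ) ^ 2 := by
  rw [← h.invol.card_sq (F := F)]
  refine le_trans (Nat.card_le_card_of_injective
    (fun x : s => (⟨(x : V), hs x x.2⟩ : Submodule.span F ({w} : Set V)))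
    fun a b e => Subtype.ext (congrArg (fun z : Submodule.span F ({w} : Set V) => (z : V)) e))
    ?_
  rw [Module.natCard_eq_pow_finrank (K := F)]
  refine (Nat.pow_le_pow_right Nat.card_pos ?_).trans (pow_one _).le
  have := finrank_span_le_card (R := F) ({w} : Set V)
  simpa using this

/-- A subgroup of more than `q ^ 2` elements has an anisotropic vector. -/
theorem exists_nonsing_mem (h3 : Module.finrank F V = 3) (s : AddSubgroup V)
    (hs : Nat.card (fixedSub σ) ^ 2 < Nat.card s) : ∃ z ∈ s, B z z ≠ 0 := by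
  have : Finite V := Module.finite_of_finite F
  by_contra hc
  push Not at hc
  have hskew : ∀ a ∈ s, ∀ b ∈ s, B a b + σ (B a b) = 0 := fun a ha b hb => by
    have := hc _ (s.add_mem ha hb)
    simp only [map_add, LinearMap.add_apply, hc a ha, hc b hb, ← h.symm a b] at this
    linear_combination this
  obtain ⟨z₀, hz₀, hz₀0⟩ : ∃ z ∈ s, z ≠ 0 := by
    by_contra hz
    push Not at hz
    rw [(AddSubgroup.eq_bot_iff_forall s).2 hz, AddSubgroup.card_bot] at hs
    have : 2 ^ 2 ≤ Nat.card (fixedSub σ) ^ 2 :=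
      Nat.pow_le_pow_left (IsInvol.card_ge_two (σ := σ)) 2
    omega
  by_cases hp : ∀ a ∈ s, ∀ b ∈ s, B a b = 0
  · refine absurd (card_le_of_span_singleton h s (w := z₀) fun x hx => ?_) (Nat.not_le.2 hs)
    by_contra hx'
    have hli : LinearIndependent F ![z₀, x] := by
      rw [LinearIndependent.pair_iff' hz₀0]
      intro b hb
      exact hx' (Submodule.mem_span_singleton.2 ⟨b, hb⟩)
    have h1 := finrank_perp_pair h hli
    have h2 := finrank_span_eq_card hli
    rw [Matrix.range_cons_cons_empty, Fintype.card_fin] at h2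
    have h4 : Submodule.span F ({z₀, x} : Set V) ≤
        h.orth (Submodule.span F ({z₀, x} : Set V)) := by
      refine Submodule.span_le.2 ?_
      intro z hz
      rw [SetLike.mem_coe, h.mem_orth]
      intro w hw
      obtain ⟨r, t, rfl⟩ := Submodule.mem_span_pair.1 hw
      rcases hz with rfl | rfl <;>
        simp [smul_left, hp _ hz₀ _ hz₀, hp _ hz₀ _ hx, hp _ hx _ hx, hp _ hx _ hz₀]
    have := Submodule.finrank_mono h4
    omega
  push Not at hp
  obtain ⟨z, hz, z', hz', hne⟩ := hp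
  set c := B z z' with hcdef
  have hz'z : B z' z = -c := by
    rw [← h.symm z z', ← hcdef]; exact eq_neg_of_add_eq_zero_right (hskew _ hz _ hz')
  have hσc : σ c = -c := eq_neg_of_add_eq_zero_right (hskew _ hz _ hz')
  have hd : B z z * B z' z' - B z z' * σ (B z z') ≠ 0 := by
    rw [hc z hz, ← hcdef, hσc]
    simp [hne]
  have hnd := h.pair_nondeg hd
  have hr := h.finrank_orth hnd
  rw [h.pair_finrank hd] at hr
  have key : ∀ x : s, ∃ p : fixedSub σ × fixedSub σ, (x : V) = (p.1 : F) • z + (p.2 : F) • z' := by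
    rintro ⟨x, hx⟩
    have hα : σ (B z' x / -c) = B z' x / -c := by
      rw [map_div₀, map_neg, hσc, neg_neg, eq_neg_of_add_eq_zero_right (hskew _ hz' _ hx),
        neg_div, div_neg]
    have hβ : σ (B z x / c) = B z x / c := by
      rw [map_div₀, hσc, eq_neg_of_add_eq_zero_right (hskew _ hz _ hx), neg_div_neg_eq]
    refine ⟨(⟨_, hα⟩, ⟨_, hβ⟩), ?_⟩
    show x = (B z' x / -c) • z + (B z x / c) • z'
    set a := B z' x / -c
    set b := B z x / c
    set y := x - (a • z + b • z') with hy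
    have hyo : y ∈ h.orth (Submodule.span F ({z, z'} : Set V)) := by
      rw [h.mem_orth]
      intro w hw
      obtain ⟨r, t, rfl⟩ := Submodule.mem_span_pair.1 hw
      have e1 : B z y = 0 := by
        simp only [hy, map_sub, map_add, smul_right, hc z hz, ← hcdef, b]
        rw [mul_zero, zero_add, div_mul_cancel₀ _ hne, sub_self]
      have e2 : B z' y = 0 := by
        simp only [hy, map_sub, map_add, smul_right, hc z' hz', hz'z, a]
        rw [mul_zero, add_zero, div_mul_cancel₀ _ (neg_ne_zero.2 hne), sub_self]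
      rw [add_left, smul_left, smul_left, e1, e2, mul_zero, mul_zero, add_zero]
    have hyy : B y y = 0 := by
      have e3 : B (a • z + b • z') y = 0 :=
        h.mem_orth.1 hyo _ (Submodule.mem_span_pair.2 ⟨a, b, rfl⟩)
      have e4 : x = (a • z + b • z') + y := by rw [hy]; abel
      have e5 := hc x hx
      rw [e4, h.add_self_of_perp e3] at e5
      have e6 : B (a • z + b • z') (a • z + b • z') = 0 := by
        simp only [map_add, LinearMap.add_apply, smul_left, smul_right, hc z hz, hc z' hz',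
          ← hcdef, hz'z, hα, hβ]
        ring
      rwa [e6, zero_add] at e5
    by_contra hxne
    have hy0 : y ≠ 0 := fun e0 => hxne (sub_eq_zero.1 e0)
    refine hy0 (h.orth_nondeg hnd y hyo fun u hu => ?_)
    have h1 : Module.finrank F (h.orth (Submodule.span F ({z, z'} : Set V))) = 1 := by
      change 2 + _ = _ at hr
      omega
    obtain ⟨r, hr'⟩ := (finrank_eq_one_iff_of_nonzero'
      (⟨y, hyo⟩ : h.orth (Submodule.span F ({z, z'} : Set V)))
      (fun e0 => hy0 (congrArg Subtype.val e0))).1 h1 ⟨u, hu⟩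
    rw [show u = r • y from (congrArg Subtype.val hr').symm, smul_right, hyy, mul_zero]
  choose p hp using key
  have h5 := Nat.card_le_card_of_injective p fun a b e => Subtype.ext (by rw [hp a, hp b, e])
  rw [Nat.card_prod, ← pow_two] at h5
  exact absurd h5 (Nat.not_le.2 hs)

theorem amp_three (h3 : Module.finrank F V = 3) :
    Amp B 3 (Pn (Nat.card (fixedSub σ)) 5) := by
  classical
  have : Finite V := Module.finite_of_finite F
  have := finite_HSU (B := B)
  have : Finite (Set V) := inferInstance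
  intro s hs hcard
  set q := Nat.card (fixedSub σ) with hq
  have hq2 : 2 ≤ q := IsInvol.card_ge_two (σ := σ)
  rw [Pn_five hq2]
  set L := (MulAction.orbit (HSU B) (s : Set V)).ncard with hL
  set S := Nat.card s
  have hS : 0 < S := Nat.card_pos
  by_cases hsmall : S ≤ q ^ 2
  · obtain ⟨w, hw, hw0⟩ : ∃ w ∈ s, w ≠ 0 := by
      by_contra hc
      push Not at hc
      exact hs ((AddSubgroup.eq_bot_iff_forall s).2 hc)
    have h2 := card_orbit_le (B := B) s hw
    rw [orbit_eq_norm h (by omega) hw0] at h2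
    have h4 := (card_norm_three h h3 (h.self_fixed w)).trans h2
    refine Nat.le_of_mul_le_mul_right ?_ hS
    calc (q ^ 2 + 1) * (q ^ 5 + 1) * S * S
        ≤ (q ^ 2 + 1) * (q ^ 5 + 1) * q ^ 2 * q ^ 2 :=
          Nat.mul_le_mul (Nat.mul_le_mul_left _ hsmall) hsmall
      _ ≤ (q ^ 2 - 1) * (q ^ 3 + 1) * q ^ 7 := num_three_line hq2
      _ ≤ L * S * q ^ 7 := Nat.mul_le_mul_right _ h4
      _ = L * q ^ (2 * 3 + 1) * S := by ring
  push Not at hsmall
  by_cases hbig : q ^ 3 + q + 1 ≤ L
  · calc (q ^ 2 + 1) * (q ^ 5 + 1) * S ≤ (q ^ 2 + 1) * (q ^ 5 + 1) * q ^ 3 :=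
          Nat.mul_le_mul_left _ hcard
      _ ≤ (q ^ 3 + q + 1) * q ^ 7 := num_three_big hq2
      _ ≤ L * q ^ (2 * 3 + 1) := Nat.mul_le_mul_right _ hbig
  exfalso
  push Not at hbig
  obtain ⟨z₀, hz₀, hz₀z⟩ := exists_nonsing_mem h h3 s hsmall
  have hz₀0 : z₀ ≠ 0 := fun e => hz₀z (by rw [e, zero_left])
  -- an isotropic point neither meeting the subgroup nor orthogonal to it
  obtain ⟨x, hx0, hxx, hxs, hxp⟩ : ∃ x, x ≠ 0 ∧ B x x = 0 ∧ (∀ a : F, a • x ∈ s → a • x = 0) ∧
      ∃ z ∈ s, B x z ≠ 0 := by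
    obtain ⟨z₁, hz₁, hz₁n⟩ : ∃ z ∈ s, z ∉ Submodule.span F ({z₀} : Set V) := by
      by_contra hc
      push Not at hc
      have : S ≤ q ^ 2 := card_le_of_span_singleton h s hc
      omega
    have hli : LinearIndependent F ![z₀, z₁] := by
      rw [LinearIndependent.pair_iff' hz₀0]
      intro b hb
      exact hz₁n (Submodule.mem_span_singleton.2 ⟨b, hb⟩)
    by_contra hc
    push Not at hc
    set Oz := h.orth (Submodule.span F ({z₀, z₁} : Set V))
    let I := {u : V // u ≠ 0 ∧ B u u = 0}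
    let Sm := {z : s // (z : V) ≠ 0 ∧ (z : V) ≠ z₀ ∧ B (z : V) z = 0}
    have hmap : ∀ u : I,
        (∃ p : {a : F // a ≠ 0} × Sm, (u : V) = (p.1 : F) • ((p.2.1 : s) : V)) ∨
          ∃ o : {o : Oz // o ≠ 0}, (u : V) = ((o.1 : Oz) : V) := by
      rintro ⟨u, hu0, huu⟩
      by_cases h1 : ∀ a : F, a • u ∈ s → a • u = 0
      · refine Or.inr ⟨⟨⟨u, ?_⟩, fun e => hu0 (congrArg Subtype.val e)⟩, rfl⟩
        rw [h.mem_orth]
        intro w hw
        obtain ⟨r, t, rfl⟩ := Submodule.mem_span_pair.1 hw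
        have e1 := hc u hu0 huu h1
        rw [add_left, smul_left, smul_left, h.eq_zero_symm (e1 _ hz₀),
          h.eq_zero_symm (e1 _ hz₁), mul_zero, mul_zero, add_zero]
      · push Not at h1
        obtain ⟨a, ha, hau⟩ := h1
        have ha0 : a ≠ 0 := fun e => hau (by rw [e, zero_smul])
        refine Or.inl ⟨(⟨a⁻¹, inv_ne_zero ha0⟩, ⟨⟨a • u, ha⟩, hau, fun e => hz₀z ?_, ?_⟩), ?_⟩
        · rw [← e]
          show B (a • u) (a • u) = 0
          rw [IsHerm.smul_self, huu, mul_zero]
        · show B (a • u) (a • u) = 0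
          rw [IsHerm.smul_self, huu, mul_zero]
        · show u = a⁻¹ • a • u
          rw [inv_smul_smul₀ ha0]
    let ψ : I → ({a : F // a ≠ 0} × Sm) ⊕ {o : Oz // o ≠ 0} := fun u =>
      if hu : ∃ p : {a : F // a ≠ 0} × Sm, (u : V) = (p.1 : F) • ((p.2.1 : s) : V) then
        Sum.inl hu.choose else Sum.inr ((hmap u).resolve_left hu).choose
    have hψ : ∀ u : I, Sum.elim (fun p => (p.1 : F) • ((p.2.1 : s) : V))
        (fun o : {o : Oz // o ≠ 0} => ((o.1 : Oz) : V)) (ψ u) = (u : V) := by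
      intro u
      simp only [ψ]
      split_ifs with hu
      · exact hu.choose_spec.symm
      · exact ((hmap u).resolve_left hu).choose_spec.symm
    have h1 := Nat.card_le_card_of_injective ψ fun u u' e =>
      Subtype.ext (by rw [← hψ u, ← hψ u', e])
    rw [Nat.card_sum, Nat.card_prod, h.card_isotropic_ne_zero (m := 1) h3, card_ne_zero F, card_ne_zero Oz,
      h.invol.card_sq, Module.natCard_eq_pow_finrank (K := F) (V := Oz), h.invol.card_sq,
      ← hq] at h1
    have hr := finrank_perp_pair h hli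
    rw [show Module.finrank F Oz = 1 by
      show Module.finrank F (h.orth (Submodule.span F ({z₀, z₁} : Set V))) = 1
      omega, pow_one, ordFactor, ordFactor, if_pos (by decide), if_neg (by decide),
      show (1 : ℕ) + 1 = 2 from rfl, show (2 : ℕ) + 1 = 3 from rfl] at h1
    have h2 : Nat.card Sm + 2 ≤ S := by
      have : Nat.card (Sm ⊕ Bool) = Nat.card Sm + 2 := by simp [Nat.card_sum]
      rw [← this]
      refine Nat.card_le_card_of_injective
        (Sum.elim (fun z : Sm => z.1) (fun b => if b then (⟨z₀, hz₀⟩ : s) else 0)) ?_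
      rintro (z | b) (z' | b') e <;> simp only [Sum.elim_inl, Sum.elim_inr] at e
      · rw [Subtype.ext e]
      · exfalso
        cases b'
        · exact z.2.1 (congrArg Subtype.val e)
        · exact z.2.2.1 (congrArg Subtype.val e)
      · exfalso
        cases b
        · exact z'.2.1 (congrArg Subtype.val e).symm
        · exact z'.2.2.1 (congrArg Subtype.val e).symm
      · cases b <;> cases b' <;>
          first
          | rfl
          | (exfalso; exact hz₀0 (congrArg Subtype.val e))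
          | (exfalso; exact hz₀0 (congrArg Subtype.val e).symm)
    have h4 : (q ^ 2 - 1) * Nat.card Sm + (q ^ 2 - 1) ≤ (q ^ 2 - 1) * (q ^ 3 - 1) := by
      rw [← Nat.mul_succ]
      exact Nat.mul_le_mul_left _ (by omega)
    have h5 : 2 ^ 2 ≤ q ^ 2 := Nat.pow_le_pow_left hq2 2
    have h6 : (q ^ 2 - 1) * (q ^ 3 - 1) < (q ^ 2 - 1) * (q ^ 3 + 1) :=
      Nat.mul_lt_mul_of_pos_left (by omega) (by omega)
    rw [mul_comm] at h1
    omega
  obtain ⟨zb, hzb, hxzb⟩ := hxp
  obtain ⟨f, hxf, hff⟩ := h.exists_isotropic_partner hx0 hxx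
  let P : HPair B := ⟨x, f, hxx, hff, hxf⟩
  have hrW : Module.finrank F (P.W h) = 1 := P.finrank_W h (d := 1) h3
  have hWn : ∀ w : P.W h, w ≠ 0 → B (w : V) w ≠ 0 := fun w hw e => hw (by
    refine Subtype.ext (h.orth_nondeg (P.nondeg h) _ w.2 fun u hu => ?_)
    obtain ⟨r, hr⟩ := (finrank_eq_one_iff_of_nonzero' w hw).1 hrW ⟨u, hu⟩
    rw [show u = r • (w : V) from (congrArg Subtype.val hr).symm, smul_right, e, mul_zero])
  -- the Eichler group is semiregular on the given subgroup
  have hfree : ∀ u ∈ P.EU h, u • (s : Set V) = (s : Set V) → u = 1 := by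
    rintro _ ⟨w, a, rfl⟩ hu
    have hmove : ∀ z ∈ s, ap (P.El h w a) z - z ∈ s := fun z hz => s.sub_mem
      (by rw [← SetLike.mem_coe, ← hu]; exact Set.smul_mem_smul_set hz) hz
    set β := B x zb
    set γ := (a : F) * β - B (w : V) zb
    have e1 : ap (P.El h w a) zb - zb = β • (w : V) + γ • x := by
      rw [HPair.El_apply, add_assoc, add_sub_cancel_left]
    have h1 : β • (w : V) + γ • x ∈ s := e1 ▸ hmove zb hzb
    have e2 : ap (P.El h w a) (β • (w : V) + γ • x) - (β • (w : V) + γ • x) =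
        -(β * B (w : V) w) • x := by
      rw [map_add, LinearEquiv.map_smul, LinearEquiv.map_smul, P.El_W, show x = P.v from rfl,
        P.El_v]
      module
    have h2 : -(β * B (w : V) w) • x ∈ s := e2 ▸ hmove _ h1
    have hw : w = 0 := by
      by_contra hw
      have := hxs _ h2
      exact mul_ne_zero hxzb (hWn w hw) (neg_eq_zero.1 ((smul_eq_zero.1 this).resolve_right hx0))
    subst hw
    have ha : (a : F) = 0 := by
      have hγ : γ = (a : F) * β := by simp [γ]
      rw [ZeroMemClass.coe_zero, smul_zero, zero_add] at h1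
      have := (smul_eq_zero.1 (hxs _ h1)).resolve_right hx0
      rw [hγ, mul_eq_zero] at this
      exact this.resolve_right hxzb
    rw [← P.El_zero h]
    exact P.El_congr h _ _ rfl ha
  set O₁ := MulAction.orbit (P.EU h) (s : Set V) with hO₁
  have hO₁card : O₁.ncard = q ^ 3 := by
    have : Fintype (P.EU h) := Fintype.ofFinite _
    have : Fintype (MulAction.stabilizer (P.EU h) (s : Set V)) := Fintype.ofFinite _
    have : Fintype O₁ := Fintype.ofFinite _
    have h1 : Fintype.card O₁ * Fintype.card (MulAction.stabilizer (P.EU h) (s : Set V)) =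
        Fintype.card (P.EU h) :=
      MulAction.card_orbit_mul_card_stabilizer_eq_card_group (P.EU h) (s : Set V)
    rw [← Nat.card_eq_fintype_card, ← Nat.card_eq_fintype_card, ← Nat.card_eq_fintype_card,
      P.card_EU h (d := 1) h3, Nat.card_coe_set_eq] at h1
    have hbot : MulAction.stabilizer (P.EU h) (s : Set V) = ⊥ := by
      rw [Subgroup.eq_bot_iff_forall]
      intro u hu
      exact Subtype.ext (hfree u u.2 (MulAction.mem_stabilizer_iff.1 hu))
    rw [hbot, Subgroup.card_bot, mul_one] at h1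
    exact h1
  have hsub : O₁ ⊆ MulAction.orbit (HSU B) (s : Set V) := by
    rintro _ ⟨u, rfl⟩
    exact ⟨(u : HSU B), rfl⟩
  have hle : q ^ 3 ≤ L := hO₁card ▸ Set.ncard_le_ncard hsub (Set.toFinite _)
  obtain ⟨e, he⟩ : ∃ e, L = q ^ 3 + e := ⟨L - q ^ 3, by omega⟩
  -- the anisotropic vectors force the length
  have hcount := card_orbit_mul_inter (B := B) s z₀
  rw [orbit_eq_norm h (by omega) hz₀0,
    card_norm_ne_zero h (m := 2) h3 hz₀z (h.self_fixed z₀), ordFactor, if_pos (by decide),
    ← hq, ← hL, he] at hcount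
  set n := Nat.card {y : MulAction.orbit (HSU B) z₀ // (y : V) ∈ s}
  have hn0 : 0 < n := by
    have : Nonempty {y : MulAction.orbit (HSU B) z₀ // (y : V) ∈ s} :=
      ⟨⟨⟨z₀, MulAction.mem_orbit_self _⟩, hz₀⟩⟩
    exact Nat.card_pos
  have hn : n < q ^ 3 := by
    refine lt_of_lt_of_le ?_ hcard
    show n < Nat.card s
    have h1 : Nat.card (Option {y : MulAction.orbit (HSU B) z₀ // (y : V) ∈ s}) ≤ Nat.card s := by
      refine Nat.card_le_card_of_injective
        (fun o => o.elim 0 fun y => (⟨(y.1 : V), y.2⟩ : s)) ?_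
      have hne : ∀ y : {y : MulAction.orbit (HSU B) z₀ // (y : V) ∈ s}, (y.1 : V) ≠ 0 := by
        intro y e1
        obtain ⟨g, hg⟩ := y.1.2
        exact hz₀0 ((ap g).injective ((hg.trans e1).trans (map_zero (ap g)).symm))
      rintro (_ | y) (_ | y') e0
      · rfl
      · exact absurd (congrArg Subtype.val e0).symm (hne y')
      · exact absurd (congrArg Subtype.val e0) (hne y)
      · exact congrArg some (Subtype.ext (Subtype.ext (by simpa using congrArg Subtype.val e0)))
    rw [Finite.card_option] at h1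
    omega
  obtain rfl : e = 1 := orbit_length_one hq2 (by omega) hn0 hn ⟨_, hcount.symm⟩
  -- the member fixed by the Eichler group
  obtain ⟨t, ht⟩ := Set.ncard_eq_one.1 (show (MulAction.orbit (HSU B) (s : Set V) \ O₁).ncard = 1
    by rw [Set.ncard_sdiff hsub (Set.toFinite _), ← hL, hO₁card]; omega)
  have htmem : t ∈ MulAction.orbit (HSU B) (s : Set V) ∧ t ∉ O₁ := by
    have : t ∈ MulAction.orbit (HSU B) (s : Set V) \ O₁ := by rw [ht]; rfl
    exact this
  have huniq : ∀ m ∈ MulAction.orbit (HSU B) (s : Set V), m ∉ O₁ → m = t := fun m hm hm' => by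
    have : m ∈ MulAction.orbit (HSU B) (s : Set V) \ O₁ := ⟨hm, hm'⟩
    rw [ht] at this
    exact this
  obtain ⟨g₀, hg₀⟩ := htmem.1
  let t' : AddSubgroup V := s.map ((ap g₀).toLinearMap.toAddMonoidHom)
  have htt : (t' : Set V) = t := hg₀ ▸ rfl
  have hSt : Nat.card t' = S := by
    show Nat.card (t' : Set V) = _
    rw [htt]
    exact (exists_sub_of_mem_orbit htmem.1).2
  have hfixU : ∀ u ∈ P.EU h, u • t = t := fun u hu => huniq _
    (by obtain ⟨g, hg⟩ := htmem.1; exact ⟨u * g, by rw [← hg]; exact mul_smul u g _⟩)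
    (by
      rintro ⟨u', hu'⟩
      refine htmem.2 ⟨(⟨u, hu⟩ : P.EU h)⁻¹ * u', ?_⟩
      show ((⟨u, hu⟩ : P.EU h)⁻¹ * u') • (s : Set V) = t
      rw [mul_smul, inv_smul_eq_iff]
      exact hu')
  have hmove : ∀ u ∈ P.EU h, ∀ z ∈ t', ap u z - z ∈ t' := fun u hu z hz => t'.sub_mem
    (by rw [← SetLike.mem_coe, htt, ← hfixU u hu]
        exact Set.smul_mem_smul_set (htt ▸ hz)) hz
  choose sec hsec using fun w : P.W h =>
    h.invol.exists_trace_eq (μ := -B (w : V) w) (by rw [map_neg, h.self_fixed])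
  have hperp : ∀ z ∈ t', B x z = 0 := by
    intro z hz
    by_contra hβ
    set β := B x z
    have hval : ∀ (w : P.W h) (a : P.Par h w),
        ap (P.El h w a) z - z = β • (w : V) + ((a : F) * β - B (w : V) z) • x := fun w a => by
      rw [HPair.El_apply, add_assoc, add_sub_cancel_left]
    let par : (w : P.W h) → skew σ → P.Par h w := fun w c => ⟨sec w + (c : F), by
      have := mem_skew.1 c.2
      rw [map_add]; linear_combination hsec w + this⟩
    let ψ : Option (P.W h × skew σ) → t' := fun o =>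
      o.elim ⟨z, hz⟩ fun p => ⟨_, hmove _ ⟨p.1, par p.1 p.2, rfl⟩ z hz⟩
    have hψ : Function.Injective ψ := by
      have hne : ∀ p : P.W h × skew σ, ψ none ≠ ψ (some p) := fun p e0 => by
        have e1 : z = _ := (congrArg Subtype.val e0).trans (hval _ _)
        have e2 := congrArg (B x) e1
        rw [map_add, smul_right, smul_right, hxx, show B x (p.1 : V) = 0 from P.vw p.1,
          mul_zero, mul_zero, add_zero] at e2
        exact hβ e2
      rintro (_ | ⟨w, c⟩) (_ | ⟨w', c'⟩) e0
      · rfl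
      · exact absurd e0 (hne _)
      · exact absurd e0.symm (hne _)
      · have e1 := ((hval w (par w c)).symm.trans (congrArg Subtype.val e0)).trans
          (hval w' (par w' c'))
        have e2 := congrArg (B f) e1
        rw [map_add, map_add, smul_right, smul_right, smul_right, smul_right,
          show B f (w : V) = 0 from P.fw w, show B f (w' : V) = 0 from P.fw w',
          show B f x = 1 from P.fv h, mul_one, mul_one, mul_zero, zero_add, zero_add] at e2
        rw [e2] at e1
        obtain rfl : w = w' :=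
          Subtype.ext (smul_right_injective V hβ (add_right_cancel e1))
        rw [sub_left_inj, mul_left_inj' hβ] at e2
        rw [Subtype.ext (add_left_cancel e2 : (c : F) = c')]
    have h1 := Nat.card_le_card_of_injective ψ hψ
    rw [Finite.card_option, Nat.card_prod, card_skew h, Module.natCard_eq_pow_finrank (K := F),
      hrW, pow_one, h.invol.card_sq, hSt, ← hq] at h1
    have : q ^ 2 * q = q ^ 3 := by ring
    omega
  have hdec : ∀ z ∈ t', ∃ y : P.W h, z = B f z • x + (y : V) := fun z hz => by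
    obtain ⟨y, hy⟩ := P.decomp h z
    rw [show B P.v z = 0 from hperp z hz, zero_smul, add_zero] at hy
    exact ⟨y, hy⟩
  obtain ⟨r, y₀, hy₀, hry⟩ : ∃ (r : F) (y : P.W h), y ≠ 0 ∧ r • x + (y : V) ∈ t' := by
    by_contra hc
    push Not at hc
    have : Nat.card t' ≤ q ^ 2 := card_le_of_span_singleton h t' (w := x) fun z hz => by
      obtain ⟨y, hy⟩ := hdec z hz
      have hy0 : y = 0 := by
        by_contra h0
        exact hc _ y h0 (hy ▸ hz)
      rw [hy, hy0, ZeroMemClass.coe_zero, add_zero]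
      exact Submodule.smul_mem _ _ (Submodule.mem_span_singleton_self x)
    omega
  have hFx : ∀ a : F, a • x ∈ t' := by
    intro a
    have hyy := hWn y₀ hy₀
    set w : P.W h := σ (-a / B (y₀ : V) y₀) • y₀ with hw
    have h1 := hmove _ ⟨w, ⟨sec w, hsec w⟩, rfl⟩ _ hry
    rw [map_add, LinearEquiv.map_smul, show x = P.v from rfl, P.El_v, P.El_W] at h1
    have e : r • P.v + ((y₀ : V) - B (w : V) y₀ • P.v) - (r • P.v + (y₀ : V)) = a • P.v := by
      rw [hw, Submodule.coe_smul, smul_left, h.invol.invol, div_mul_cancel₀ _ hyy]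
      module
    rwa [e] at h1
  let R : AddSubgroup (P.W h) := t'.comap (P.W h).subtype.toAddMonoidHom
  have hy₀R : (y₀ : V) ∈ t' := by
    have := t'.sub_mem hry (hFx r)
    rwa [add_sub_cancel_left] at this
  have hscal : ∀ δ : F, δ * σ δ = 1 → ∀ y : P.W h, (y : V) ∈ t' → δ • (y : V) ∈ t' := by
    intro δ hδ y hy
    by_cases hy0 : y = 0
    · rw [hy0]; simp [t'.zero_mem]
    have hyy := hWn y hy0
    have hδ0 : δ ≠ 0 := fun e0 => by rw [e0, zero_mul] at hδ; exact zero_ne_one hδ
    obtain ⟨a, ha0, ha⟩ : ∃ a : F, a ≠ 0 ∧ a / σ a = δ⁻¹ := by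
      by_cases hd1 : 1 + δ⁻¹ = 0
      · obtain ⟨θ, hθ0, hθ⟩ := h.exists_skew
        refine ⟨θ, hθ0, ?_⟩
        rw [eq_neg_of_add_eq_zero_right hθ, eq_neg_of_add_eq_zero_right hd1, div_neg,
          div_self hθ0]
      · have hs' : σ (1 + δ⁻¹) ≠ 0 := fun h0 => hd1 (IsInvol.apply_eq_zero_iff.1 h0)
        refine ⟨1 + δ⁻¹, hd1, ?_⟩
        rw [div_eq_iff hs', map_add, map_one, map_inv₀]
        have hσδ : σ δ ≠ 0 := fun e0 => hδ0 (IsInvol.apply_eq_zero_iff.1 e0)
        field_simp
        linear_combination hδ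
    obtain ⟨g₁, hdet, hg₁⟩ := h.exists_dilation hxx hff hxf ha0
    set k := h.quasiIso (y : V) hyy (Units.mk0 δ hδ0) hδ
    have hmem : g₁ * k ∈ HSU B := by
      rw [MonoidHom.mem_ker, map_mul,
        show HU.det B k = Units.mk0 δ hδ0 from h.det_quasiIso _ _ _ _]
      refine Units.ext ?_
      rw [Units.val_mul, hdet, ha, Units.val_mk0, inv_mul_cancel₀ hδ0, Units.val_one]
    have hk : ∀ z : V, (k : V ≃ₗ[F] V) z = quasi B (y : V) hyy (Units.mk0 δ hδ0) z := fun _ => rfl
    have hWg : ∀ z : V, z ∈ P.W h →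
        ap (⟨g₁ * k, hmem⟩ : HSU B) z = quasi B (y : V) hyy (Units.mk0 δ hδ0) z := by
      intro z hz
      have hq' : quasi B (y : V) hyy (Units.mk0 δ hδ0) z ∈ P.W h := by
        rw [quasi_apply]
        exact Submodule.add_mem _ hz (Submodule.smul_mem _ _ y.2)
      show (g₁ : V ≃ₗ[F] V) ((k : V ≃ₗ[F] V) z) = _
      rw [hk, hg₁ _ (P.vw ⟨_, hq'⟩), show B f (quasi B (y : V) hyy (Units.mk0 δ hδ0) z) = 0 from
        P.fw ⟨_, hq'⟩, mul_zero, zero_smul, add_zero]
    have hlevi : P.Levi h (⟨g₁ * k, hmem⟩ : HSU B) a :=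
      ⟨by
        show (g₁ : V ≃ₗ[F] V) ((k : V ≃ₗ[F] V) x) = a • x
        rw [hk, quasi_apply_perp _ _ _ (P.wv y), hg₁ x hxx, show B f x = 1 from P.fv h, mul_one]
        module,
      fun w => by
        rw [hWg _ w.2, quasi_apply]
        exact Submodule.add_mem _ w.2 (Submodule.smul_mem _ _ y.2)⟩
    have hgt : (⟨g₁ * k, hmem⟩ : HSU B) • t = t := by
      refine huniq _ (by
        obtain ⟨g, hg⟩ := htmem.1
        exact ⟨(⟨g₁ * k, hmem⟩ : HSU B) * g, by rw [← hg]; exact mul_smul _ g _⟩) ?_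
      rintro ⟨⟨u, hu⟩, hu'⟩
      have hu'' : u • (s : Set V) = (⟨g₁ * k, hmem⟩ : HSU B) • t := hu'
      have key : ∀ v' ∈ P.EU h, (⟨g₁ * k, hmem⟩ : HSU B) * v' * (⟨g₁ * k, hmem⟩ : HSU B)⁻¹ ∈ P.EU h := by
        rintro _ ⟨w, b, rfl⟩
        exact ⟨_, _, by rw [hlevi.mul_El, mul_inv_cancel_right]⟩
      -- conjugating back, the free member would be fixed
      obtain ⟨c, hc0, hc⟩ : ∃ c : F, c ≠ 0 ∧ c + σ c = 0 := h.exists_skew
      have hv' := key _ (P.Tv_mem h hc)
      have hv'' : u⁻¹ * ((⟨g₁ * k, hmem⟩ : HSU B) * P.Tv h hc *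
          (⟨g₁ * k, hmem⟩ : HSU B)⁻¹) * u ∈ P.EU h :=
        (P.EU h).mul_mem ((P.EU h).mul_mem ((P.EU h).inv_mem hu) hv') hu
      have hgT : ((⟨g₁ * k, hmem⟩ : HSU B) * P.Tv h hc * (⟨g₁ * k, hmem⟩ : HSU B)⁻¹) •
          (u • (s : Set V)) = u • (s : Set V) := by
        rw [hu'', mul_smul, mul_smul, inv_smul_smul, hfixU _ (P.Tv_mem h hc)]
      have h1 := hfree _ hv'' (by rw [mul_smul, mul_smul, hgT, inv_smul_smul])
      have h2 : P.Tv h hc = 1 := by
        have h4 := congrArg (fun z => u * z * u⁻¹) h1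
        simp only [mul_assoc, mul_inv_cancel_left, mul_inv_cancel, mul_one, one_mul] at h4
        rw [← mul_assoc, conj_eq_one_iff] at h4
        exact h4
      have h3 := congrArg (fun g => ap g f) h2
      simp only [MinIndexSU.T_apply, ap_one, show B P.v f = 1 from hxf, mul_one,
        add_eq_left, smul_eq_zero] at h3
      exact h3.elim hc0 hx0
    have := Set.smul_mem_smul_set (a := (⟨g₁ * k, hmem⟩ : HSU B)) (htt ▸ hy : (y : V) ∈ t)
    rw [hgt, ← htt] at this
    rw [← SetLike.mem_coe]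
    refine Eq.mp ?_ this
    congr 1
    show ap (⟨g₁ * k, hmem⟩ : HSU B) (y : V) = δ • (y : V)
    rw [hWg _ y.2, quasi_apply_self]
    rfl
  -- the multipliers form the whole field
  let Mul : Subring F :=
    { carrier := {l | ∀ y : P.W h, (y : V) ∈ t' → l • (y : V) ∈ t'}
      mul_mem' := fun {a b} ha hb y hy => by
        rw [mul_smul]; exact ha (b • y) (hb y hy)
      one_mem' := fun y hy => by rwa [one_smul]
      add_mem' := fun {a b} ha hb y hy => by
        rw [add_smul]; exact t'.add_mem (ha y hy) (hb y hy)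
      zero_mem' := fun y hy => by rw [zero_smul]; exact t'.zero_mem
      neg_mem' := fun {a} ha y hy => by rw [neg_smul]; exact t'.neg_mem (ha y hy) }
  let MulF : Subfield F :=
    { Mul with
      inv_mem' := fun l hl => by
        by_cases hl0 : l = 0
        · rw [hl0, inv_zero]; exact Mul.zero_mem
        have : Fintype F := Fintype.ofFinite F
        have hp : l⁻¹ = l ^ (Fintype.card F - 2) := by
          refine inv_eq_of_mul_eq_one_left ?_
          rw [← pow_succ, show Fintype.card F - 2 + 1 = Fintype.card F - 1 by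
            have := Fintype.one_lt_card (α := F); omega, FiniteField.pow_card_sub_one_eq_one l hl0]
        rw [hp]; exact pow_mem (show l ∈ Mul from hl) _ }
  have hall : ∀ l : F, l ∈ Mul := by
    have h1 : q + 2 ≤ Nat.card MulF := by
      rw [show q + 2 = Nat.card (Option {l : F // l * σ l = 1}) by
        rw [Finite.card_option, h.invol.card_norm_fibre one_ne_zero (map_one σ)]]
      refine Nat.card_le_card_of_injective
        (fun o => o.elim (0 : MulF) fun l => ⟨(l : F), hscal l l.2⟩) ?_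
      rintro (_ | ⟨a, ha⟩) (_ | ⟨b, hb⟩) e0
      · rfl
      · have : (0 : F) = b := congrArg Subtype.val e0
        rw [← this, zero_mul] at hb; exact absurd hb zero_ne_one
      · have : a = 0 := congrArg Subtype.val e0
        rw [this, zero_mul] at ha; exact absurd ha zero_ne_one
      · exact congrArg some (Subtype.ext (congrArg Subtype.val e0 : a = b))
    have : FiniteDimensional MulF F := Module.Finite.of_finite
    have h2 := Module.natCard_eq_pow_finrank (K := MulF) (V := F)
    rw [h.invol.card_sq, ← hq] at h2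
    have hk : Module.finrank MulF F = 1 := by
      by_contra hne
      have h0 : 0 < Module.finrank MulF F := Module.finrank_pos
      have h4 := Nat.pow_le_pow_right (show 0 < Nat.card MulF by omega)
        (show 2 ≤ Module.finrank MulF F by omega)
      rw [← h2] at h4
      have h5 : (q + 2) ^ 2 ≤ Nat.card MulF ^ 2 := Nat.pow_le_pow_left h1 2
      nlinarith
    intro l
    obtain ⟨c, hc⟩ := (finrank_eq_one_iff_of_nonzero' (1 : F) one_ne_zero).1 hk l
    rw [← hc, Subfield.smul_def, smul_eq_mul, mul_one]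
    exact c.2
  have hW : ∀ w : P.W h, (w : V) ∈ t' := fun w => by
    obtain ⟨l, hl⟩ := (finrank_eq_one_iff_of_nonzero' y₀ hy₀).1 hrW w
    rw [← hl, Submodule.coe_smul]
    exact hall l y₀ hy₀R
  have h6 : Nat.card (F × P.W h) ≤ Nat.card t' := by
    refine Nat.card_le_card_of_injective
      (fun p => (⟨p.1 • x + (p.2 : V), t'.add_mem (hFx p.1) (hW p.2)⟩ : t')) fun p p' e0 => ?_
    have e1 : p.1 • x + (p.2 : V) = p'.1 • x + (p'.2 : V) := congrArg Subtype.val e0
    have e2 := congrArg (B f) e1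
    rw [map_add, map_add, smul_right, smul_right, show B f x = 1 from P.fv h, mul_one, mul_one,
      show B f (p.2 : V) = 0 from P.fw p.2, show B f (p'.2 : V) = 0 from P.fw p'.2, add_zero,
      add_zero] at e2
    rw [e2] at e1
    exact Prod.ext e2 (Subtype.ext (add_left_cancel e1))
  rw [Nat.card_prod, Module.natCard_eq_pow_finrank (K := F) (V := P.W h), hrW, pow_one,
    h.invol.card_sq, ← hq, hSt] at h6
  have h7 : q ^ 3 < q ^ 2 * q ^ 2 := by
    rw [← pow_add]; exact Nat.pow_lt_pow_right (by omega) (by norm_num)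
  omega

end CfsgLib.LocalEvenB.MinIndexSU
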