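import Cfsg.Agent.Lib.LocalEvenB.MinIndexSU.Main
import Cfsg.Agent.Lib.LocalEvenB.MinIndexSU.Three
import Cfsg.Agent.Lib.LocalEvenB.MinIndexSU.EndgameTwo

/-!
The minimal index of a proper subgroup of a special unitary group of odd dimension at least five.
-/

set_option autoImplicit false

namespace CfsgLib.LocalEvenB.MinIndexSU

open CfsgLib.Classical CfsgLib.Classical.Herm

theorem two_mul_pow_le_Pn_two {e : ℕ} : 2 * 2 ^ (2 * e + 5) ≤ Pn 2 (2 * e + 5) := by
  rw [Pn, Nat.le_div_iff_mul_le (by norm_num), ordFactor, ordFactor,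
    if_pos (by rw [Nat.even_iff]; omega), if_neg (by rw [Nat.even_iff]; omega),
    show 2 * e + 5 - 1 + 1 = 2 * e + 5 by omega, show 2 * e + 5 - 2 + 1 = 2 * e + 4 by omega,
    pow_succ 2 (2 * e + 4)]
  have h1 : 16 ≤ 2 ^ (2 * e + 4) := Nat.pow_le_pow_right two_pos (show 4 ≤ 2 * e + 4 by omega)
  generalize 2 ^ (2 * e + 4) = a at *
  calc 2 * (a * 2) * (2 ^ 2 - 1) ≤ (a * 2 + 1) * 15 := by norm_num; omega
    _ ≤ _ := Nat.mul_le_mul_left _ (by omega)

variable {F : Type*} [Field F] {σ : F →+* F} [Finite F]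

/-- The bound, given long orbits in the complements. -/
theorem le_index_step {V : Type*} [AddCommGroup V] [Module F V] [FiniteDimensional F V]
    {B : V →ₛₗ[σ] V →ₗ[F] F} (h : IsHerm B) {d : ℕ} (hd : Module.finrank F V = d + 2) (hd3 : 3 ≤ d)
    (hodd : Odd d)
    (hamp : ∀ P : HPair B, Amp (IsHerm.restrict B (P.W h)) d (Pn (Nat.card (fixedSub σ)) (d + 2)))
    (H : Subgroup (HSU B)) (hH : H ≠ ⊤) : Pn (Nat.card (fixedSub σ)) (d + 2) ≤ H.index := by
  rcases Nat.lt_or_ge (Nat.card (fixedSub σ)) 3 with hq | hq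
  · have hq2 : Nat.card (fixedSub σ) = 2 := by
      have := IsInvol.card_ge_two (σ := σ)
      omega
    rw [hq2] at hamp ⊢
    exact le_index_two h hd hd3 hodd hq2 hamp hH
  · exact le_index h hd hd3 hq hamp hH

/-- The lower bound, in odd dimension `2 k + 5`. -/
theorem le_index_odd (k : ℕ) :
    ∀ {V : Type*} [AddCommGroup V] [Module F V] [FiniteDimensional F V]
      {B : V →ₛₗ[σ] V →ₗ[F] F}, IsHerm B → Module.finrank F V = 2 * k + 5 →
      ∀ H : Subgroup (HSU B), H ≠ ⊤ → Pn (Nat.card (fixedSub σ)) (2 * k + 5) ≤ H.index := by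
  induction k with
  | zero =>
    intro V _ _ _ B h hd H hH
    exact le_index_step h hd le_rfl (by decide)
      (fun P => amp_three (h.restrict_herm (h.orth_nondeg (P.nondeg h))) (P.finrank_W h hd)) H hH
  | succ k ih =>
    intro V _ _ _ B h hd H hH
    have : Finite V := Module.finite_of_finite F
    have hd' : Module.finrank F V = (2 * k + 5) + 2 := by omega
    rw [show 2 * (k + 1) + 5 = (2 * k + 5) + 2 by ring]
    refine le_index_step h hd' (by omega) ⟨k + 2, by ring⟩ (fun P => ?_) H hH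
    have hherm := h.restrict_herm (h.orth_nondeg (P.nondeg h))
    have hq2 : 2 ≤ Nat.card (fixedSub σ) := IsInvol.card_ge_two (σ := σ)
    refine amp_of_index hherm (P.finrank_W h hd') (by omega) (Pn_bound' hq2 (by omega)) ?_
      (ih hherm (P.finrank_W h hd'))
    rcases Nat.lt_or_ge (Nat.card (fixedSub σ)) 3 with hq | hq
    · rw [show Nat.card (fixedSub σ) = 2 by omega]
      exact two_mul_pow_le_Pn_two
    · exact two_mul_pow_le_Pn hq (by omega)

end CfsgLib.LocalEvenB.MinIndexSU
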