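import Cfsg.Agent.Lib.LocalEvenB.MinIndexSU.EndgameTwo
import Cfsg.Agent.Lib.LocalEvenB.MinIndexSU.Four

/-!
The minimal index of a proper subgroup of the special unitary group of dimension six over the field
with four elements.
-/

set_option autoImplicit false

namespace CfsgLib.LocalEvenB.MinIndexSU

open CfsgLib.Classical CfsgLib.Classical.Herm

theorem six_count_false {N k : ℕ} (h1 : 640 ≤ N) (h2 : N < 672) (e : N * k = 2079 * 512) :
    False := by
  have hd : N ∣ 2079 * 512 := ⟨k, e.symm⟩
  interval_cases N <;> norm_num at hd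

variable {F : Type*} [Field F] {V : Type*} [AddCommGroup V] [Module F V] {σ : F →+* F}
  {B : V →ₛₗ[σ] V →ₗ[F] F} (h : IsHerm B) [Finite F] [FiniteDimensional F V]
  {H : Subgroup (HSU B)}

include h in
theorem skew_two (hq : Nat.card (fixedSub σ) = 2) {c : F} (hc : c + σ c = 0) : c = 0 ∨ c = 1 :=
  norm_zero_or_one h hq (by linear_combination hc - c * two_eq_zero h hq)

include h in
theorem one_skew (hq : Nat.card (fixedSub σ) = 2) : (1 : F) + σ 1 = 0 := by
  rw [map_one]; linear_combination two_eq_zero h hq

include h in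
theorem T_sq (hq : Nat.card (fixedSub σ) = 2) {u : V} (hu : B u u = 0) {c : F}
    (hc : c + σ c = 0) : T h hu hc * T h hu hc = 1 :=
  ap_ext fun y => by
    rw [ap_mul, ap_one, T_apply, T_apply, map_add, smul_right, hu]
    match_scalars
    · ring
    · linear_combination (c * B u y) * two_eq_zero h hq

include h in
theorem le_index_six (hd : Module.finrank F V = 4 + 2) (hq : Nat.card (fixedSub σ) = 2)
    (hH : H ≠ ⊤) : 672 ≤ H.index := by
  classical
  by_contra hlt
  push Not at hlt
  have : Finite V := Module.finite_of_finite F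
  have := finite_HSU (B := B)
  have hP6 : Pn 2 6 = 693 := by rw [Pn_six le_rfl]; norm_num
  have hR := rigid_all (H := H) h hd (by norm_num) (M := Pn 2 6)
    (by rw [hq]; exact Pn_bound le_rfl (by norm_num))
    (fun P => hq ▸ amp_four (h.restrict_herm (h.orth_nondeg (P.nondeg h))) (P.finrank_W h hd))
    (by rw [hP6]; omega)
  obtain ⟨v, hv0, hvv, hv⟩ := exists_not_inS h (by omega) (fun e => absurd e (by omega)) hH
  have hcount := index_mul_unmarked h hd (by norm_num) hR hv0 hvv hv
  rw [hq, h.card_isotropic_ne_zero hd, hq] at hcount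
  norm_num [ordFactor, Nat.even_iff] at hcount
  refine six_count_false ?_ hlt (k := Nat.card {u : V // (u ≠ 0 ∧ B u u = 0) ∧ ¬ InS h H u})
    (by simpa using hcount)
  obtain ⟨f, hvf, hff⟩ := h.exists_isotropic_partner hv0 hvv
  set P : HPair B := ⟨v, f, hvv, hff, hvf⟩
  have hx₀ : P.Moved h ((1 : HSU B) : HSU B ⧸ H) := (moved_mk_iff h P 1).2 (by
    rwa [inv_one, ap_one])
  -- a torus and a transvection commuting with it
  have hrW := P.finrank_W h hd
  obtain ⟨b, hb⟩ := (h.restrict_herm (h.orth_nondeg (P.nondeg h))).exists_orthonormal_basis hrW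
  have hbV : ∀ i j, B (b i : V) (b j : V) = if i = j then 1 else 0 := fun i j => hb i j
  obtain ⟨ω, hω1, hω⟩ := h.exists_norm_one_ne_one
  obtain ⟨t, ht, -⟩ := P.exists_pair_torus h hq hω1 hω (b 0).2 (b 1).2
    (by simp [hbV]) (by simp [hbV]) (by simp [hbV])
  obtain ⟨u₀, hu₀, htx⟩ := HPair.exists_centre (hR P) ht.levi ht.fpf hx₀
  have hmx := HPair.moved_orbit hu₀ hx₀
  generalize u₀ • ((1 : HSU B) : HSU B ⧸ H) = x at htx hmx
  set w : P.W h := b 2 + b 3
  have h2 : (2 : F) = 0 := two_eq_zero h hq
  have hww : B (w : V) w = 0 := by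
    simp only [w, Submodule.coe_add, map_add, LinearMap.add_apply, hbV]
    simp only [↓reduceIte, show ((2 : Fin 4) = 3) = False by decide,
      show ((3 : Fin 4) = 2) = False by decide]
    linear_combination h2
  have h1 := one_skew h hq
  have hk : P.Levi h (T h hww h1) 1 := by
    refine ⟨?_, fun z => ?_⟩
    · rw [T_apply, P.wv w, mul_zero, zero_smul, add_zero, one_smul]
    · rw [T_apply]
      exact (P.W h).add_mem z.2 ((P.W h).smul_mem _ w.2)
  have hcomm : t * T h hww h1 = T h hww h1 * t := by
    refine ht.comm _ 1 1 ?_ ?_ ?_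
    · rw [T_apply, P.wv w, mul_zero, zero_smul, add_zero, one_smul]
    · rw [T_apply, P.wf w, mul_zero, zero_smul, add_zero, one_smul]
    · rintro e (rfl | rfl) <;> simp [T_apply, w, hbV]
  obtain ⟨c, hc, hkx⟩ :=
    HPair.zfix_of_commute (hR P) ht.levi ht.fpf hmx htx hk hcomm
  -- a second centre, orthogonal to the first, whose transvection fixes the point
  obtain ⟨α, hu, hfix⟩ : ∃ (α : F) (hu : B (α • v + (w : V)) (α • v + (w : V)) = 0),
      T h hu h1 • x = x := by
    have hall : ∀ α : F, B (α • v + (w : V)) (α • v + (w : V)) = 0 := fun α => by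
      simp [smul_left, smul_right, show B v v = 0 from P.vv, show B v (w : V) = 0 from P.vw w,
        show B (w : V) v = 0 from P.wv w, hww]
    rcases skew_two h hq hc with rfl | rfl
    · refine ⟨0, hall 0, ?_⟩
      convert hkx.trans (one_smul (HSU B) x |> fun e => ?_) using 1
      · congr 1
        exact ap_ext fun y => by simp [T_apply]
      · conv_rhs => rw [← e]
        congr 1
        exact ap_ext fun y => by simp [T_apply, ap_one]
    refine ⟨1, hall 1, ?_⟩
    by_contra hne
    set g := P.Tv h h1 * T h hww h1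
    have hgx : g • x = x := by
      rw [mul_smul, hkx, ← mul_smul, T_sq h hq, one_smul]
    have hup : B (v + (w : V)) (v + (w : V)) = 0 := by simpa using hall 1
    let Q : HPair B := ⟨v + (w : V), f, hup, hff, by
      rw [add_left, hvf, show B (w : V) f = 0 from P.wf w, add_zero]⟩
    have hQ : Q.Moved h x := ⟨1, h1, fun e => hne (by
      convert e using 2
      exact ap_ext fun y => by simp [T_apply, Q])⟩
    have hmem : g ∈ Q.EU h := by
      refine ⟨⟨(w : V), Q.mem_W h ?_ (P.fw w)⟩, ⟨1, ?_⟩, ap_ext fun y => ?_⟩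
      · rw [add_left, show B v (w : V) = 0 from P.vw w, hww, add_zero]
      · show (1 : F) + σ 1 = -B (w : V) w
        rw [hww, neg_zero, h1]
      · rw [ap_mul, HPair.El_apply, T_apply, T_apply]
        simp only [Q, show P.v = v from rfl, map_add, LinearMap.add_apply, smul_right,
          show B v (w : V) = 0 from P.vw w]
        match_scalars <;> first | ring1 | linear_combination -(B v y) * h2 |
          linear_combination (B v y) * h2
    have e := congrArg (fun g => ap g f) ((hR Q x hQ).1 g hmem hgx)
    simp only [g, ap_mul, ap_one, T_apply, show B (w : V) f = 0 from P.wf w, hvf, mul_zero,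
      zero_smul, add_zero, show P.v = v from rfl, one_mul, one_smul] at e
    exact hv0 (by simpa using e)
  -- many points fixed by that transvection
  set u : V := α • v + (w : V) with hudef
  have hu0 : u ≠ 0 := fun e => by
    have h3 : (1 : F) = 0 := by
      have := congrArg (fun z => B (b 2 : V) z) e
      simpa [hudef, w, hbV, smul_right, show B (b 2 : V) v = 0 from P.wv (b 2)] using this
    exact one_ne_zero h3
  obtain ⟨f', huf', hff'⟩ := h.exists_isotropic_partner hu0 hu
  let Q : HPair B := ⟨u, f', hu, hff', huf'⟩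
  have hQm : ∀ y : HSU B ⧸ H, T h hu h1 • y = y → ¬ Q.Moved h y := by
    rintro y e ⟨c', hc', hne⟩
    rcases skew_two h hq hc' with rfl | rfl
    · refine hne ?_
      conv_rhs => rw [← one_smul (HSU B) y]
      congr 1
      exact ap_ext fun z => by simp [T_apply, ap_one]
    · exact hne e
  have htot : H.index = Nat.card {y : HSU B ⧸ H // Q.Moved h y} +
      Nat.card {y : HSU B ⧸ H // ¬ Q.Moved h y} := by
    rw [← Nat.card_sum, Subgroup.index]
    exact Nat.card_congr (Equiv.sumCompl _).symm
  rw [htot, card_moved h hd (by norm_num) hR hv0 hvv hv Q, hq]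
  suffices 128 ≤ Nat.card {y : HSU B ⧸ H // ¬ Q.Moved h y} by norm_num; omega
  let wp : F × F × F → P.W h := fun p => p.1 • b 0 + p.2.1 • b 1 + p.2.2 • w
  have htr : ∀ p, ∃ a : F, a + σ a = -B (wp p : V) (wp p) := fun p =>
    h.invol.exists_trace_eq (by rw [map_neg, h.self_fixed])
  choose a₀ ha₀ using htr
  let k : (F × F × F) × skew σ → HSU B := fun p => P.El h (wp p.1) ⟨a₀ p.1 + p.2, by
    have := mem_skew.1 p.2.2
    rw [map_add]; linear_combination ha₀ p.1 + this⟩
  have hku : ∀ p, ap (k p) u = u := fun p => by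
    have e1 : B P.v u = 0 := by
      simp [hudef, smul_right, show B P.v v = 0 from P.vv, show B P.v (w : V) = 0 from P.vw w]
    have e2 : B (wp p.1 : V) u = 0 := by
      rw [hudef, map_add, smul_right, show B (wp p.1 : V) v = 0 from P.wv _]
      simp [wp, w, smul_left, hbV]
      linear_combination (σ p.1.2.2) * h2
    rw [HPair.El_apply, e1, e2]; simp
  have hinj : Function.Injective
      fun p => (⟨k p • x, hQm _ (by
        rw [← mul_smul, show T h hu h1 * k p = k p * T h hu h1 by
          rw [← mul_inv_eq_iff_eq_mul.1 (conj_T h (k p) hu h1 hu (hku p))],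
          mul_smul, hfix])⟩ : {y : HSU B ⧸ H // ¬ Q.Moved h y}) := by
    rintro ⟨p, s⟩ ⟨p', s'⟩ e
    have e1 := (hR P).eq_of_smul_eq hmx (show k (p, s) ∈ P.EU h from ⟨_, _, rfl⟩)
      (show k (p', s') ∈ P.EU h from ⟨_, _, rfl⟩) (congrArg Subtype.val e)
    obtain ⟨e2, e3⟩ := P.El_inj h e1
    have hp : p = p' := by
      have c0 := congrArg (fun z : P.W h => B (b 0 : V) (z : V)) e2
      have c1 := congrArg (fun z : P.W h => B (b 1 : V) (z : V)) e2
      have c2 := congrArg (fun z : P.W h => B (b 2 : V) (z : V)) e2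
      simp [wp, w, smul_right, hbV] at c0 c1 c2
      exact Prod.ext c0 (Prod.ext c1 c2)
    subst hp
    exact Prod.ext rfl (Subtype.ext (add_left_cancel e3))
  have := Nat.card_le_card_of_injective _ hinj
  rw [Nat.card_prod, Nat.card_prod, Nat.card_prod, card_skew h, h.invol.card_sq, hq] at this
  exact this

end CfsgLib.LocalEvenB.MinIndexSU
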