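import Cfsg.Agent.Lib.LocalEvenB.MinIndexSU.Main
import Cfsg.Agent.Lib.LocalEvenB.MinIndexSU.SixTwo

/-!
The minimal index of a proper subgroup of a special unitary group of even dimension at least six
over the field with four elements: the number of non-singular points.
-/

set_option autoImplicit false

namespace CfsgLib.LocalEvenB.MinIndexSU

open CfsgLib.Classical CfsgLib.Classical.Herm

/-- The number of non-singular points. -/
def Nn (n : ℕ) : ℕ := 2 ^ (n - 1) * (2 ^ n - 1) / 3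

theorem two_even_identities (e : ℕ) :
    (2 ^ (2 * e + 8) - 1) * (2 ^ (2 * e + 7) + 1) * 2 ^ (4 * e + 13) =
      2 ^ (2 * e + 7) * (2 ^ (2 * e + 8) - 1) * (2 ^ (4 * e + 13) + 2 ^ (2 * e + 6)) := by
  generalize 2 ^ (2 * e + 8) - 1 = A
  rw [show (2 : ℕ) ^ (2 * e + 7) = 2 ^ (2 * e) * 128 by rw [pow_add]; norm_num,
    show (2 : ℕ) ^ (2 * e + 6) = 2 ^ (2 * e) * 64 by rw [pow_add]; norm_num,
    show (2 : ℕ) ^ (4 * e + 13) = 2 ^ (2 * e) * 2 ^ (2 * e) * 8192 by
      rw [← pow_add, show (2 : ℕ) ^ (4 * e + 13) = 2 ^ (4 * e) * 2 ^ 13 from pow_add 2 _ _]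
      ring]
  ring

variable {F : Type*} [Field F] {σ : F →+* F} [Finite F]

/-- The inductive step. -/
theorem le_index_two_big {V : Type*} [AddCommGroup V] [Module F V] [FiniteDimensional F V]
    {B : V →ₛₗ[σ] V →ₗ[F] F} (h : IsHerm B) (hq : Nat.card (fixedSub σ) = 2) {e : ℕ}
    (hd : Module.finrank F V = 2 * e + 6 + 2)
    (hamp : ∀ P : HPair B, Amp (IsHerm.restrict B (P.W h)) (2 * e + 6) (Pn 2 (2 * e + 6 + 2)))
    {H : Subgroup (HSU B)} (hH : H ≠ ⊤) : Nn (2 * e + 8) ≤ H.index := by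
  by_contra hlt
  push Not at hlt
  have h1 : ∀ a, 1 ≤ 2 ^ a := fun a => Nat.one_le_pow _ _ two_pos
  have h3N : 3 * H.index + 3 ≤ 2 ^ (2 * e + 7) * (2 ^ (2 * e + 8) - 1) := by
    have h2 := Nat.div_mul_le_self (2 ^ (2 * e + 7) * (2 ^ (2 * e + 8) - 1)) 3
    have h3 : H.index < 2 ^ (2 * e + 7) * (2 ^ (2 * e + 8) - 1) / 3 := hlt
    omega
  have hA : 2 ^ (2 * e + 7) * (2 ^ (2 * e + 8) - 1) ≤
      (2 ^ (2 * e + 8) - 1) * (2 ^ (2 * e + 7) + 1) := by
    rw [mul_comm]; exact Nat.mul_le_mul_left _ (Nat.le_succ _)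
  have hN : H.index < Pn 2 (2 * e + 6 + 2) := by
    rw [Pn, show 2 * e + 6 + 2 - 1 = 2 * e + 7 by omega,
      show 2 * e + 6 + 2 - 2 = 2 * e + 6 by omega, ordFactor, ordFactor,
      if_neg (by rw [Nat.even_iff]; omega), if_pos (by rw [Nat.even_iff]; omega),
      show (2 : ℕ) ^ 2 - 1 = 3 from rfl]
    exact lt_of_lt_of_le hlt (Nat.div_le_div_right hA)
  have hR := rigid_all h hd (by omega) (by rw [hq]; exact Pn_bound le_rfl (by omega)) hamp hN
  obtain ⟨v, hv0, hvv, hv⟩ := exists_not_inS h (by omega) (fun e => absurd e (by omega)) hH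
  have hcount := index_mul_unmarked h hd (by omega) hR hv0 hvv hv
  rw [hq] at hcount
  have hmark := le_marked h hd (by omega) (by omega) hq hR
    (J := 2 ^ (2 * e + 6 - 1) * ordFactor 2 (2 * e + 6 - 1)) (by
      rw [mul_comm]
      refine Nat.mul_le_mul_left _ ?_
      rw [ordFactor, if_pos (by rw [Nat.even_iff]; omega),
        show 2 * e + 6 - 2 + 1 = 2 * e + 6 - 1 by omega]
      exact Nat.le_succ _) (fun _ => le_rfl) hv0 hvv hv
  rw [show 2 * e + 6 - 1 = 2 * e + 5 by omega, show 2 * e + 6 - 2 = 2 * e + 4 by omega, ordFactor,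
    ordFactor, if_neg (by rw [Nat.even_iff]; omega), if_pos (by rw [Nat.even_iff]; omega)] at hmark
  have hI := h.card_isotropic_ne_zero (m := 2 * e + 6) hd
  rw [hq, ordFactor, ordFactor, if_neg (by rw [Nat.even_iff]; omega),
    if_pos (by rw [Nat.even_iff]; omega)] at hI
  rw [hI, show 2 * (2 * e + 6) + 1 = 4 * e + 13 by ring, two_even_identities e] at hcount
  have hid : (2 ^ (2 * e + 5 + 1) - 1) * (2 ^ (2 * e + 4 + 1) + 1) +
      3 * (2 ^ (2 * e + 5) * (2 ^ (2 * e + 5 + 1) - 1)) +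
      3 * (2 ^ (4 * e + 13) + 2 ^ (2 * e + 6)) =
      (2 ^ (2 * e + 6 + 1 + 1) - 1) * (2 ^ (2 * e + 6 + 1) + 1) := by
    zify [h1 (2 * e + 5 + 1), h1 (2 * e + 6 + 1 + 1)]
    ring
  rw [hI] at hmark
  have hk : Nat.card {u : V // (u ≠ 0 ∧ B u u = 0) ∧ ¬ InS h H u} ≤
      3 * (2 ^ (4 * e + 13) + 2 ^ (2 * e + 6)) := by omega
  have h2 := Nat.mul_le_mul_left H.index hk
  rw [hcount, ← mul_assoc] at h2
  have h4 : H.index * 3 < 2 ^ (2 * e + 7) * (2 ^ (2 * e + 8) - 1) := by omega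
  have h5 := Nat.mul_lt_mul_of_pos_right h4
    (show 0 < 2 ^ (4 * e + 13) + 2 ^ (2 * e + 6) by positivity)
  omega

/-- The lower bound, in even dimension `2 k + 6`. -/
theorem le_index_two_even (hq : Nat.card (fixedSub σ) = 2) (k : ℕ) :
    ∀ {V : Type*} [AddCommGroup V] [Module F V] [FiniteDimensional F V]
      {B : V →ₛₗ[σ] V →ₗ[F] F}, IsHerm B → Module.finrank F V = 2 * k + 6 →
      ∀ H : Subgroup (HSU B), H ≠ ⊤ → Nn (2 * k + 6) ≤ H.index := by
  induction k with
  | zero =>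
    intro V _ _ _ B h hd H hH
    rw [show Nn (2 * 0 + 6) = 672 from rfl]
    exact le_index_six h hd hq hH
  | succ k ih =>
    intro V _ _ _ B h hd H hH
    have : Finite V := Module.finite_of_finite F
    have hd' : Module.finrank F V = 2 * k + 6 + 2 := by omega
    rw [show 2 * (k + 1) + 6 = 2 * k + 8 by ring]
    refine le_index_two_big h hq hd' (fun P => ?_) hH
    have hherm := h.restrict_herm (h.orth_nondeg (P.nondeg h))
    refine amp_of_index hherm (P.finrank_W h hd') (by omega) (by rw [hq]; exact Pn_bound' le_rfl (by omega)) ?_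
      (ih hherm (P.finrank_W h hd'))
    rw [hq, Nn, Nat.le_div_iff_mul_le (by norm_num), show 2 * k + 6 - 1 = 2 * k + 5 by omega,
      pow_succ 2 (2 * k + 5)]
    have h2 : 32 ≤ 2 ^ (2 * k + 5) :=
      Nat.pow_le_pow_right two_pos (show 5 ≤ 2 * k + 5 by omega)
    calc 2 * (2 ^ (2 * k + 5) * 2) * 3 = 2 ^ (2 * k + 5) * 12 := by ring
      _ ≤ _ := Nat.mul_le_mul_left _ (by omega)

/-- The stabiliser of a non-singular point has the index of their number. -/
theorem exists_index_two {V : Type*} [AddCommGroup V] [Module F V] [FiniteDimensional F V]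
    {B : V →ₛₗ[σ] V →ₗ[F] F} (h : IsHerm B) (hq : Nat.card (fixedSub σ) = 2) {m : ℕ}
    (hn : Module.finrank F V = m + 1) (hm : Odd m) (hm3 : 3 ≤ m) :
    ∃ H : Subgroup (HSU B), Subgroup.center (HSU B) ≤ H ∧ H.index = Nn (m + 1) := by
  classical
  have : Finite V := Module.finite_of_finite F
  have := finite_HSU (B := B)
  obtain ⟨b, hb⟩ := h.exists_orthonormal_basis hn
  set c := b 0
  have hc : B c c = 1 := by rw [hb, if_pos rfl]
  have hc0 : c ≠ 0 := b.ne_zero 0
  let H : Subgroup (HSU B) :=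
    { carrier := {g | ∃ e : F, e ≠ 0 ∧ e • c = ap g c}
      one_mem' := ⟨1, one_ne_zero, by rw [one_smul, ap_one]⟩
      mul_mem' := by
        rintro g g' ⟨e, he, hg⟩ ⟨e', he', hg'⟩
        exact ⟨e' * e, mul_ne_zero he' he, by rw [ap_mul, ← hg', LinearEquiv.map_smul, ← hg, smul_smul]⟩
      inv_mem' := by
        rintro g ⟨e, he, hg⟩
        refine ⟨e⁻¹, inv_ne_zero he, (ap g).injective ?_⟩
        rw [LinearEquiv.map_smul, ← hg, ap_apply_inv, inv_smul_smul₀ he] }
  refine ⟨H, fun z hz => ?_, ?_⟩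
  · obtain ⟨a, ha⟩ := (h.mem_center_HSU_iff (by omega)).1 hz
    refine ⟨a, fun e => hc0 ((ap z).injective ?_), (ha c).symm⟩
    rw [map_zero]
    exact (ha c).trans (by rw [e, zero_smul])
  · rw [Nn, show m + 1 - 1 = m by omega]
    refine (Nat.div_eq_of_eq_mul_left (by norm_num) ?_).symm
    have hX := card_norm_ne_zero h hn (one_ne_zero (α := F)) (map_one σ)
    rw [hq, ordFactor, if_neg (Nat.not_even_iff_odd.2 hm)] at hX
    have hF : Nat.card {a : F // a ≠ 0} = 3 := by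
      have := Fintype.ofFinite F
      rw [Nat.card_eq_fintype_card, Fintype.card_subtype_compl, Fintype.card_subtype_eq,
        ← Nat.card_eq_fintype_card, h.invol.card_sq, hq]
      norm_num
    rw [← hX, ← hF, Subgroup.index, ← Nat.card_prod]
    refine (Nat.card_congr (Equiv.ofBijective
      (fun p : (HSU B ⧸ H) × {a : F // a ≠ 0} => (⟨(p.2 : F) • ap p.1.out c,
        smul_ne_zero p.2.2 fun e => hc0 ((ap p.1.out).injective (e.trans (map_zero _).symm)), by
          rw [IsHerm.smul_self, ap_eq, hc, norm_of_ne_zero h hq p.2.2, one_mul]⟩ :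
        {x : V // x ≠ 0 ∧ B x x = 1})) ⟨?_, ?_⟩)).symm
    · rintro ⟨x, a, ha⟩ ⟨y, a', ha'⟩ e
      have e' : a • ap x.out c = a' • ap y.out c := congrArg Subtype.val e
      have hxy : x = y := by
        rw [← QuotientGroup.out_eq' x, ← QuotientGroup.out_eq' y, QuotientGroup.eq]
        refine ⟨a / a', div_ne_zero ha ha', (ap x.out).injective ?_⟩
        rw [ap_mul, ap_apply_inv, LinearEquiv.map_smul, div_eq_inv_mul, mul_smul, e',
          inv_smul_smul₀ ha']
      subst hxy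
      exact Prod.ext rfl (Subtype.ext (smul_left_injective F
        (fun e0 => hc0 ((ap x.out).injective (e0.trans (map_zero _).symm))) e'))
    · rintro ⟨x, hx, hxx⟩
      obtain ⟨g, hg⟩ := exists_map h (by omega) hc0 hx (hc.trans hxx.symm)
      obtain ⟨⟨k, hk⟩, e⟩ := QuotientGroup.mk_out_eq_mul H g
      obtain ⟨r, hr0, hr⟩ := hk
      refine ⟨((g : HSU B ⧸ H), ⟨r⁻¹, inv_ne_zero hr0⟩), Subtype.ext ?_⟩
      show r⁻¹ • ap (g : HSU B ⧸ H).out c = x
      rw [e, ap_mul, ← hr, LinearEquiv.map_smul, inv_smul_smul₀ hr0, hg]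

end CfsgLib.LocalEvenB.MinIndexSU
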