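import Cfsg.Agent.Lib.LocalEvenB.MinIndexSU.Basic

/-!
The group of Eichler transformations at an isotropic vector of a hyperbolic pair.
-/

set_option autoImplicit false

namespace CfsgLib.LocalEvenB.MinIndexSU

open CfsgLib.Classical CfsgLib.Classical.Herm

variable {F : Type*} [Field F] {V : Type*} [AddCommGroup V] [Module F V] {σ : F →+* F}

/-- A hyperbolic pair. -/
structure HPair (B : V →ₛₗ[σ] V →ₗ[F] F) where
  /-- The centre. -/
  v : V
  /-- The partner. -/
  f : V
  vv : B v v = 0
  ff : B f f = 0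
  vf : B v f = 1

variable {B : V →ₛₗ[σ] V →ₗ[F] F} (h : IsHerm B) (P : HPair B)

namespace HPair

/-- The plane of the pair. -/
abbrev plane : Submodule F V := Submodule.span F ({P.v, P.f} : Set V)

/-- The complement of the pair. -/
abbrev W : Submodule F V := h.orth P.plane

theorem v_mem : P.v ∈ P.plane := Submodule.subset_span (by simp)

theorem f_mem : P.f ∈ P.plane := Submodule.subset_span (by simp)

theorem v_ne : P.v ≠ 0 := fun e => by
  have := P.vf
  rw [e, zero_left] at this
  exact zero_ne_one this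

variable {h}

theorem vw (w : P.W h) : B P.v (w : V) = 0 := h.mem_orth.1 w.2 _ P.v_mem

theorem fw (w : P.W h) : B P.f (w : V) = 0 := h.mem_orth.1 w.2 _ P.f_mem

theorem wv (w : P.W h) : B (w : V) P.v = 0 := h.eq_zero_symm (P.vw w)

theorem wf (w : P.W h) : B (w : V) P.f = 0 := h.eq_zero_symm (P.fw w)

variable (h)

include h in
theorem fv : B P.f P.v = 1 := by rw [← h.symm, P.vf, map_one]

include h in
theorem nondeg : ∀ z ∈ P.plane, (∀ w ∈ P.plane, B z w = 0) → z = 0 :=
  h.pair_nondeg (h.hyperbolic_disc P.vv P.vf)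

theorem mem_W {y : V} (hy1 : B P.v y = 0) (hy2 : B P.f y = 0) : y ∈ P.W h := by
  rw [W, h.mem_orth]
  intro p hp
  obtain ⟨r, s, rfl⟩ := Submodule.mem_span_pair.1 hp
  rw [add_left, smul_left, smul_left, hy1, hy2, mul_zero, mul_zero, add_zero]

variable [Finite F] [FiniteDimensional F V]

theorem finrank_W {d : ℕ} (hd : Module.finrank F V = d + 2) : Module.finrank F (P.W h) = d := by
  have hr := h.finrank_orth (P.nondeg h)
  rw [h.pair_finrank (h.hyperbolic_disc P.vv P.vf)] at hr
  show Module.finrank F (h.orth P.plane) = d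
  omega

include h in
theorem decomp (y : V) : ∃ w : P.W h, y = B P.f y • P.v + B P.v y • P.f + (w : V) :=
  ⟨⟨y - (B P.f y • P.v + B P.v y • P.f), P.mem_W h
    (by simp [map_sub, map_add, smul_right, P.vv, P.vf])
    (by simp [map_sub, map_add, smul_right, P.ff, P.fv h])⟩, by simp⟩

/-- The parameters over a vector. -/
abbrev Par (w : P.W h) : Type _ := {a : F // a + σ a = -B (w : V) w}

/-- An element of the Eichler group. -/
noncomputable def El (w : P.W h) (a : P.Par h w) : HSU B :=
  ⟨h.eich P.vv (P.vw w) a.2, h.det_eich P.vv (P.vw w) a.2⟩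

theorem El_apply (w : P.W h) (a : P.Par h w) (y : V) :
    ap (P.El h w a) y = y + B P.v y • (w : V) + ((a : F) * B P.v y - B (w : V) y) • P.v :=
  h.eich_apply P.vv (P.vw w) a.2 y

theorem El_f (w : P.W h) (a : P.Par h w) :
    ap (P.El h w a) P.f = P.f + (w : V) + (a : F) • P.v := by
  rw [El_apply, P.vf, P.wf w, one_smul, mul_one, sub_zero]

theorem El_v (w : P.W h) (a : P.Par h w) : ap (P.El h w a) P.v = P.v := by
  rw [El_apply, P.vv, P.wv w]; simp

theorem El_W (w : P.W h) (a : P.Par h w) (y : P.W h) :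
    ap (P.El h w a) y = (y : V) - B (w : V) y • P.v := by
  rw [El_apply, P.vw y]; simp [sub_eq_add_neg]

theorem El_inj {w w' : P.W h} {a : P.Par h w} {a' : P.Par h w'}
    (e : P.El h w a = P.El h w' a') : w = w' ∧ (a : F) = a' := by
  have e1 := congrArg (fun g => ap g P.f) e
  simp only [El_f] at e1
  have e2 := congrArg (B P.f) e1
  simp only [map_add, smul_right, P.ff, P.fv h, P.fw w, P.fw w', zero_add, mul_one] at e2
  rw [e2] at e1
  exact ⟨Subtype.ext (add_left_cancel (add_right_cancel e1)), e2⟩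

/-- The parameter of a product. -/
def parMul {w w' : P.W h} (a : P.Par h w) (a' : P.Par h w') : P.Par h (w + w') :=
  ⟨(a : F) + a' - B (w : V) w', by
    have ha := a.2
    have ha' := a'.2
    simp only [Submodule.coe_add, map_add, LinearMap.add_apply, map_sub, h.symm] at *
    linear_combination ha + ha'⟩

theorem El_mul {w w' : P.W h} (a : P.Par h w) (a' : P.Par h w') :
    P.El h w a * P.El h w' a' = P.El h (w + w') (P.parMul h a a') := by
  refine ap_ext fun y => ?_
  simp only [ap_mul, El_apply, parMul, Submodule.coe_add, map_add, LinearMap.add_apply, smul_right,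
    P.vv, P.vw w', P.wv w]
  match_scalars <;> ring

theorem El_congr {w w' : P.W h} (a : P.Par h w) (a' : P.Par h w') (e : w = w') (e' : (a : F) = a') :
    P.El h w a = P.El h w' a' := by
  subst e
  rw [Subtype.ext e']

/-- The zero parameter. -/
def parZero : P.Par h 0 := ⟨0, by simp⟩

theorem El_zero : P.El h 0 (P.parZero h) = 1 := by
  refine ap_ext fun y => ?_
  rw [El_apply, ap_one]
  simp [parZero]

theorem El_inv {w : P.W h} (a : P.Par h w) :
    ∃ a' : P.Par h (-w), (P.El h w a)⁻¹ = P.El h (-w) a' := by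
  refine ⟨⟨σ a, ?_⟩, inv_eq_of_mul_eq_one_right ?_⟩
  · have ha := a.2
    simp only [h.invol.invol, Submodule.coe_neg, map_neg, LinearMap.neg_apply, neg_neg]
    linear_combination ha
  · rw [El_mul, ← P.El_zero h]
    refine P.El_congr h _ _ (add_neg_cancel w) ?_
    have ha := a.2
    simp only [parMul, parZero, Submodule.coe_neg, map_neg]
    linear_combination ha

/-- The Eichler group. -/
noncomputable def EU : Subgroup (HSU B) where
  carrier := {g | ∃ w a, g = P.El h w a}
  mul_mem' := by rintro _ _ ⟨w, a, rfl⟩ ⟨w', a', rfl⟩; exact ⟨_, _, P.El_mul h a a'⟩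
  one_mem' := ⟨_, _, (P.El_zero h).symm⟩
  inv_mem' := by
    rintro _ ⟨w, a, rfl⟩
    obtain ⟨a', e⟩ := P.El_inv h a
    exact ⟨_, _, e⟩

theorem card_Par (w : P.W h) : Nat.card (P.Par h w) = Nat.card (fixedSub σ) := by
  obtain ⟨a₀, ha₀⟩ := h.invol.exists_trace_eq (μ := -B (w : V) w)
    (by rw [map_neg, h.self_fixed])
  rw [← card_skew h]
  refine Nat.card_congr
    { toFun := fun a => ⟨(a : F) - a₀, by rw [mem_skew, map_sub]; linear_combination a.2 - ha₀⟩
      invFun := fun c => ⟨a₀ + c, by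
        have := mem_skew.1 c.2
        rw [map_add]; linear_combination ha₀ + this⟩
      left_inv := fun a => Subtype.ext (add_sub_cancel _ _)
      right_inv := fun c => Subtype.ext (add_sub_cancel_left _ _) }

theorem card_EU {d : ℕ} (hd : Module.finrank F V = d + 2) :
    Nat.card (P.EU h) = Nat.card (fixedSub σ) ^ (2 * d + 1) := by
  have : Finite (P.W h) := Module.finite_of_finite F
  have : Fintype (P.W h) := Fintype.ofFinite _
  let e : (Σ w : P.W h, P.Par h w) → P.EU h := fun p => ⟨P.El h p.1 p.2, _, _, rfl⟩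
  rw [← Nat.card_congr (Equiv.ofBijective e ⟨?_, ?_⟩), Nat.card_sigma,
    Finset.sum_congr rfl (fun w _ => P.card_Par h w), Finset.sum_const, Finset.card_univ,
    smul_eq_mul, ← Nat.card_eq_fintype_card, Module.natCard_eq_pow_finrank (K := F),
    P.finrank_W h hd, h.invol.card_sq]
  · ring
  · rintro ⟨w, a⟩ ⟨w', a'⟩ e'
    obtain ⟨rfl, e2⟩ := P.El_inj h (congrArg Subtype.val e')
    exact congrArg (Sigma.mk w) (Subtype.ext e2)
  · rintro ⟨_, w, a, rfl⟩
    exact ⟨⟨w, a⟩, rfl⟩

/-- A transvection at the centre. -/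
noncomputable abbrev Tv {c : F} (hc : c + σ c = 0) : HSU B := MinIndexSU.T h P.vv hc

theorem Tv_mul_El {c : F} (hc : c + σ c = 0) {w : P.W h} (a : P.Par h w) :
    P.Tv h hc * P.El h w a = P.El h w ⟨(a : F) + c, by
      rw [map_add]; linear_combination a.2 + hc⟩ := by
  refine ap_ext fun y => ?_
  simp only [ap_mul, El_apply, MinIndexSU.T_apply, map_add, smul_right, P.vv, P.vw w]
  match_scalars <;> ring

theorem El_comm_Tv {c : F} (hc : c + σ c = 0) {w : P.W h} (a : P.Par h w) :
    P.El h w a * P.Tv h hc = P.Tv h hc * P.El h w a := by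
  refine ap_ext fun y => ?_
  simp only [ap_mul, El_apply, MinIndexSU.T_apply, map_add, smul_right, P.vv, P.vw w, P.wv w]
  match_scalars <;> ring

theorem EU_comm_Tv {c : F} (hc : c + σ c = 0) {u : HSU B} (hu : u ∈ P.EU h) :
    u * P.Tv h hc = P.Tv h hc * u := by
  obtain ⟨w, a, rfl⟩ := hu
  exact P.El_comm_Tv h hc a

theorem Tv_mem {c : F} (hc : c + σ c = 0) : P.Tv h hc ∈ P.EU h := by
  have : P.Tv h hc = P.Tv h hc * P.El h 0 (P.parZero h) := by rw [El_zero, mul_one]
  rw [this, Tv_mul_El]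
  exact ⟨_, _, rfl⟩

/-- An element fixing the line of the centre and the complement of the pair. -/
structure Levi (g : HSU B) (α : F) : Prop where
  v : ap g P.v = α • P.v
  W : ∀ w : P.W h, ap g w ∈ P.W h

variable {P h}

theorem Levi.scalar_ne {g : HSU B} {α : F} (hg : P.Levi h g α) : α ≠ 0 := fun e => by
  have := hg.v
  rw [e, zero_smul] at this
  exact P.v_ne ((ap g).injective (this.trans (map_zero _).symm))

/-- The image of a vector of the complement. -/
noncomputable def Levi.map {g : HSU B} {α : F} (hg : P.Levi h g α) : P.W h →ₗ[F] P.W h :=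
  σ α • ((ap g).toLinearMap.restrict (fun x hx => hg.W ⟨x, hx⟩))

theorem Levi.map_coe {g : HSU B} {α : F} (hg : P.Levi h g α) (w : P.W h) :
    (hg.map w : V) = σ α • ap g w := rfl

theorem Levi.map_bijective {g : HSU B} {α : F} (hg : P.Levi h g α) :
    Function.Bijective hg.map := by
  have : Finite (P.W h) := Module.finite_of_finite F
  refine Finite.injective_iff_bijective.1 fun a b e => Subtype.ext ?_
  have e1 : σ α • ap g (a : V) = σ α • ap g (b : V) := congrArg Subtype.val e
  exact (ap g).injective (smul_right_injective V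
    (fun e0 => hg.scalar_ne (IsInvol.apply_eq_zero_iff.1 e0)) e1)

theorem Levi.mul_El {g : HSU B} {α : F} (hg : P.Levi h g α) {w : P.W h} (a : P.Par h w) :
    g * P.El h w a = P.El h (hg.map w) ⟨α * σ α * a, by
      rw [Levi.map_coe, IsHerm.smul_self, ap_eq, h.invol.invol, map_mul, map_mul, h.invol.invol]
      linear_combination (α * σ α) * a.2⟩ * g := by
  refine ap_ext fun y => ?_
  have h1 : B P.v y = σ α * B P.v (ap g y) := by
    conv_lhs => rw [← ap_eq g, hg.v, smul_left]
  simp only [ap_mul]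
  rw [El_apply, El_apply]
  simp only [map_add, LinearEquiv.map_smul, hg.v, Levi.map_coe, smul_left,
    ap_eq, h.invol.invol, smul_smul, h1]
  match_scalars <;> ring

theorem Levi.mul_Tv {g : HSU B} {α : F} (hg : P.Levi h g α) {c : F} (hc : c + σ c = 0) :
    g * P.Tv h hc = P.Tv h (show α * σ α * c + σ (α * σ α * c) = 0 by
      rw [map_mul, map_mul, h.invol.invol]; linear_combination (α * σ α) * hc) * g := by
  refine ap_ext fun y => ?_
  have h1 : B P.v y = σ α * B P.v (ap g y) := by
    conv_lhs => rw [← ap_eq g, hg.v, smul_left]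
  simp only [ap_mul, MinIndexSU.T_apply, map_add, LinearEquiv.map_smul, hg.v, smul_smul, h1]
  match_scalars <;> ring

theorem Levi.comp {g k : HSU B} {α β : F} (hg : P.Levi h g α) (hk : P.Levi h k β) :
    P.Levi h (g * k) (α * β) :=
  ⟨by rw [ap_mul, hk.v, LinearEquiv.map_smul, hg.v, smul_smul, mul_comm β],
    fun w => by rw [ap_mul]; exact hg.W ⟨_, hk.W w⟩⟩

variable (P h)

theorem levi_ext' (b : HSU (IsHerm.restrict B (P.W h))) :
    P.Levi h (MinIndexSU.ext' h (P.nondeg h) b) 1 :=
  ⟨by rw [MinIndexSU.ext'_fix h _ b P.v_mem, one_smul],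
    fun w => by rw [MinIndexSU.ext'_apply]; exact Subtype.coe_prop _⟩

theorem map_ext' (b : HSU (IsHerm.restrict B (P.W h))) (w : P.W h) :
    (P.levi_ext' h b).map w = ap b w := by
  refine Subtype.ext ?_
  rw [Levi.map_coe, map_one, one_smul, MinIndexSU.ext'_apply]

theorem exists_levi (hW : 1 ≤ Module.finrank F (P.W h)) {α : F} (hα : α ≠ 0) :
    ∃ g, P.Levi h g α := by
  have hnd := h.orth_nondeg (P.nondeg h)
  obtain ⟨y, hy, hyy⟩ := h.exists_norm_in hnd hW (map_one σ)
  have hy0 : B y y ≠ 0 := by rw [hyy]; exact one_ne_zero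
  obtain ⟨g₀, hdet, hg₀⟩ := h.exists_dilation P.vv P.ff P.vf hα
  have hd : ((HU.det B g₀)⁻¹ : Fˣ).val * σ ((HU.det B g₀)⁻¹ : Fˣ).val = 1 := by
    rw [Units.val_inv_eq_inv_val, map_inv₀, ← mul_inv, h.det_norm_one g₀, inv_one]
  refine ⟨⟨g₀ * h.quasiIso y hy0 _ hd, ?_⟩, ⟨?_, fun w => ?_⟩⟩
  · rw [MonoidHom.mem_ker, map_mul, h.det_quasiIso, mul_inv_cancel]
  · show (g₀ : V ≃ₗ[F] V) (quasi B y hy0 _ P.v) = _
    rw [quasi_apply_perp _ _ _ (P.wv ⟨y, hy⟩), hg₀ P.v P.vv, P.fv h, mul_one]
    module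
  · show (g₀ : V ≃ₗ[F] V) (quasi B y hy0 _ w) ∈ P.W h
    have hq : quasi B y hy0 (HU.det B g₀)⁻¹ (w : V) ∈ P.W h := by
      rw [quasi_apply]
      exact Submodule.add_mem _ w.2 (Submodule.smul_mem _ _ hy)
    rw [hg₀ _ (P.vw ⟨_, hq⟩), P.fw ⟨_, hq⟩, mul_zero, zero_smul, add_zero]
    exact hq

end HPair

end CfsgLib.LocalEvenB.MinIndexSU
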