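import Cfsg.Agent.Lib.LocalEvenB.MinIndexSU.Counts
import Mathlib.Algebra.Group.Pointwise.Set.Basic
import Mathlib.GroupTheory.Index

/-!
Orbits of the special unitary group on small additive subgroups of its space: they are long.
-/

set_option autoImplicit false

namespace CfsgLib.LocalEvenB.MinIndexSU

open CfsgLib.Classical CfsgLib.Classical.Herm
open scoped Pointwise

variable {F : Type*} [Field F] {V : Type*} [AddCommGroup V] [Module F V] {σ : F →+* F}

/-- Small non-trivial additive subgroups have long orbits. -/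
def Amp (B : V →ₛₗ[σ] V →ₗ[F] F) (d P : ℕ) : Prop :=
  ∀ s : AddSubgroup V, s ≠ ⊥ → Nat.card s ≤ Nat.card (fixedSub σ) ^ d →
    P * Nat.card s ≤
      (MulAction.orbit (HSU B) (s : Set V)).ncard * Nat.card (fixedSub σ) ^ (2 * d + 1)

variable {B : V →ₛₗ[σ] V →ₗ[F] F}

theorem smul_mem_iff (g : HSU B) (x : V) (t : Set V) : ap g x ∈ g • t ↔ x ∈ t :=
  Set.smul_mem_smul_set_iff

theorem exists_sub_of_mem_orbit {s : AddSubgroup V} {t : Set V}
    (ht : t ∈ MulAction.orbit (HSU B) (s : Set V)) :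
    (∀ a ∈ t, ∀ b ∈ t, a + b ∈ t) ∧ Nat.card t = Nat.card s := by
  obtain ⟨g, rfl⟩ := ht
  refine ⟨?_, ?_⟩
  · rintro _ ⟨a, ha, rfl⟩ _ ⟨b, hb, rfl⟩
    exact ⟨a + b, s.add_mem ha hb, map_add (ap g) a b⟩
  · exact Nat.card_image_of_injective (f := fun x => g • x) (MulAction.injective g) _

variable [Finite V]

/-- The orbit of a member, counted with the members containing it. -/
theorem card_orbit_mul_le (s : AddSubgroup V) (w : V) :
    (MulAction.orbit (HSU B) w).ncard *
        Nat.card {t : MulAction.orbit (HSU B) (s : Set V) // w ∈ (t : Set V)} ≤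
      (MulAction.orbit (HSU B) (s : Set V)).ncard * Nat.card s := by
  rw [← Nat.card_coe_set_eq, ← Nat.card_coe_set_eq]
  set 𝒪 := MulAction.orbit (HSU B) (s : Set V)
  set X := MulAction.orbit (HSU B) w
  have : Finite (Set V) := inferInstance
  have : Fintype X := Fintype.ofFinite _
  have : Fintype 𝒪 := Fintype.ofFinite _
  have e1 : ∀ x : X, Nat.card {t : 𝒪 // (x : V) ∈ (t : Set V)} =
      Nat.card {t : 𝒪 // w ∈ (t : Set V)} := by
    rintro ⟨_, g, rfl⟩
    refine (Nat.card_congr ((MulAction.toPerm g : Equiv.Perm 𝒪).subtypeEquiv fun t => ?_)).symm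
    exact (smul_mem_iff g w _).symm
  have e2 : ∀ t : 𝒪, Nat.card {x : X // (x : V) ∈ (t : Set V)} ≤ Nat.card s := by
    intro t
    rw [← (exists_sub_of_mem_orbit t.2).2]
    exact Nat.card_le_card_of_injective (fun x => (⟨(x : X), x.2⟩ : (t : Set V)))
      fun a b e => Subtype.ext (Subtype.ext (congrArg (fun z : (t : Set V) => (z : V)) e))
  have h1 : Nat.card ((x : X) × {t : 𝒪 // (x : V) ∈ (t : Set V)}) =
      Nat.card X * Nat.card {t : 𝒪 // w ∈ (t : Set V)} := by
    rw [Nat.card_sigma, Finset.sum_congr rfl fun x _ => e1 x, Finset.sum_const, Finset.card_univ,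
      smul_eq_mul, Nat.card_eq_fintype_card (α := X)]
  have h2 : Nat.card ((t : 𝒪) × {x : X // (x : V) ∈ (t : Set V)}) ≤
      Nat.card 𝒪 * Nat.card s := by
    rw [Nat.card_sigma, Nat.card_eq_fintype_card (α := 𝒪), ← smul_eq_mul, ← Finset.card_univ,
      ← Finset.sum_const]
    exact Finset.sum_le_sum fun t _ => e2 t
  rw [← h1]
  refine le_trans (le_of_eq (Nat.card_congr ?_)) h2
  exact { toFun := fun p => ⟨p.2.1, p.1, p.2.2⟩
          invFun := fun p => ⟨p.2.1, p.1, p.2.2⟩
          left_inv := fun _ => rfl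
          right_inv := fun _ => rfl }

theorem card_orbit_le (s : AddSubgroup V) {w : V} (hw : w ∈ s) :
    (MulAction.orbit (HSU B) w).ncard ≤
      (MulAction.orbit (HSU B) (s : Set V)).ncard * Nat.card s := by
  refine le_trans (Nat.le_mul_of_pos_right _ ?_) (card_orbit_mul_le s w)
  have : Nonempty {t : MulAction.orbit (HSU B) (s : Set V) // w ∈ (t : Set V)} :=
    ⟨⟨⟨_, MulAction.mem_orbit_self _⟩, hw⟩⟩
  exact Nat.card_pos

/-- The double count over a pair, halved by a character. -/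
theorem two_mul_pair_le (s : AddSubgroup V) {w w' : V} (hw : w ∈ s) (hw' : w' ∈ s) (X : Set V)
    (hX : ∀ x ∈ X, ∃ g : HSU B, ap g w = w ∧ ap g w' = x) (c : F) (hXc : ∀ x ∈ X, B w x = c)
    (hc : B w w ≠ 0 ∨ c ≠ 0) :
    2 * X.ncard * (MulAction.orbit (HSU B) w).ncard ≤
      (MulAction.orbit (HSU B) (s : Set V)).ncard * (Nat.card s * Nat.card s) := by
  set 𝒪 := MulAction.orbit (HSU B) (s : Set V)
  set T₀ := {t : 𝒪 // w ∈ (t : Set V)}
  have : Finite (Set V) := inferInstance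
  have : Fintype T₀ := Fintype.ofFinite _
  have hhalf : ∀ t : T₀, 2 * Nat.card {x : X // (x : V) ∈ (t.1 : Set V)} ≤ Nat.card s := by
    intro t
    obtain ⟨hadd, hcard⟩ := exists_sub_of_mem_orbit t.1.2
    by_cases hne : IsEmpty {x : X // (x : V) ∈ (t.1 : Set V)}
    · rw [Nat.card_of_isEmpty]; omega
    rw [not_isEmpty_iff] at hne
    obtain ⟨x₀⟩ := hne
    obtain ⟨z, hz, hwz⟩ : ∃ z ∈ (t.1 : Set V), B w z ≠ 0 := by
      rcases hc with hc | hc
      · exact ⟨w, t.2, hc⟩
      · exact ⟨_, x₀.2, by rw [hXc _ x₀.1.2]; exact hc⟩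
    rw [← hcard, show 2 * Nat.card {x : X // (x : V) ∈ (t.1 : Set V)} =
      Nat.card ({x : X // (x : V) ∈ (t.1 : Set V)} ⊕ {x : X // (x : V) ∈ (t.1 : Set V)}) by
        rw [Nat.card_sum]; ring]
    refine Nat.card_le_card_of_injective
      (Sum.elim (fun x => (⟨(x.1 : V), x.2⟩ : (t.1 : Set V)))
        (fun x => ⟨(x.1 : V) + z, hadd _ x.2 _ hz⟩)) ?_
    have hne' : ∀ x y : X, (x : V) ≠ (y : V) + z := fun x y e => hwz (by
      have := congrArg (B w) e
      rwa [map_add, hXc _ x.2, hXc _ y.2, left_eq_add] at this)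
    rintro (x | x) (y | y) e <;> simp only [Sum.elim_inl, Sum.elim_inr, Subtype.mk.injEq] at e
    · rw [Subtype.ext (Subtype.ext e)]
    · exact absurd e (hne' _ _)
    · exact absurd e.symm (hne' _ _)
    · rw [Subtype.ext (Subtype.ext (add_right_cancel e))]
  have h1 : 2 * Nat.card X ≤ Nat.card T₀ * Nat.card s := by
    have h2 : Nat.card X ≤ Nat.card ((t : T₀) × {x : X // (x : V) ∈ (t.1 : Set V)}) := by
      have key : ∀ x : X, ∃ t : T₀, (x : V) ∈ (t.1 : Set V) := by
        rintro ⟨x, hx⟩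
        obtain ⟨g, hgw, hgx⟩ := hX x hx
        refine ⟨⟨⟨g • (s : Set V), g, rfl⟩, ?_⟩, ?_⟩
        · show w ∈ g • (s : Set V)
          rw [← hgw]
          exact (smul_mem_iff g w _).2 hw
        · show x ∈ g • (s : Set V)
          rw [← hgx]
          exact (smul_mem_iff g w' _).2 hw'
      choose t ht using key
      exact Nat.card_le_card_of_injective
        (fun x => (⟨t x, x, ht x⟩ : (t : T₀) × {x : X // (x : V) ∈ (t.1 : Set V)}))
        fun a b e => congrArg
          (fun p : (t : T₀) × {x : X // (x : V) ∈ (t.1 : Set V)} => p.2.1) e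
    refine (Nat.mul_le_mul_left 2 h2).trans ?_
    rw [Nat.card_sigma, Finset.mul_sum, Nat.card_eq_fintype_card (α := T₀), ← smul_eq_mul,
      ← Finset.card_univ, ← Finset.sum_const]
    exact Finset.sum_le_sum fun t _ => hhalf t
  rw [← Nat.card_coe_set_eq X]
  calc 2 * Nat.card X * (MulAction.orbit (HSU B) w).ncard
      ≤ Nat.card T₀ * Nat.card s * (MulAction.orbit (HSU B) w).ncard := Nat.mul_le_mul_right _ h1
    _ = (MulAction.orbit (HSU B) w).ncard * Nat.card T₀ * Nat.card s := by ring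
    _ ≤ 𝒪.ncard * Nat.card s * Nat.card s := Nat.mul_le_mul_right _ (card_orbit_mul_le s w)
    _ = _ := by ring

omit [Finite V] in
theorem orbit_eq_norm (h : IsHerm B) [Finite F] [FiniteDimensional F V]
    (h3 : 3 ≤ Module.finrank F V) {w : V} (hw : w ≠ 0) :
    (MulAction.orbit (HSU B) w).ncard = Nat.card {x : V // x ≠ 0 ∧ B x x = B w w} := by
  rw [← Nat.card_coe_set_eq]
  refine Nat.card_congr (Equiv.subtypeEquivRight fun x => ⟨?_, fun ⟨hx, hxx⟩ => ?_⟩)
  · rintro ⟨g, rfl⟩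
    exact ⟨fun e => hw ((ap g).injective (e.trans (map_zero (ap g)).symm)), ap_eq g w w⟩
  · obtain ⟨g, e⟩ := exists_map h h3 hw hx hxx.symm
    exact ⟨g, e⟩

/-- The inductive step: a large minimal index makes the orbits long. -/
theorem amp_of_index (h : IsHerm B) [Finite F] [FiniteDimensional F V] {d P P' : ℕ}
    (hd : Module.finrank F V = d) (hd4 : 4 ≤ d) (hP : P ≤ 2 * Nat.card (fixedSub σ) ^ (2 * d + 1))
    (hP' : 2 * Nat.card (fixedSub σ) ^ d ≤ P')
    (hidx : ∀ H : Subgroup (HSU B), H ≠ ⊤ → P' ≤ H.index) : Amp B d P := by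
  intro s hs hcard
  set q := Nat.card (fixedSub σ) with hq
  have hq2 : 2 ≤ q := IsInvol.card_ge_two (σ := σ)
  by_cases hst : MulAction.stabilizer (HSU B) (s : Set V) = ⊤
  · exfalso
    obtain ⟨w, hws, hw0⟩ : ∃ w ∈ s, w ≠ 0 := by
      by_contra hc
      push Not at hc
      exact hs ((AddSubgroup.eq_bot_iff_forall s).2 hc)
    have h1 : (MulAction.orbit (HSU B) w).ncard ≤ Nat.card s := by
      rw [← Nat.card_coe_set_eq]
      refine Nat.card_mono (Set.toFinite (s : Set V)) ?_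
      rintro _ ⟨g, rfl⟩
      have hg : g • (s : Set V) = s := MulAction.mem_stabilizer_iff.1 (hst ▸ Subgroup.mem_top g)
      rw [← hg]
      exact Set.smul_mem_smul_set hws
    obtain ⟨m, rfl⟩ : ∃ m, d = m + 2 := ⟨d - 2, by omega⟩
    have h2 := le_card_norm h hd (h.self_fixed w)
    rw [← orbit_eq_norm h (by omega) hw0] at h2
    have h3 : q ^ 3 ≤ q ^ (m + 1) := Nat.pow_le_pow_right (by omega) (by omega)
    have h4 : 2 ^ 3 ≤ q ^ 3 := Nat.pow_le_pow_left hq2 3
    have h5 : q ^ (m + 1) ≤ q ^ (m + 2) := Nat.pow_le_pow_right (by omega) (by omega)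
    have h6 : 3 * (q ^ (m + 2) - 1) ≤ (q ^ (m + 1) - 1) * (q ^ (m + 2) - 1) :=
      Nat.mul_le_mul_right _ (by omega)
    rw [← hq] at h2
    omega
  · have h1 := hidx _ hst
    rw [MulAction.index_stabilizer] at h1
    calc P * Nat.card s ≤ 2 * q ^ (2 * d + 1) * q ^ d := Nat.mul_le_mul hP hcard
      _ = 2 * q ^ d * q ^ (2 * d + 1) := by ring
      _ ≤ _ := Nat.mul_le_mul_right _ (hP'.trans h1)

end CfsgLib.LocalEvenB.MinIndexSU
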