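import Cfsg.Agent.Lib.LocalEvenB.MinIndexSU.Pair
import Cfsg.Agent.Lib.LocalEvenB.MinIndexSU.Small
import Cfsg.Agent.Lib.LocalEvenB.MinIndexSU.Classes
import Mathlib.Algebra.Module.ZMod
import Mathlib.LinearAlgebra.Dual.Lemmas

/-!
How the Eichler group at an isotropic vector acts on a small transitive set.
-/

set_option autoImplicit false

namespace CfsgLib.LocalEvenB.MinIndexSU

open CfsgLib.Classical CfsgLib.Classical.Herm
open scoped Pointwise

/-- An elementary abelian group is as large as the group of its characters. -/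
theorem card_hom_zmod {p : ℕ} [Fact p.Prime] (A : Type*) [AddCommGroup A] [Finite A]
    [Module (ZMod p) A] : Nat.card (A →+ ZMod p) = Nat.card A := by
  rw [Nat.card_congr (⟨fun f => f.toZModLinearMap p, fun f => f.toAddMonoidHom,
      fun _ => AddMonoidHom.ext fun _ => rfl, fun _ => LinearMap.ext fun _ => rfl⟩ :
      (A →+ ZMod p) ≃ Module.Dual (ZMod p) A),
    Module.natCard_eq_pow_finrank (K := ZMod p), Module.natCard_eq_pow_finrank (K := ZMod p) (V := A),
    Subspace.dual_finrank_eq]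

variable {F : Type*} [Field F] {V : Type*} [AddCommGroup V] [Module F V] {σ : F →+* F}
  {B : V →ₛₗ[σ] V →ₗ[F] F} (h : IsHerm B) [Finite F] [FiniteDimensional F V]
  {Ω : Type*} [MulAction (HSU B) Ω]

namespace HPair

variable (P : HPair B)

theorem Tv_add {a b : F} (ha : a + σ a = 0) (hb : b + σ b = 0) :
    P.Tv h ha * P.Tv h hb =
      P.Tv h (c := a + b) (by rw [map_add]; linear_combination ha + hb) := by
  refine ap_ext fun y => ?_
  rw [ap_mul, MinIndexSU.T_apply, MinIndexSU.T_apply, MinIndexSU.T_apply, map_add, smul_right,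
    P.vv]
  match_scalars <;> ring

/-- The skew elements whose transvection fixes a point. -/
def A (ω : Ω) : AddSubgroup F where
  carrier := {c | ∃ hc : c + σ c = 0, P.Tv h hc • ω = ω}
  add_mem' := by
    rintro a b ⟨ha, e1⟩ ⟨hb, e2⟩
    exact ⟨(skew σ).add_mem ha hb, by rw [← P.Tv_add h ha hb, mul_smul, e2, e1]⟩
  zero_mem' := by
    refine ⟨by simp, ?_⟩
    convert one_smul (HSU B) ω using 2
    exact ap_ext fun y => by simp [MinIndexSU.T_apply, ap_one]
  neg_mem' := by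
    rintro a ⟨ha, e⟩
    refine ⟨(skew σ).neg_mem ha, ?_⟩
    conv_lhs => rw [← e, ← mul_smul, P.Tv_add h ((skew σ).neg_mem ha) ha]
    convert one_smul (HSU B) ω using 2
    exact ap_ext fun y => by simp [MinIndexSU.T_apply, ap_one]

theorem mem_A {ω : Ω} {c : F} : c ∈ P.A h ω ↔ ∃ hc : c + σ c = 0, P.Tv h hc • ω = ω := Iff.rfl

theorem A_le (ω : Ω) : P.A h ω ≤ skew σ := fun _ ⟨hc, _⟩ => hc

/-- The projection of a point stabiliser to the complement. -/
def W₀ (ω : Ω) : AddSubgroup (P.W h) where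
  carrier := {w | ∃ a, P.El h w a • ω = ω}
  add_mem' := by
    rintro w w' ⟨a, e1⟩ ⟨a', e2⟩
    exact ⟨_, by rw [← P.El_mul h a a', mul_smul, e2, e1]⟩
  zero_mem' := ⟨P.parZero h, by rw [El_zero, one_smul]⟩
  neg_mem' := by
    rintro w ⟨a, e⟩
    obtain ⟨a', e'⟩ := P.El_inv h a
    exact ⟨a', by rw [← e', inv_smul_eq_iff, e]⟩

theorem mem_W₀ {ω : Ω} {w : P.W h} : w ∈ P.W₀ h ω ↔ ∃ a, P.El h w a • ω = ω := Iff.rfl

theorem A_orbit {ω : Ω} {u : HSU B} (hu : u ∈ P.EU h) : P.A h (u • ω) = P.A h ω := by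
  ext c
  refine exists_congr fun hc => ?_
  rw [← mul_smul, ← P.EU_comm_Tv h hc hu, mul_smul, smul_left_cancel_iff]

theorem W₀_le_orbit {ω : Ω} {u : HSU B} (hu : u ∈ P.EU h) {w : P.W h} (hw : w ∈ P.W₀ h ω) :
    w ∈ P.W₀ h (u • ω) := by
  obtain ⟨a, e⟩ := hw
  obtain ⟨w₁, a₁, rfl⟩ := hu
  refine ⟨⟨(a : F) + (B (w : V) w₁ - B (w₁ : V) w), by
    rw [map_add, map_sub, h.symm, h.symm]; linear_combination a.2⟩, ?_⟩
  rw [← mul_smul]
  conv_rhs => rw [← e, ← mul_smul]
  congr 1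
  rw [El_mul, El_mul]
  refine P.El_congr h _ _ (add_comm _ _) ?_
  simp only [parMul]
  ring

theorem W₀_orbit {ω : Ω} {u : HSU B} (hu : u ∈ P.EU h) : P.W₀ h (u • ω) = P.W₀ h ω := by
  refine le_antisymm (fun w hw => ?_) fun w hw => P.W₀_le_orbit h hu hw
  have := P.W₀_le_orbit h ((P.EU h).inv_mem hu) hw
  rwa [inv_smul_smul] at this

theorem commutator_mem {ω : Ω} {w w' : P.W h} (hw : w ∈ P.W₀ h ω) (hw' : w' ∈ P.W₀ h ω) :
    B (w' : V) w - B (w : V) w' ∈ P.A h ω := by
  obtain ⟨a, e⟩ := hw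
  obtain ⟨a', e'⟩ := hw'
  have hc : B (w' : V) w - B (w : V) w' + σ (B (w' : V) w - B (w : V) w') = 0 := by
    rw [map_sub, h.symm, h.symm]; ring
  refine ⟨hc, ?_⟩
  have key : P.El h w a * P.El h w' a' = P.Tv h hc * (P.El h w' a' * P.El h w a) := by
    rw [El_mul, El_mul, Tv_mul_El]
    refine P.El_congr h _ _ (add_comm _ _) ?_
    simp only [parMul]
    ring
  have := congrArg (· • ω) key
  simpa only [mul_smul, e, e'] using this.symm

theorem card_orbit_EU [Finite Ω] {d : ℕ} (hd : Module.finrank F V = d + 2) (ω : Ω) :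
    Nat.card (fixedSub σ) ^ (2 * d + 1) ≤ (MulAction.orbit (P.EU h) ω).ncard *
      (Nat.card (P.A h ω) * Nat.card (P.W₀ h ω)) := by
  classical
  have : Finite V := Module.finite_of_finite F
  have := finite_HSU (B := B)
  have : Fintype (P.EU h) := Fintype.ofFinite _
  have : Fintype (MulAction.stabilizer (P.EU h) ω) := Fintype.ofFinite _
  have : Fintype (MulAction.orbit (P.EU h) ω) := Fintype.ofFinite _
  have h1 := MulAction.card_orbit_mul_card_stabilizer_eq_card_group (P.EU h) ω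
  rw [← Nat.card_eq_fintype_card, ← Nat.card_eq_fintype_card, ← Nat.card_eq_fintype_card,
    P.card_EU h hd, Nat.card_coe_set_eq] at h1
  rw [← h1]
  refine Nat.mul_le_mul_left _ ?_
  rw [← Nat.card_prod]
  have sec : ∀ w : P.W₀ h ω, ∃ a, P.El h w a • ω = ω := fun w => w.2
  choose sec hsec using sec
  have dec : ∀ s : MulAction.stabilizer (P.EU h) ω,
      ∃ p : P.A h ω × P.W₀ h ω, ((s : P.EU h) : HSU B) =
        P.Tv h (P.A_le h ω p.1.2) * P.El h p.2 (sec p.2) := by
    rintro ⟨⟨_, w, a, rfl⟩, hs⟩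
    have hfix : P.El h w a • ω = ω := MulAction.mem_stabilizer_iff.1 hs
    set w₀ : P.W₀ h ω := ⟨w, a, hfix⟩
    have hc : (a : F) - sec w₀ + σ ((a : F) - sec w₀) = 0 := by
      rw [map_sub]; linear_combination a.2 - (sec w₀).2
    have e : P.El h w a = P.Tv h hc * P.El h w₀ (sec w₀) := by
      rw [Tv_mul_El]
      refine P.El_congr h _ _ rfl ?_
      simp
    have hA : P.Tv h hc • ω = ω := by
      conv_rhs => rw [← hfix, e, mul_smul, hsec w₀]
    exact ⟨(⟨_, hc, hA⟩, w₀), e⟩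
  choose dec hdec using dec
  exact Nat.card_le_card_of_injective dec fun s t e =>
    Subtype.ext (Subtype.ext (by rw [hdec s, hdec t, e]))

include h in
theorem skew_not_top {ω : Ω} {c : F} {hc : c + σ c = 0} (hm : P.Tv h hc • ω ≠ ω) : c ∉ P.A h ω :=
  fun ⟨_, e⟩ => hm e

theorem card_W₀_le {d : ℕ} (hd : Module.finrank F V = d + 2) {ω : Ω} {c₀ : F}
    {hc₀ : c₀ + σ c₀ = 0} (hm : P.Tv h hc₀ • ω ≠ ω) :
    Nat.card (P.W₀ h ω) ≤ Nat.card (fixedSub σ) ^ d := by
  classical
  obtain ⟨p, hp⟩ := CharP.exists F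
  have : Fact p.Prime := ⟨(CharP.char_is_prime_or_zero F p).resolve_right
    (CharP.char_ne_zero_of_finite F p)⟩
  have hpF : ∀ x : F, p • x = 0 := fun x => by rw [nsmul_eq_mul, CharP.cast_eq_zero, zero_mul]
  have hpW : ∀ x : P.W h, p • x = 0 := fun x => by
    rw [← Nat.cast_smul_eq_nsmul F, CharP.cast_eq_zero, zero_smul]
  let A' : AddSubgroup (skew σ) := (P.A h ω).addSubgroupOf (skew σ)
  let mk : skew σ →+ skew σ ⧸ A' := QuotientAddGroup.mk' A'
  have : Module (ZMod p) (skew σ ⧸ A') := AddCommGroup.zmodModule fun x => by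
    induction x using QuotientAddGroup.induction_on with
    | _ y =>
      rw [← QuotientAddGroup.mk_nsmul, show p • y = 0 from Subtype.ext (hpF y)]
      exact QuotientAddGroup.mk_zero A'
  obtain ⟨φ, hφ⟩ : ∃ φ : (skew σ ⧸ A') →ₗ[ZMod p] ZMod p, φ (mk ⟨c₀, hc₀⟩) ≠ 0 := by
    by_contra hc
    push Not at hc
    have := (Module.forall_dual_apply_eq_zero_iff (ZMod p) _).1 hc
    exact skew_not_top h P hm (AddSubgroup.mem_addSubgroupOf.1 ((QuotientAddGroup.eq_zero_iff _).1 this))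
  have hskew : ∀ w w' : P.W h, B (w' : V) w - B (w : V) w' ∈ skew σ := fun w w' => by
    rw [mem_skew, map_sub, h.symm, h.symm]; ring
  let ψ : P.W h → P.W h →+ ZMod p := fun w =>
    AddMonoidHom.mk' (fun w' => φ (mk ⟨_, hskew w w'⟩)) fun a b => by
      rw [← map_add, ← map_add]
      congr 2
      exact Subtype.ext (by
        show B ((a + b : P.W h) : V) w - B (w : V) ((a + b : P.W h) : V) = _
        rw [Submodule.coe_add, add_left, map_add]
        show _ = (B (a : V) w - B (w : V) a) + (B (b : V) w - B (w : V) b)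
        ring)
  have hψ0 : ∀ w, ψ w = 0 → w = 0 := by
    intro w hw
    by_contra hne
    obtain ⟨y, hy⟩ := (h.restrict_herm (h.orth_nondeg (P.nondeg h))).exists_apply_eq_one hne
    rw [IsHerm.restrict_apply] at hy
    have hy' : B (y : V) w = 1 := by rw [← h.symm, hy, map_one]
    obtain ⟨t, ht⟩ := h.invol.exists_trace_eq (μ := (1 : F)) (map_one σ)
    apply hφ
    have := DFunLike.congr_fun hw (σ (c₀ * t) • y)
    refine Eq.trans ?_ this
    show φ (mk _) = φ (mk _)
    congr 2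
    refine Subtype.ext ?_
    show c₀ = B ((σ (c₀ * t) • y : P.W h) : V) w - B (w : V) ((σ (c₀ * t) • y : P.W h) : V)
    rw [Submodule.coe_smul, smul_left, smul_right, h.invol.invol, hy, hy', map_mul,
      eq_neg_of_add_eq_zero_right hc₀]
    linear_combination -c₀ * ht
  have hvan : ∀ w : P.W₀ h ω, P.W₀ h ω ≤ (ψ w).ker := fun w w' hw' => by
    show φ (mk _) = 0
    rw [(QuotientAddGroup.eq_zero_iff _).2 (AddSubgroup.mem_addSubgroupOf.2
      (P.commutator_mem h w.2 hw') : (⟨_, hskew (w : P.W h) w'⟩ : skew σ) ∈ A') |>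
      (show mk ⟨_, hskew (w : P.W h) w'⟩ = 0 from ·), map_zero]
  let Φ : P.W₀ h ω → (P.W h ⧸ P.W₀ h ω →+ ZMod p) := fun w =>
    QuotientAddGroup.lift _ (ψ w) (hvan w)
  have hΦ : Function.Injective Φ := by
    intro a b e
    have : ψ ((a : P.W h) - b) = 0 := by
      ext x
      have e1 : ψ a x = ψ b x := DFunLike.congr_fun e (QuotientAddGroup.mk x)
      show φ (mk _) = 0
      rw [show (⟨_, hskew ((a : P.W h) - b) x⟩ : skew σ) =
        ⟨_, hskew (a : P.W h) x⟩ - ⟨_, hskew (b : P.W h) x⟩ from Subtype.ext (by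
          show B (x : V) ((a : P.W h) - b : P.W h) - B (((a : P.W h) - b : P.W h) : V) x =
            (B (x : V) (a : P.W h) - B ((a : P.W h) : V) x) -
              (B (x : V) (b : P.W h) - B ((b : P.W h) : V) x)
          rw [Submodule.coe_sub, map_sub, sub_left]
          ring), map_sub, map_sub]
      exact sub_eq_zero.2 e1
    exact Subtype.ext (sub_eq_zero.1 (hψ0 _ this))
  have : Finite (P.W h) := Module.finite_of_finite F
  have : Module (ZMod p) (P.W h ⧸ P.W₀ h ω) := AddCommGroup.zmodModule fun x => by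
    induction x using QuotientAddGroup.induction_on with
    | _ y => rw [← QuotientAddGroup.mk_nsmul, hpW, QuotientAddGroup.mk_zero]
  have : Finite (P.W h ⧸ P.W₀ h ω →+ ZMod p) := DFunLike.finite _
  have h1 : Nat.card (P.W₀ h ω) ≤ Nat.card (P.W h ⧸ P.W₀ h ω) := by
    rw [← card_hom_zmod (p := p) (P.W h ⧸ P.W₀ h ω)]
    exact Nat.card_le_card_of_injective _ hΦ
  have h2 := AddSubgroup.card_eq_card_quotient_mul_card_addSubgroup (P.W₀ h ω)
  rw [Module.natCard_eq_pow_finrank (K := F), h.invol.card_sq, P.finrank_W h hd,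
    ← pow_mul, show 2 * d = d * 2 by ring, pow_mul] at h2
  have h3 : Nat.card (P.W₀ h ω) ^ 2 ≤ (Nat.card (fixedSub σ) ^ d) ^ 2 := by
    rw [h2, pow_two]
    exact Nat.mul_le_mul_right _ h1
  exact (Nat.pow_le_pow_iff_left two_ne_zero).1 h3

variable {P h}

theorem Levi.A_eq {g : HSU B} {α : F} (hg : P.Levi h g α) (ω : Ω) :
    (P.A h (g • ω) : Set F) = (fun c => α * σ α * c) '' (P.A h ω) := by
  have key : ∀ {c : F} (hc : c + σ c = 0) (hc' : α * σ α * c + σ (α * σ α * c) = 0),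
      P.Tv h hc' • g • ω = g • ω ↔ P.Tv h hc • ω = ω := fun hc hc' => by
    rw [← mul_smul, show P.Tv h hc' * g = g * P.Tv h hc from (hg.mul_Tv hc).symm, mul_smul,
      smul_left_cancel_iff]
  have hN : α * σ α ≠ 0 :=
    mul_ne_zero hg.scalar_ne fun e => hg.scalar_ne (IsInvol.apply_eq_zero_iff.1 e)
  ext c'
  constructor
  · rintro ⟨hc', e⟩
    obtain ⟨c, rfl⟩ : ∃ c, c' = α * σ α * c := ⟨c' / (α * σ α), (mul_div_cancel₀ _ hN).symm⟩
    have hc : c + σ c = 0 := by
      rw [map_mul, map_mul, h.invol.invol] at hc'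
      refine (mul_eq_zero.1 (?_ : α * σ α * (c + σ c) = 0)).resolve_left hN
      linear_combination hc'
    exact ⟨c, ⟨hc, (key hc hc').1 e⟩, rfl⟩
  · rintro ⟨c, ⟨hc, e⟩, rfl⟩
    have hc' : α * σ α * c + σ (α * σ α * c) = 0 := by
      rw [map_mul, map_mul, h.invol.invol]; linear_combination (α * σ α) * hc
    exact ⟨hc', (key hc hc').2 e⟩

theorem Levi.W₀_eq {g : HSU B} {α : F} (hg : P.Levi h g α) (ω : Ω) :
    (P.W₀ h (g • ω) : Set (P.W h)) = hg.map '' (P.W₀ h ω) := by
  have hN : α * σ α ≠ 0 :=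
    mul_ne_zero hg.scalar_ne fun e => hg.scalar_ne (IsInvol.apply_eq_zero_iff.1 e)
  ext w'
  constructor
  · rintro ⟨a', e⟩
    obtain ⟨w, rfl⟩ := hg.map_bijective.2 w'
    have ha : (a' : F) / (α * σ α) + σ ((a' : F) / (α * σ α)) = -B (w : V) w := by
      have := a'.2
      revert this
      generalize (a' : F) = z
      intro this
      rw [Levi.map_coe, IsHerm.smul_self, ap_eq, h.invol.invol] at this
      rw [map_div₀, map_mul, h.invol.invol, mul_comm (σ α), ← add_div, this, neg_div,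
        mul_comm α, mul_div_cancel_left₀]
      rw [mul_comm]; exact hN
    refine ⟨w, ⟨⟨_, ha⟩, ?_⟩, rfl⟩
    refine smul_left_cancel g ?_
    rw [← mul_smul, hg.mul_El, mul_smul]
    refine Eq.trans ?_ e
    congr 1
    exact P.El_congr h _ _ rfl (mul_div_cancel₀ _ hN)
  · rintro ⟨w, ⟨a, e⟩, rfl⟩
    exact ⟨_, by rw [← mul_smul, ← hg.mul_El, mul_smul, e]⟩

variable (P h)

/-- The counting bound from the conjugates of a moved orbit. -/
theorem card_mul_classes_le [Finite Ω] {d : ℕ} (hd : Module.finrank F V = d + 2) (hd1 : 1 ≤ d)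
    (ω : Ω) :
    (classes σ (P.A h ω)).ncard *
        (MulAction.orbit (HSU (IsHerm.restrict B (P.W h))) (P.W₀ h ω : Set (P.W h))).ncard *
        Nat.card (fixedSub σ) ^ (2 * d + 1) ≤
      Nat.card Ω * (Nat.card (P.A h ω) * Nat.card (P.W₀ h ω)) := by
  classical
  rw [← Nat.card_coe_set_eq, ← Nat.card_coe_set_eq]
  set C := classes σ (P.A h ω)
  set O := MulAction.orbit (HSU (IsHerm.restrict B (P.W h))) (P.W₀ h ω : Set (P.W h))
  have hcls : ∀ k : C, ∃ (g : HSU B) (α : F), P.Levi h g α ∧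
      k.1 = (fun c => α * σ α * c) '' (P.A h ω) := by
    rintro ⟨_, ⟨⟨μ, hμ⟩, rfl⟩⟩
    obtain ⟨α, hα⟩ := h.invol.exists_norm_eq (μ := (μ : F)) μ.2
    have hα0 : α ≠ 0 := fun e => hμ (Subtype.ext (by rw [← hα, e, zero_mul]; rfl))
    obtain ⟨g, hg⟩ := P.exists_levi h (by rw [P.finrank_W h hd]; omega) hα0
    exact ⟨g, α, hg, by rw [hα]⟩
  choose g α hg hgk using hcls
  have horb : ∀ t : O, ∃ b : HSU (IsHerm.restrict B (P.W h)),
      b • (P.W₀ h ω : Set (P.W h)) = t := fun t => t.2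
  choose b hb using horb
  let x : C × O → Ω := fun p => g p.1 • ext' h (P.nondeg h) (b p.2) • ω
  have hxA : ∀ p, (P.A h (x p) : Set F) = p.1.1 := fun p => by
    simp only [x]
    rw [(hg p.1).A_eq, (P.levi_ext' h (b p.2)).A_eq, Set.image_image, hgk p.1]
    simp
  have hxW : ∀ p, (P.W₀ h (x p) : Set (P.W h)) = (hg p.1).map '' p.2.1 := fun p => by
    simp only [x]
    rw [(hg p.1).W₀_eq, (P.levi_ext' h (b p.2)).W₀_eq]
    congr 1
    rw [← hb p.2]
    exact Set.image_congr fun w _ => P.map_ext' h (b p.2) w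
  have hdata : ∀ p, Nat.card (P.A h (x p)) = Nat.card (P.A h ω) ∧
      Nat.card (P.W₀ h (x p)) = Nat.card (P.W₀ h ω) := by
    refine fun p => ⟨?_, ?_⟩
    · show Nat.card (P.A h (x p) : Set F) = Nat.card (P.A h ω : Set F)
      have hN : α p.1 * σ (α p.1) ≠ 0 :=
        mul_ne_zero (hg p.1).scalar_ne fun e => (hg p.1).scalar_ne (IsInvol.apply_eq_zero_iff.1 e)
      rw [hxA, hgk]
      exact Nat.card_image_of_injective (mul_right_injective₀ hN) _
    · show Nat.card (P.W₀ h (x p) : Set (P.W h)) = Nat.card (P.W₀ h ω : Set (P.W h))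
      rw [hxW, ← hb p.2]
      exact (Nat.card_image_of_injective (hg p.1).map_bijective.1 _).trans
        (Nat.card_image_of_injective (MulAction.injective (b p.2)) _)
  have : Fintype (C × O) := by
    have : Finite (P.W h) := Module.finite_of_finite F
    exact Fintype.ofFinite _
  have hinj : Function.Injective
      (fun z : (p : C × O) × MulAction.orbit (P.EU h) (x p) => (z.2 : Ω)) := by
    rintro ⟨p, y, ⟨⟨u, hu⟩, rfl⟩⟩ ⟨p', _, ⟨⟨u', hu'⟩, rfl⟩⟩ e
    change u • x p = u' • x p' at e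
    have e1 : (P.A h (x p) : Set F) = P.A h (x p') := by
      rw [← P.A_orbit h (ω := x p) hu, e, P.A_orbit h hu']
    have e2 : (P.W₀ h (x p) : Set (P.W h)) = P.W₀ h (x p') := by
      rw [← P.W₀_orbit h (ω := x p) hu, e, P.W₀_orbit h hu']
    rw [hxA, hxA] at e1
    have e3 : p.1 = p'.1 := Subtype.ext e1
    rw [hxW, hxW, ← e3] at e2
    have e4 : p = p' :=
      Prod.ext e3 (Subtype.ext ((hg p.1).map_bijective.1.image_injective e2))
    subst e4
    exact congrArg (Sigma.mk p) (Subtype.ext e)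
  have h1 := Nat.card_le_card_of_injective _ hinj
  rw [Nat.card_sigma] at h1
  calc Nat.card C * Nat.card O * Nat.card (fixedSub σ) ^ (2 * d + 1)
      = ∑ _p : C × O, Nat.card (fixedSub σ) ^ (2 * d + 1) := by
        rw [Finset.sum_const, Finset.card_univ, ← Nat.card_eq_fintype_card, Nat.card_prod,
          smul_eq_mul]
    _ ≤ ∑ p : C × O, Nat.card (MulAction.orbit (P.EU h) (x p)) *
          (Nat.card (P.A h ω) * Nat.card (P.W₀ h ω)) := Finset.sum_le_sum fun p _ => by
        rw [Nat.card_coe_set_eq, ← (hdata p).1, ← (hdata p).2]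
        exact P.card_orbit_EU h hd (x p)
    _ ≤ _ := by rw [← Finset.sum_mul]; exact Nat.mul_le_mul_right _ h1

/-- A small transitive set: one moved orbit, on which the Eichler group is regular. -/
theorem rigid [Finite Ω] {d M : ℕ} (hd : Module.finrank F V = d + 2) (hd1 : 1 ≤ d)
    (hamp : Amp (IsHerm.restrict B (P.W h)) d M)
    (hM : Nat.card (fixedSub σ) * M ≤
      (Nat.card (fixedSub σ) + 1) * Nat.card (fixedSub σ) ^ (2 * d + 1))
    (hN : Nat.card Ω < M) {ω : Ω} {c₀ : F} {hc₀ : c₀ + σ c₀ = 0} (hm : P.Tv h hc₀ • ω ≠ ω) :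
    (∀ u ∈ P.EU h, u • ω = ω → u = 1) ∧
      ∀ (ω' : Ω) (c : F) (hc : c + σ c = 0), P.Tv h hc • ω' ≠ ω' → ∃ u ∈ P.EU h, u • ω = ω' := by
  classical
  set q := Nat.card (fixedSub σ) with hq
  have hq2 : 2 ≤ q := IsInvol.card_ge_two (σ := σ)
  have free : ∀ (ω : Ω) (c : F) (hc : c + σ c = 0), P.Tv h hc • ω ≠ ω →
      Nat.card (P.W₀ h ω) = 1 ∧ Nat.card (P.A h ω) = 1 := by
    intro ω c hc hm
    have : Nonempty Ω := ⟨ω⟩
    have : Finite (P.W h) := Module.finite_of_finite F
    obtain ⟨hC1, hC2⟩ := classes_bound h (P.A h ω) (P.A_le h ω) (mem_skew.2 hc)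
      (skew_not_top h P hm)
    have hcount := P.card_mul_classes_le h hd hd1 ω
    set L := (MulAction.orbit (HSU (IsHerm.restrict B (P.W h))) (P.W₀ h ω : Set (P.W h))).ncard
    set a := Nat.card (P.A h ω)
    set C := (classes σ (P.A h ω)).ncard
    have ha : 0 < a := Nat.card_pos
    have hW : Nat.card (P.W₀ h ω) = 1 := by
      by_contra hne
      have h2 := hamp (P.W₀ h ω) (fun e => hne (by rw [e]; exact AddSubgroup.card_bot))
        (P.card_W₀_le h hd hm)
      have h3 : a * (M * Nat.card (P.W₀ h ω)) ≤ Nat.card Ω * (a * Nat.card (P.W₀ h ω)) :=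
        calc a * (M * Nat.card (P.W₀ h ω)) ≤ C * (L * q ^ (2 * d + 1)) := Nat.mul_le_mul hC1 h2
          _ = C * L * q ^ (2 * d + 1) := by ring
          _ ≤ _ := hcount
      rw [← mul_assoc, mul_comm a M, mul_assoc] at h3
      exact absurd (Nat.le_of_mul_le_mul_right h3 (Nat.mul_pos ha Nat.card_pos)) (by omega)
    refine ⟨hW, ?_⟩
    by_contra hne
    have hL : 1 ≤ L := (Set.ncard_pos (Set.toFinite _)).2 ⟨_, MulAction.mem_orbit_self _⟩
    have hale : a ≤ q := by
      rw [hq, ← card_skew h]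
      exact Nat.card_le_card_of_injective _ (AddSubgroup.inclusion_injective (P.A_le h ω))
    have h4 : (a + 1) * q ^ (2 * d + 1) ≤ Nat.card Ω * a := by
      rw [hW, mul_one] at hcount
      refine le_trans (Nat.mul_le_mul_right _ ?_) hcount
      calc a + 1 ≤ C * 1 := by rw [mul_one]; exact hC2 (by omega)
        _ ≤ C * L := Nat.mul_le_mul_left _ hL
    have h5 : q * (a + 1) * q ^ (2 * d + 1) < (q + 1) * a * q ^ (2 * d + 1) :=
      calc q * (a + 1) * q ^ (2 * d + 1) = q * ((a + 1) * q ^ (2 * d + 1)) := by ring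
        _ ≤ q * (Nat.card Ω * a) := Nat.mul_le_mul_left _ h4
        _ < q * (M * a) := Nat.mul_lt_mul_of_pos_left (Nat.mul_lt_mul_of_pos_right hN ha) (by omega)
        _ = q * M * a := by ring
        _ ≤ (q + 1) * q ^ (2 * d + 1) * a := Nat.mul_le_mul_right _ hM
        _ = _ := by ring
    have := Nat.lt_of_mul_lt_mul_right h5
    rw [mul_add, mul_one, add_mul, one_mul] at this
    omega
  have reg : ∀ (ω : Ω) (c : F) (hc : c + σ c = 0), P.Tv h hc • ω ≠ ω →
      ∀ u ∈ P.EU h, u • ω = ω → u = 1 := by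
    intro ω c hc hm u hu e
    obtain ⟨hW, hA⟩ := free ω c hc hm
    obtain ⟨w, a, rfl⟩ := hu
    have hw : w = 0 := by
      have := AddSubgroup.card_eq_one.1 hW
      have hmem : w ∈ P.W₀ h ω := ⟨a, e⟩
      rw [this] at hmem
      exact hmem
    subst hw
    have ha : (a : F) + σ (a : F) = 0 := by simpa using a.2
    have eT : P.El h 0 a = P.Tv h ha := by
      refine ap_ext fun y => ?_
      rw [El_apply, MinIndexSU.T_apply]
      simp
    have hmem : (a : F) ∈ P.A h ω := ⟨ha, by rw [← eT, e]⟩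
    rw [AddSubgroup.card_eq_one.1 hA] at hmem
    rw [← P.El_zero h]
    exact P.El_congr h _ _ rfl hmem
  refine ⟨reg ω c₀ hc₀ hm, fun ω' c hc hm' => ?_⟩
  by_contra hne
  have horb : ∀ (x : Ω) (c : F) (hc : c + σ c = 0), P.Tv h hc • x ≠ x →
      q ^ (2 * d + 1) ≤ (MulAction.orbit (P.EU h) x).ncard := by
    intro x c hc hx
    have h1 := P.card_orbit_EU h hd x
    rw [(free x c hc hx).1, (free x c hc hx).2, mul_one, mul_one] at h1
    exact h1
  have hdis : Disjoint (MulAction.orbit (P.EU h) ω) (MulAction.orbit (P.EU h) ω') := by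
    rw [Set.disjoint_left]
    intro y hy hy'
    apply hne
    obtain ⟨⟨u, hu⟩, e⟩ := hy
    obtain ⟨⟨u', hu'⟩, e'⟩ := hy'
    refine ⟨u'⁻¹ * u, (P.EU h).mul_mem ((P.EU h).inv_mem hu') hu, ?_⟩
    rw [mul_smul, inv_smul_eq_iff]
    exact e.trans e'.symm
  have h1 := Set.ncard_union_eq hdis (Set.toFinite _) (Set.toFinite _)
  have h2 : ((MulAction.orbit (P.EU h) ω) ∪ (MulAction.orbit (P.EU h) ω')).ncard ≤ Nat.card Ω := by
    rw [← Set.ncard_univ]
    exact Set.ncard_le_ncard (Set.subset_univ _) Set.finite_univ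
  have h3 := horb ω c₀ hc₀ hm
  have h4 := horb ω' c hc hm'
  have h5 : q * M ≤ q * (2 * q ^ (2 * d + 1)) := hM.trans (by
    rw [← mul_assoc]; exact Nat.mul_le_mul_right _ (by omega))
  have h6 : M ≤ 2 * q ^ (2 * d + 1) := Nat.le_of_mul_le_mul_left h5 (by omega)
  omega

end HPair

end CfsgLib.LocalEvenB.MinIndexSU
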